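import Cfsg.Agent.Zass.Ker

/-!
# The setwise stabiliser of two points
-/

set_option autoImplicit false

namespace CL.Zass

open MulAction

variable {G Ω : Type*} [Group G] [MulAction G Ω]

/-- The stabiliser of the unordered pair `{a, b}`. -/
def pst (G : Type*) {Ω : Type*} [Group G] [MulAction G Ω] (a b : Ω) : Subgroup G where
  carrier := {g | (g • a = a ∧ g • b = b) ∨ (g • a = b ∧ g • b = a)}
  one_mem' := Or.inl ⟨one_smul _ _, one_smul _ _⟩
  mul_mem' := by
    rintro g g' (⟨h1, h2⟩ | ⟨h1, h2⟩) (⟨h3, h4⟩ | ⟨h3, h4⟩)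
    · left; rw [mul_smul, mul_smul, h3, h4]; exact ⟨h1, h2⟩
    · right; rw [mul_smul, mul_smul, h3, h4]; exact ⟨h2, h1⟩
    · right; rw [mul_smul, mul_smul, h3, h4]; exact ⟨h1, h2⟩
    · left; rw [mul_smul, mul_smul, h3, h4]; exact ⟨h2, h1⟩
  inv_mem' := by
    rintro g (⟨h1, h2⟩ | ⟨h1, h2⟩)
    · left; rw [inv_smul_eq_iff, inv_smul_eq_iff]; exact ⟨h1.symm, h2.symm⟩
    · right; exact swap_inv h1 h2

theorem mem_pst {a b : Ω} {g : G} :
    g ∈ pst G a b ↔ (g • a = a ∧ g • b = b) ∨ (g • a = b ∧ g • b = a) := Iff.rfl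

theorem st2_le_pst (a b : Ω) : st2 G a b ≤ pst G a b := fun _ hg => Or.inl hg

theorem swap_mem_pst {a b : Ω} {s : G} (hsa : s • a = b) (hsb : s • b = a) : s ∈ pst G a b :=
  Or.inr ⟨hsa, hsb⟩

theorem swap_notMem_st2 {a b : Ω} (hab : a ≠ b) {s : G} (hsa : s • a = b) : s ∉ st2 G a b :=
  fun hs => hab ((show s • a = a from hs.1).symm.trans hsa)

theorem conj_mem_st2_of_pst {a b : Ω} {g x : G} (hg : g ∈ pst G a b) (hx : x ∈ st2 G a b) :
    g * x * g⁻¹ ∈ st2 G a b := by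
  rcases hg with hg | hg
  · exact (st2 G a b).mul_mem ((st2 G a b).mul_mem hg hx) ((st2 G a b).inv_mem hg)
  · exact conj_mem_st2_of_swap hg.1 hg.2 hx

theorem pst_le_normalizer (a b : Ω) : pst G a b ≤ Subgroup.normalizer (st2 G a b : Set G) := by
  intro g hg
  rw [Subgroup.mem_normalizer_iff]
  intro x
  refine ⟨fun hx => conj_mem_st2_of_pst hg hx, fun hx => ?_⟩
  have := conj_mem_st2_of_pst ((pst G a b).inv_mem hg) hx
  simpa [mul_assoc] using this

theorem normal_st2_pst (a b : Ω) : ((st2 G a b).subgroupOf (pst G a b)).Normal :=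
  ⟨fun x hx g => conj_mem_st2_of_pst (x := x) g.2 hx⟩

theorem mul_self_mem_st2_of_pst {a b : Ω} {g : G} (hg : g ∈ pst G a b) : g * g ∈ st2 G a b := by
  rcases hg with hg | hg
  · exact (st2 G a b).mul_mem hg hg
  · exact mul_mem_st2_of_swap hg.1 hg.2 hg.1 hg.2

theorem st2_ne_bot_of_zass (hZ : Cfsg.IsZassenhausGroup G Ω) {a b : Ω} (hab : a ≠ b) :
    st2 G a b ≠ ⊥ := by
  obtain ⟨g, hg1, c, d, hcd, hgc, hgd⟩ := hZ.2.2.2.1
  obtain ⟨k, hk1, hk2⟩ := (pre_of_zass hZ).two hcd hab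
  have := conj_mem_st2 k (show g ∈ st2 G c d from ⟨hgc, hgd⟩)
  rw [hk1, hk2] at this
  intro hbot
  rw [hbot, Subgroup.mem_bot] at this
  exact hg1 (by simpa using this)

theorem exists_st2_ne_one_of_zass (hZ : Cfsg.IsZassenhausGroup G Ω) {a b : Ω} (hab : a ≠ b) :
    ∃ x ∈ st2 G a b, x ≠ 1 := by
  by_contra hcon
  push Not at hcon
  exact st2_ne_bot_of_zass hZ hab ((Subgroup.eq_bot_iff_forall _).2 hcon)

theorem one_lt_card_st2_of_zass (hZ : Cfsg.IsZassenhausGroup G Ω) [Finite Ω] {a b : Ω}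
    (hab : a ≠ b) : 1 < Nat.card (st2 G a b) := by
  have := (pre_of_zass hZ).finite
  exact (Subgroup.one_lt_card_iff_ne_bot _).2 (st2_ne_bot_of_zass hZ hab)

theorem four_le_card_of_zass (hZ : Cfsg.IsZassenhausGroup G Ω) [Finite Ω] : 4 ≤ Nat.card Ω := by
  have h := pre_of_zass hZ
  obtain ⟨a⟩ := h.nonempty
  obtain ⟨b, hb⟩ := h.exists_ne a
  have h1 := one_lt_card_st2_of_zass hZ hb
  have h2 := h.three_le_card
  have h3 := Nat.le_of_dvd (by omega) (h.card_st2_dvd hb)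
  omega

namespace Pre

theorem mem_pst_of_conj_mem (h : Pre G Ω) {a b : Ω} (hab : a ≠ b) {x g : G} (hx : x ∈ st2 G a b)
    (hx1 : x ≠ 1) (hg : g * x * g⁻¹ ∈ st2 G a b) : g ∈ pst G a b :=
  h.preserves_of_conj_mem hab hx hx1 hg

theorem normalizer_le_pst (h : Pre G Ω) {a b : Ω} (hab : a ≠ b) {D : Subgroup G}
    (hD : D ≤ st2 G a b) (hne : D ≠ ⊥) : Subgroup.normalizer (D : Set G) ≤ pst G a b := by
  intro g hg
  obtain ⟨⟨x, hx⟩, hx1⟩ := (Subgroup.ne_bot_iff_exists_ne_one).1 hne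
  rw [Subgroup.mem_normalizer_iff] at hg
  exact h.mem_pst_of_conj_mem hab (hD hx) (fun hh => hx1 (Subtype.ext hh)) (hD ((hg x).1 hx))

theorem normalizer_st2 (h : Pre G Ω) {a b : Ω} (hab : a ≠ b) (hne : st2 G a b ≠ ⊥) :
    Subgroup.normalizer (st2 G a b : Set G) = pst G a b :=
  le_antisymm (h.normalizer_le_pst hab le_rfl hne) (pst_le_normalizer a b)

theorem index_st2_pst (h : Pre G Ω) {a b : Ω} (hab : a ≠ b) :
    ((st2 G a b).subgroupOf (pst G a b)).index = 2 := by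
  obtain ⟨s, hsa, hsb⟩ := h.two hab hab.symm
  rw [Subgroup.index_eq_two_iff]
  refine ⟨⟨s, swap_mem_pst hsa hsb⟩, ?_⟩
  rintro ⟨g, hg | hg⟩
  · right
    exact ⟨hg, swap_notMem_st2 hab (mul_swap hsa hsb hg).1⟩
  · left
    exact ⟨mul_mem_st2_of_swap hg.1 hg.2 hsa hsb, swap_notMem_st2 hab hg.1⟩

theorem relIndex_st2_pst (h : Pre G Ω) {a b : Ω} (hab : a ≠ b) :
    (st2 G a b).relIndex (pst G a b) = 2 := h.index_st2_pst hab

theorem card_pst (h : Pre G Ω) {a b : Ω} (hab : a ≠ b) :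
    Nat.card (pst G a b) = 2 * Nat.card (st2 G a b) := by
  rw [← ((st2 G a b).subgroupOf (pst G a b)).card_mul_index, h.index_st2_pst hab,
    Nat.card_congr (Subgroup.subgroupOfEquivOfLe (st2_le_pst a b)).toEquiv, mul_comm]

theorem two_mul_index_pst (h : Pre G Ω) [Finite Ω] {a b : Ω} (hab : a ≠ b) :
    2 * (pst G a b).index = Nat.card Ω * (Nat.card Ω - 1) := by
  have := h.finite
  have h1 := (pst G a b).card_mul_index
  rw [h.card_pst hab, h.card_eq' hab] at h1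
  have hd : 0 < Nat.card (st2 G a b) := Nat.card_pos
  apply Nat.eq_of_mul_eq_mul_right hd
  rw [← h1]; ring

theorem index_st2 (h : Pre G Ω) [Finite Ω] {a b : Ω} (hab : a ≠ b) :
    (st2 G a b).index = Nat.card Ω * (Nat.card Ω - 1) := by
  have := h.finite
  have h1 := (st2 G a b).card_mul_index
  rw [h.card_eq' hab] at h1
  have hd : 0 < Nat.card (st2 G a b) := Nat.card_pos
  apply Nat.eq_of_mul_eq_mul_right hd
  rw [← h1]; ring

/-- A swapping element that commutes with no non-identity element of the two-point stabiliser and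
whose square centralises it inverts it. -/
theorem inverts_of_fpf {H : Subgroup G} [Finite H] {s : G} (hs : ∀ x ∈ H, s * x * s⁻¹ ∈ H)
    (hss : ∀ x ∈ H, s * s * x = x * (s * s)) (hfpf : ∀ x ∈ H, s * x = x * s → x = 1) :
    ∀ x ∈ H, s * x * s⁻¹ = x⁻¹ := by
  let φ : H →* H :=
    { toFun := fun x => ⟨s * x * s⁻¹, hs x x.2⟩
      map_one' := by ext; simp
      map_mul' := by intro x y; ext; simp [mul_assoc] }
  have h1 : MonoidHom.FixedPointFree φ := by
    intro x hx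
    have : s * x * s⁻¹ = x := congrArg Subtype.val hx
    exact Subtype.ext (hfpf x x.2 (by rw [← mul_inv_eq_iff_eq_mul]; exact this))
  have h2 : Function.Involutive φ := by
    intro x
    apply Subtype.ext
    change s * (s * x * s⁻¹) * s⁻¹ = x
    calc s * (s * x * s⁻¹) * s⁻¹ = (s * s * x) * (s * s)⁻¹ := by group
      _ = x := by rw [hss x x.2]; group
  have h3 := h1.coe_eq_inv_of_involutive h2
  intro x hx
  exact congrArg Subtype.val (congrFun h3 ⟨x, hx⟩)

theorem comm_of_inverts {H : Subgroup G} {s : G} (hs : ∀ x ∈ H, s * x * s⁻¹ = x⁻¹) :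
    ∀ x ∈ H, ∀ y ∈ H, x * y = y * x := by
  intro x hx y hy
  have h1 := hs _ (H.mul_mem hx hy)
  have h2 : s * (x * y) * s⁻¹ = (s * x * s⁻¹) * (s * y * s⁻¹) := by group
  rw [h2, hs x hx, hs y hy, ← mul_inv_rev, inv_inj] at h1
  exact h1.symm

/-- In odd degree every involution interchanging `a`, `b` inverts the two-point stabiliser. -/
theorem inverts_of_odd (h : Pre G Ω) [Finite Ω] (ho : Odd (Nat.card Ω)) {a b : Ω} (hab : a ≠ b)
    {s : G} (hs : s * s = 1) (hsa : s • a = b) (hsb : s • b = a) :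
    ∀ x ∈ st2 G a b, s * x * s⁻¹ = x⁻¹ := by
  have := h.finite
  refine inverts_of_fpf (fun x hx => conj_mem_st2_of_swap hsa hsb hx) (by simp [hs]) ?_
  intro x hx hc
  have hs1 : s ≠ 1 := by rintro rfl; exact hab (by simpa using hsa)
  have h1 := nfix_mod_two (Ω := Ω) hs
  have h2 := h.nfix_le_two hs1
  rw [Nat.odd_iff] at ho
  obtain ⟨c, hc1, hc2⟩ := nfix_eq_one_iff.1 (show nfix Ω s = 1 by omega)
  have hxc : x • c = c := hc2 _ (by rw [← mul_smul, hc, mul_smul, hc1])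
  have hca : c ≠ a := by rintro rfl; exact hab (hc1.symm.trans hsa)
  have hcb : c ≠ b := by rintro rfl; exact hab (hsb.symm.trans hc1)
  exact h.three x hab hcb.symm hca.symm hx.1 hx.2 hxc

/-- if one swapping element inverts the two-point stabiliser, then all do -/
theorem inverts_of_inverts {a b : Ω} {s s' : G} (hsa : s • a = b) (hsb : s • b = a)
    (hs : ∀ x ∈ st2 G a b, s * x * s⁻¹ = x⁻¹) (hsa' : s' • a = b) (hsb' : s' • b = a) :
    ∀ x ∈ st2 G a b, s' * x * s'⁻¹ = x⁻¹ := by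
  intro x hx
  have hy := inv_mul_mem_st2_of_swap hsa hsb hsa' hsb'
  have hc := comm_of_inverts hs _ hy x hx
  calc s' * x * s'⁻¹ = s * ((s⁻¹ * s') * x) * s'⁻¹ := by group
    _ = s * x * s⁻¹ := by rw [hc]; group
    _ = x⁻¹ := hs x hx

/-- if a swapping involution inverts the two-point stabiliser, all swapping elements are
involutions -/
theorem swap_mul_self {a b : Ω} {s s' : G} (hs2 : s * s = 1) (hsa : s • a = b) (hsb : s • b = a)
    (hs : ∀ x ∈ st2 G a b, s * x * s⁻¹ = x⁻¹) (hsa' : s' • a = b) (hsb' : s' • b = a) :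
    s' * s' = 1 := by
  have hy := inv_mul_mem_st2_of_swap hsa hsb hsa' hsb'
  have h1 := hs _ hy
  have h2 : s⁻¹ = s := inv_eq_of_mul_eq_one_right hs2
  calc s' * s' = (s * (s⁻¹ * s') * s⁻¹) * (s * s') := by group
    _ = 1 := by rw [h1, h2]; group

end Pre

end CL.Zass
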