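import Cfsg.Agent.Zass.FeitCore
import Cfsg.Agent.PF.Feit
import Cfsg.Agent.S1524
import Cfsg.Agent.Solv.FPFThompson

/-!
Feit's theorem on Zassenhaus groups whose two-point stabiliser has odd order.
-/

set_option autoImplicit false

namespace CL.Zass

open MulAction Subgroup Cfsg CL.PF

universe u

section
variable {G Ω : Type*} [Group G] [MulAction G Ω]

theorem IsKer.isNilpotent {a b : Ω} {F : Subgroup G} (hF : IsKer a F) (h : Pre G Ω) [Finite Ω]
    (hab : a ≠ b) (hd : st2 G a b ≠ ⊥) : Group.IsNilpotent F := by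
  have := h.finite
  exact FPF.isNilpotent_of_fpf hF.st2_le_normalizer (hF.fpf h hab) hd

theorem IsKer.sup_st2 {a b : Ω} {F : Subgroup G} (hF : IsKer a F) (h : Pre G Ω) [Finite Ω]
    (hab : a ≠ b) : F ⊔ st2 G a b = stabilizer G a := by
  refine le_antisymm (sup_le hF.le inf_le_left) fun g hg => ?_
  obtain ⟨u, hu, x, hx, rfl⟩ := hF.decomp h hab hg
  exact mul_mem_sup hu hx

theorem index_commutator_congr {A B : Type*} [Group A] [Group B] (e : A ≃* B) :
    (_root_.commutator A).index = (_root_.commutator B).index :=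
  Nat.card_congr e.abelianizationCongr.toEquiv

theorem relIndex_commutator_eq {A : Type*} [Group A] (H : Subgroup A) :
    ⁅H, H⁆.relIndex H = (_root_.commutator H).index := by
  rw [relIndex, ← map_subtype_commutator, ← comap_subtype,
    comap_map_eq_self_of_injective H.subtype_injective]

theorem OI.feit [Finite Ω] (h : OI G Ω) {a b : Ω} (hab : a ≠ b) (hd : 1 < Nat.card (st2 G a b))
    {F : Subgroup G} (hF : IsKer a F) :
    Nat.card Ω - 2 ∣ 2 * Nat.card (st2 G a b) ∨
      (IsPGroup 2 F ∧ ¬ IsMulCommutative F ∧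
        (_root_.commutator F).index ≤ 4 * Nat.card (st2 G a b) ^ 2 + 1) := by
  have := h.toPre.finite
  have : Fintype G := Fintype.ofFinite G
  have : Fintype (normalizer (F : Set G)) := Fintype.ofFinite _
  have hne : st2 G a b ≠ ⊥ := fun h0 => by rw [h0] at hd; simp at hd
  have hT := tiNormal_subgroupOf (K := F) (L := normalizer (F : Set G)) le_normalizer
    (hF.ti h.toPre) rfl
  have hN := hT.normal
  have hfp : FpfMod (F.subgroupOf (normalizer (F : Set G))) (F.subgroupOf (normalizer (F : Set G)))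
      ⊥ := fpfMod_subgroupOf (hF.centralizer_le h.toPre)
  have hS : inducedIrrAbove (F.subgroupOf (normalizer (F : Set G))) ⊥ = relSet F := by
    rw [inducedIrrAbove_eq, hfp.seqIndD_eq]; rfl
  have e := subgroupOfEquivOfLe (le_normalizer (H := F))
  have hc : Nat.card (F.subgroupOf (normalizer (F : Set G))) = Nat.card F := Nat.card_congr e.toEquiv
  have hi := hF.index_normalizer h.toPre hab
  have hc1 := hF.card_add_one h.toPre
  by_cases he : Nat.card F = Nat.card (st2 G a b) + 1
  · left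
    rw [show Nat.card Ω - 2 = Nat.card (st2 G a b) by omega]
    exact Dvd.intro_left _ rfl
  have h1 : F.subgroupOf (normalizer (F : Set G)) ≠ ⊥ := by
    intro h0
    rw [h0, card_bot] at hc
    exact hF.ne_bot h.toPre (card_eq_one.1 hc.symm)
  have h2 : F.subgroupOf (normalizer (F : Set G)) ≠ ⊤ := by
    intro h0
    rw [h0, index_top] at hi
    omega
  rcases feit_coherence hfp (hT.iso_inducedIrrAbove ⊥)
    (fun α hα => Char.indFun_one_eq_zero _ (apply_one_of_mem_zspanOn hα)) h1 h2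
    (by rw [hc, hi]; exact he) with hcoh | ⟨p, hp, ⟨m, hm⟩, hna, hidx⟩
  · rw [hS] at hcoh
    exact Or.inl (h.dvd_of_coherent hab hd hF hcoh)
  rw [hc] at hm
  by_cases hp2 : p = 2
  · subst hp2
    refine Or.inr ⟨IsPGroup.of_card hm, fun hcm => hna ?_, ?_⟩
    · exact ⟨⟨fun x y => e.injective (by rw [map_mul, map_mul, hcm.is_comm.comm])⟩⟩
    · rw [relIndex_commutator_eq, index_commutator_congr e, hi] at hidx
      exact hidx
  · left
    refine h.dvd_of_coherent hab hd hF ?_
    rw [← hS]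
    refine Cfsg.Agent.S1524.result F _ (st2 G a b) ?_ le_normalizer hF.st2_le_normalizer
      (hF.ne_bot h.toPre) hne (hF.isNilpotent h.toPre hab hne) ?_ ?_ ?_ ?_ (hF.ti h.toPre) rfl
    · rw [hF.normalizer_eq h.toPre, h.toPre.card_stabilizer hab, ← hF.card_eq h.toPre, hm]
      exact ((hp.odd_of_ne_two hp2).pow).mul (h.odd hab)
    · exact fun x hx u hu => hF.conj_mem ((hF.mem_normalizer_iff h.toPre x).1 hx) hu
    · exact eq_bot_iff.2 fun u hu => hF.eq_one_of_mem_st2 hab hu.1 hu.2
    · rw [hF.normalizer_eq h.toPre, hF.sup_st2 h.toPre hab]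
    · exact fun w hw hw1 u hu hc => hF.eq_one_of_commute h.toPre hab hu hw hw1 hc

theorem IsKer.subgroupOf {a : Ω} {F N : Subgroup G} (hF : IsKer a F) :
    IsKer (G := N) a (F.subgroupOf N) := by
  intro g
  rw [mem_subgroupOf, hF g]
  exact or_congr (by simp) Iff.rfl

theorem card_st2_subgroup_dvd (N : Subgroup G) (a b : Ω) :
    Nat.card (st2 N a b) ∣ Nat.card (st2 G a b) := by
  refine card_dvd_of_injective (((N.subtype).comp (st2 N a b).subtype).codRestrict (st2 G a b)
    fun x => x.2) fun x y hxy => ?_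
  have h1 := congrArg Subtype.val hxy
  exact Subtype.ext (Subtype.ext h1)

end

/-- reduction of a statement about Zassenhaus groups to a simple normal subgroup -/
theorem exists_simple_aux {Ω : Type*} [Finite Ω] (n : ℕ) :
    ∀ (G : Type u) [Group G] [MulAction G Ω], IsZassenhausGroup G Ω → Nat.card G = n →
      ∃ N : Subgroup G, IsZassenhausGroup N Ω ∧ IsSimpleGroup N ∧
        ∀ (a : Ω) (F : Subgroup G), IsKer a F → F ≤ N := by
  induction n using Nat.strong_induction_on with
  | _ n ih =>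
  intro G _ _ hZ hn
  have := (pre_of_zass hZ).finite
  have := nontrivial_of_zass hZ
  by_cases hs : IsSimpleGroup G
  · refine ⟨⊤, zass_of_normal hZ ⊤ top_ne_bot, ?_, fun _ _ _ => le_top⟩
    exact topEquiv.isSimpleGroup
  obtain ⟨N, hN, hN1, hN2⟩ : ∃ N : Subgroup G, N.Normal ∧ N ≠ ⊥ ∧ N ≠ ⊤ := by
    by_contra hc
    push Not at hc
    exact hs ⟨fun N hN => (em (N = ⊥)).imp id (hc N hN)⟩
  have hlt : Nat.card N < n := by
    rw [← hn]
    exact lt_of_le_of_ne N.card_le_card_group fun h0 => hN2 (eq_top_of_card_eq N h0)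
  obtain ⟨M, hM, hMs, hMF⟩ := ih _ hlt N (zass_of_normal hZ N hN1) rfl
  let e := M.equivMapOfInjective N.subtype N.subtype_injective
  have he : ∀ (x : M) (c : Ω), e x • c = x • c := fun _ _ => rfl
  refine ⟨M.map N.subtype, ?_, e.symm.isSimpleGroup, fun a F hF u hu => ?_⟩
  · obtain ⟨-, h2, h3, ⟨g, hg, hg'⟩, h5⟩ := id hM
    have hP := pre_of_zass hM
    have hP' : Pre (M.map N.subtype) Ω := (pre_of_zass hZ).subgroup _ fun hab hcd => by
      obtain ⟨k, hk⟩ := hP.two hab hcd
      exact ⟨e k, (e k).2, hk⟩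
    refine ⟨hP'.faithful, hP'.multTrans, fun g a b c => hP'.three g, ⟨e g, by simpa using hg, hg'⟩,
      fun K hK hKt => ?_⟩
    obtain ⟨c, hc⟩ := h5 (K.comap e.toMonoidHom) (hK.comap _) ⟨fun x y => by
      obtain ⟨k, hk⟩ := hKt.exists_smul_eq x y
      obtain ⟨k', hk'⟩ := e.surjective k
      refine ⟨⟨k', by simp [mem_comap, hk']⟩, ?_⟩
      rw [← hk]
      change e k' • x = _
      rw [hk']; rfl⟩
    refine ⟨c, fun h0 => hc (eq_bot_iff.2 fun x hx => ?_)⟩
    have h6 : (⟨e x, x.2⟩ : K) ∈ stabilizer K c := hx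
    rw [h0, mem_bot] at h6
    have h7 : e x = 1 := congrArg Subtype.val h6
    rw [mem_bot]
    exact Subtype.ext (by simpa using h7)
  · have hle := ker_le_of_normal hZ N hN1 hF
    exact ⟨⟨u, hle hu⟩, hMF a _ hF.subgroupOf hu, rfl⟩

variable {G Ω : Type*} [Group G] [MulAction G Ω]

theorem exists_simple (hZ : IsZassenhausGroup G Ω) [Finite Ω] :
    ∃ N : Subgroup G, IsZassenhausGroup N Ω ∧ IsSimpleGroup N ∧
      ∀ (a : Ω) (F : Subgroup G), IsKer a F → F ≤ N := exists_simple_aux _ G hZ rfl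

/-- Feit's theorem -/
theorem feit_odd (hZ : IsZassenhausGroup G Ω) [Finite Ω] {a b : Ω} (hab : a ≠ b)
    (ho : Odd (Nat.card (st2 G a b))) {F : Subgroup G} (hF : IsKer a F) :
    Nat.card Ω - 2 ≤ 2 * Nat.card (st2 G a b) ∨
      (IsPGroup 2 F ∧ ¬ IsMulCommutative F ∧
        (_root_.commutator F).index ≤ 4 * Nat.card (st2 G a b) ^ 2 + 1) := by
  have := (pre_of_zass hZ).finite
  obtain ⟨N, hN, hNs, hNF⟩ := exists_simple hZ
  have hdvd := card_st2_subgroup_dvd N a b
  have hle := Nat.le_of_dvd Nat.card_pos hdvd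
  have hO := oi_of_simple hN hab (ho.of_dvd_nat hdvd)
  have e := subgroupOfEquivOfLe (hNF a F hF)
  rcases hO.feit hab (one_lt_card_st2_of_zass hN hab) hF.subgroupOf with h1 | ⟨h1, h2, h3⟩
  · left
    have := Nat.le_of_dvd (Nat.mul_pos two_pos Nat.card_pos) h1
    omega
  · refine Or.inr ⟨h1.of_equiv e, fun hcm => h2 ?_, ?_⟩
    · exact ⟨⟨fun x y => e.injective (by rw [map_mul, map_mul, hcm.is_comm.comm])⟩⟩
    · rw [← index_commutator_congr e]
      exact h3.trans (by gcongr)

/-- the degree of a Zassenhaus group is one more than a prime power -/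
theorem exists_isPGroup_ker (hZ : IsZassenhausGroup G Ω) [Finite Ω] {a : Ω} {F : Subgroup G}
    (hF : IsKer a F) : ∃ p : ℕ, p.Prime ∧ IsPGroup p F := by
  have h := pre_of_zass hZ
  obtain ⟨b, hb⟩ := h.exists_ne a
  have key : Nat.card Ω - 2 ≤ 2 * Nat.card (st2 G a b) → ∃ p : ℕ, p.Prime ∧ IsPGroup p F := by
    intro h1
    obtain ⟨-, p, hp, hp'⟩ := hF.elementary_of_large h hb.symm h1
    exact ⟨p, hp, IsKer.isPGroup_of_pow hp'⟩
  rcases Nat.even_or_odd (Nat.card (st2 G a b)) with he | ho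
  · exact key (h.le_two_mul_of_even hb.symm he)
  · rcases feit_odd hZ hb.symm ho hF with h1 | h1
    · exact key h1
    · exact ⟨2, Nat.prime_two, h1.1⟩

end CL.Zass
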