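import Cfsg.Agent.Zass.Frob
import Cfsg.Agent.S0054

/-!
# Normal subgroups of Zassenhaus groups
-/

set_option autoImplicit false

namespace CL.Zass

open MulAction Subgroup

variable {G Ω : Type*} [Group G] [MulAction G Ω]

theorem Pre.subgroup (h : Pre G Ω) (N : Subgroup G)
    (h2 : ∀ {a b c d : Ω}, a ≠ b → c ≠ d → ∃ g ∈ N, g • a = c ∧ g • b = d) : Pre N Ω where
  two := fun hab hcd => by
    obtain ⟨g, hg, h1, h2⟩ := h2 hab hcd
    exact ⟨⟨g, hg⟩, h1, h2⟩
  three := fun g _ _ _ hab hbc hac ha hb hc => Subtype.ext (h.three g hab hbc hac ha hb hc)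
  third := h.third
  nonempty := h.nonempty

theorem Pre.normal_transitive (h : Pre G Ω) (N : Subgroup G) [N.Normal] (hN : N ≠ ⊥) :
    IsPretransitive N Ω := by
  have := isPreprimitive_of_is_two_pretransitive h.multTrans
  apply IsQuasiPreprimitive.isPretransitive_of_normal
  intro hfix
  apply hN
  rw [Subgroup.eq_bot_iff_forall]
  intro g hg
  apply h.eq_one_of_forall
  intro x
  have : x ∈ fixedPoints N Ω := by rw [hfix]; trivial
  exact this ⟨g, hg⟩

/-- If no element of a nontrivial normal subgroup fixes two points, there is a regular normal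
subgroup. -/
theorem Pre.exists_regular_normal (h : Pre G Ω) [Finite Ω] (N : Subgroup G) [hNn : N.Normal]
    (hN : N ≠ ⊥) (hfix : ∀ x ∈ N, ∀ c d : Ω, c ≠ d → x • c = c → x • d = d → x = 1) :
    ∃ K : Subgroup G, K.Normal ∧ K ≤ N ∧ IsPretransitive K Ω ∧ ∀ c : Ω, stabilizer K c = ⊥ := by
  have := h.finite
  have ht := h.normal_transitive N hN
  obtain ⟨a⟩ := h.nonempty
  have hM : CL.Frob.IsMalnormal (stabilizer N a) := by
    intro g x hx hgx hx1
    by_contra hg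
    apply hx1
    have h1 : ((g : G) * x * (g : G)⁻¹) • a = a := hgx
    have h2 : ((g : G) * x * (g : G)⁻¹) • ((g : G) • a) = (g : G) • a := (conj_fix_iff _ _ a).2 hx
    have := hfix _ (g * x * g⁻¹).2 a _ (Ne.symm hg) h1 h2
    exact Subtype.ext (by simpa using this)
  obtain ⟨K, hK, -, hc⟩ := hM.exists_normal_complement
  have hmem : ∀ g : G, g ∈ K.map N.subtype ↔ g ∈ N ∧ (g = 1 ∨ ∀ c : Ω, g • c ≠ c) := by
    intro g
    constructor
    · rintro ⟨x, hx, rfl⟩
      refine ⟨x.2, ?_⟩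
      rw [hK, CL.Frob.mem_kernel_iff] at hx
      rcases hx with rfl | hx
      · left; rfl
      · right
        intro c hc
        obtain ⟨k, hk⟩ := ht.exists_smul_eq c a
        apply hx k
        change ((k : G) * x * (k : G)⁻¹) • a = a
        rw [← hk]
        exact (conj_fix_iff _ _ c).2 hc
    · rintro ⟨hg, rfl | h1⟩
      · exact Subgroup.one_mem _
      · refine ⟨⟨g, hg⟩, ?_, rfl⟩
        rw [hK, CL.Frob.mem_kernel_iff]
        right
        intro k hk
        have h3 : ((k : G) * g * (k : G)⁻¹) • a = a := hk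
        rw [mul_smul, mul_smul, ← eq_inv_smul_iff] at h3
        exact h1 _ h3
  refine ⟨K.map N.subtype, ⟨fun x hx g => ?_⟩, Subgroup.map_subtype_le K, ⟨fun c d => ?_⟩, fun c => ?_⟩
  · rw [hmem] at hx ⊢
    refine ⟨hNn.conj_mem x hx.1 g, ?_⟩
    rcases hx.2 with rfl | hx2
    · left; simp
    · right
      intro c hc
      rw [mul_smul, mul_smul, ← eq_inv_smul_iff] at hc
      exact hx2 _ hc
  · have key : ∀ c : Ω, ∃ k ∈ K.map N.subtype, k • a = c := by
      intro c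
      obtain ⟨n, hn⟩ := ht.exists_smul_eq a c
      obtain ⟨⟨k, y⟩, hky⟩ := hc.2 n
      refine ⟨(k : N), ⟨k, k.2, rfl⟩, ?_⟩
      have hy : ((y : N) : G) • a = a := y.2
      rw [← hn, ← hky]
      change _ = (((k : N) : G) * ((y : N) : G)) • a
      rw [mul_smul, hy]
    obtain ⟨k, hk, hkc⟩ := key c
    obtain ⟨l, hl, hld⟩ := key d
    refine ⟨⟨l * k⁻¹, Subgroup.mul_mem _ hl (Subgroup.inv_mem _ hk)⟩, ?_⟩
    change (l * k⁻¹) • c = d
    rw [mul_smul, ← hkc, inv_smul_smul, hld]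
  · rw [Subgroup.eq_bot_iff_forall]
    rintro ⟨x, hx⟩ hxc
    rcases ((hmem x).1 hx).2 with rfl | h1
    · rfl
    · exact absurd hxc (h1 c)

section

variable (hZ : Cfsg.IsZassenhausGroup G Ω) [Finite Ω] (N : Subgroup G) [hNn : N.Normal] (hN : N ≠ ⊥)
include hZ hN

theorem exists_mem_st2_of_normal {a b : Ω} (hab : a ≠ b) :
    ∃ x ∈ N, x ≠ 1 ∧ x ∈ st2 G a b := by
  have h := pre_of_zass hZ
  by_contra hcon
  push Not at hcon
  obtain ⟨K, hKn, -, hKt, hKr⟩ := h.exists_regular_normal N hN (by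
    intro x hx c d hcd hc hd
    by_contra hx1
    obtain ⟨k, hk1, hk2⟩ := h.two hcd hab
    have := conj_mem_st2 k (show x ∈ st2 G c d from ⟨hc, hd⟩)
    rw [hk1, hk2] at this
    exact hcon _ (hNn.conj_mem x hx k) (by simpa using hx1) this)
  obtain ⟨c, hc⟩ := hZ.2.2.2.2 K hKn hKt
  exact hc (hKr c)

theorem ker_le_of_normal {a : Ω} {F : Subgroup G} (hF : IsKer a F) : F ≤ N := by
  have h := pre_of_zass hZ
  obtain ⟨b, hb⟩ := h.exists_ne a
  obtain ⟨x, hxN, hx1, hx⟩ := exists_mem_st2_of_normal hZ N hN hb.symm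
  exact hF.le_of_mem_of_notMem h (fun u _ y hy => hNn.conj_mem y hy u) hxN hx.1
    (fun hxF => hx1 (hF.eq_one_of_mem_st2 hb.symm hxF hx))

theorem two_of_normal {a b c d : Ω} (hab : a ≠ b) (hcd : c ≠ d) :
    ∃ g ∈ N, g • a = c ∧ g • b = d := by
  have h := pre_of_zass hZ
  obtain ⟨k, hk⟩ := (h.normal_transitive N hN).exists_smul_eq a c
  obtain ⟨F, hF⟩ := h.exists_isKer c
  have hk' : (k : G) • a = c := hk
  have hkb : (k : G) • b ≠ c := by rw [← hk']; simpa using hab.symm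
  obtain ⟨u, hu, hub⟩ := hF.exists_smul h hkb hcd.symm
  refine ⟨u * k, N.mul_mem (ker_le_of_normal hZ N hN hF hu) k.2, ?_, ?_⟩
  · rw [mul_smul, hk', hF.smul_eq hu]
  · rw [mul_smul, hub]

theorem pre_of_normal : Pre N Ω := (pre_of_zass hZ).subgroup N (two_of_normal hZ N hN)

theorem exists_swap_mem_normal {a b : Ω} (hab : a ≠ b) :
    ∃ s ∈ N, s * s = 1 ∧ s • a = b ∧ s • b = a := by
  obtain ⟨s, hs, hsa, hsb⟩ := (pre_of_normal hZ N hN).exists_swap hab
  exact ⟨s, s.2, congrArg Subtype.val hs, hsa, hsb⟩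

theorem eq_top_of_normal_of_st2_le {a b : Ω} (hab : a ≠ b) (hle : st2 G a b ≤ N) : N = ⊤ := by
  rw [eq_top_iff]
  intro g _
  obtain ⟨n, hn, h1, h2⟩ := two_of_normal hZ N hN hab (show g • a ≠ g • b by simpa using hab)
  have : n⁻¹ * g ∈ st2 G a b := ⟨by
    change (n⁻¹ * g) • a = a
    rw [mul_smul, inv_smul_eq_iff, h1], by
    change (n⁻¹ * g) • b = b
    rw [mul_smul, inv_smul_eq_iff, h2]⟩
  simpa using N.mul_mem hn (hle this)

theorem zass_of_normal : Cfsg.IsZassenhausGroup N Ω := by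
  have h := pre_of_zass hZ
  have hP := pre_of_normal hZ N hN
  have := h.finite
  obtain ⟨a⟩ := h.nonempty
  obtain ⟨b, hb⟩ := h.exists_ne a
  refine ⟨hP.faithful, hP.multTrans, fun g a b c => hP.three g, ?_, ?_⟩
  · obtain ⟨x, hxN, hx1, hx⟩ := exists_mem_st2_of_normal hZ N hN hb.symm
    exact ⟨⟨x, hxN⟩, fun hh => hx1 (congrArg Subtype.val hh), a, b, hb.symm, hx.1, hx.2⟩
  intro K hKn hKt
  by_contra hcon
  push Not at hcon
  have := h.nonempty
  obtain ⟨hKc, -⟩ := Cfsg.Agent.S0054.result hP.multTrans K hKt hcon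
  -- the image of `K` in `G`
  let K' := K.map N.subtype
  have hK'N : K' ≤ N := Subgroup.map_subtype_le K
  have hK'n : ∀ n ∈ N, ∀ k ∈ K', n * k * n⁻¹ ∈ K' := by
    rintro n hn _ ⟨k, hk, rfl⟩
    exact ⟨_, hKn.conj_mem k hk ⟨n, hn⟩, rfl⟩
  have hK'c : ∀ k ∈ K', ∀ l ∈ K', k * l = l * k := by
    rintro _ ⟨k, hk, rfl⟩ _ ⟨l, hl, rfl⟩
    exact congrArg (fun z : K => ((z : N) : G)) (hKc.is_comm.comm (⟨k, hk⟩ : K) ⟨l, hl⟩)
  have hK't : ∀ c d : Ω, ∃ k ∈ K', k • c = d := by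
    intro c d
    obtain ⟨k, hk⟩ := hKt.exists_smul_eq c d
    exact ⟨(k : N), ⟨k, k.2, rfl⟩, hk⟩
  have hK'r : ∀ k ∈ K', ∀ c : Ω, k • c = c → k = 1 := by
    rintro _ ⟨k, hk, rfl⟩ c hc
    have : (⟨k, hk⟩ : K) ∈ stabilizer K c := hc
    rw [hcon c, Subgroup.mem_bot] at this
    exact congrArg (fun z : K => ((z : N) : G)) this
  have hcent : ∀ y : G, (∀ k ∈ K', y * k = k * y) → y ∈ K' := by
    intro y hy
    obtain ⟨k, hk, hka⟩ := hK't a (y • a)
    have : k⁻¹ * y = 1 := by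
      apply h.eq_one_of_forall
      intro c
      obtain ⟨l, hl, rfl⟩ := hK't a c
      rw [mul_smul, ← mul_smul y, hy l hl, mul_smul, ← hka, ← mul_smul l, hK'c l hl k hk, mul_smul,
        inv_smul_smul]
    rw [inv_mul_eq_one] at this
    exact this ▸ hk
  have hnorm : K'.Normal := by
    refine ⟨fun x hx g => ?_⟩
    have hgN : ∀ n ∈ N, g⁻¹ * n * g ∈ N := fun n hn => by simpa using hNn.conj_mem n hn g⁻¹
    by_cases hex : ∃ y ∈ K', y ≠ 1 ∧ g⁻¹ * y * g ∈ K'
    · obtain ⟨y, hy, hy1, hyg⟩ := hex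
      by_cases hx1 : g * x * g⁻¹ = 1
      · rw [hx1]; exact K'.one_mem
      -- `g x g⁻¹` acts without fixed points
      have h1 : y • a ≠ a := fun hh => hy1 (hK'r y hy a hh)
      have h2 : (g * x * g⁻¹) • a ≠ a := by
        intro hh
        rw [mul_smul, mul_smul, ← eq_inv_smul_iff] at hh
        apply hx1
        rw [hK'r x hx _ hh]; simp
      obtain ⟨n, hn, hn1, hn2⟩ := two_of_normal hZ N hN h1.symm h2.symm
      have h3 : n * y * n⁻¹ ∈ K' := hK'n n hn y hy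
      have h4 : g⁻¹ * (n * y * n⁻¹) * g ∈ K' := by
        have := hK'n _ (hgN n hn) _ hyg
        convert this using 1
        group
      have h5 : (n * y * n⁻¹) • a = (g * x * g⁻¹) • a := by
        rw [← hn2]
        nth_rewrite 1 [← hn1]
        rw [conj_smul_smul]
      have h6 : x⁻¹ * (g⁻¹ * (n * y * n⁻¹) * g) = 1 := by
        apply hK'r _ (K'.mul_mem (K'.inv_mem hx) h4) (g⁻¹ • a)
        rw [mul_smul, mul_smul, mul_smul, smul_inv_smul, h5]
        simp [mul_smul]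
      have h7 : g * x * g⁻¹ = n * y * n⁻¹ := by
        rw [inv_mul_eq_one] at h6
        rw [h6]; group
      rw [h7]; exact h3
    · push Not at hex
      apply hcent
      intro k hk
      by_contra hne
      have hxN : g * x * g⁻¹ ∈ N := hNn.conj_mem x (hK'N hx) g
      refine hex (g * x * g⁻¹ * k * (g * x * g⁻¹)⁻¹ * k⁻¹)
        (K'.mul_mem (hK'n _ hxN k hk) (K'.inv_mem hk)) ?_ ?_
      · intro hh
        apply hne
        rw [mul_inv_eq_one, mul_inv_eq_iff_eq_mul] at hh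
        exact hh
      · have := K'.mul_mem hx (hK'n _ (hgN k (hK'N hk)) _ (K'.inv_mem hx))
        convert this using 1
        group
  obtain ⟨c, hc⟩ := hZ.2.2.2.2 K' hnorm ⟨fun c d => by
    obtain ⟨k, hk, hkc⟩ := hK't c d
    exact ⟨⟨k, hk⟩, hkc⟩⟩
  apply hc
  rw [Subgroup.eq_bot_iff_forall]
  rintro ⟨k, hk⟩ hkc
  exact Subtype.ext (hK'r k hk c hkc)

end

theorem nontrivial_of_zass (hZ : Cfsg.IsZassenhausGroup G Ω) : Nontrivial G := by
  obtain ⟨g, hg, -⟩ := hZ.2.2.2.1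
  exact ⟨g, 1, hg⟩

/-- If some swapping element in every nontrivial normal subgroup inverts a two-point stabiliser of
odd order then the group is simple. -/
theorem simple_of_inverts (hZ : Cfsg.IsZassenhausGroup G Ω) [Finite Ω] {a b : Ω} (hab : a ≠ b)
    (ho : Odd (Nat.card (st2 G a b))) {s : G} (hsa : s • a = b) (hsb : s • b = a)
    (hs : ∀ x ∈ st2 G a b, s * x * s⁻¹ = x⁻¹) : IsSimpleGroup G := by
  have := nontrivial_of_zass hZ
  have h := pre_of_zass hZ
  have := h.finite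
  refine ⟨fun N hNn => ?_⟩
  by_cases hN : N = ⊥
  · exact Or.inl hN
  right
  apply eq_top_of_normal_of_st2_le hZ N hN hab
  obtain ⟨s', hs'N, -, hsa', hsb'⟩ := exists_swap_mem_normal hZ N hN hab
  have hinv := Pre.inverts_of_inverts hsa hsb hs hsa' hsb'
  intro x hx
  have h1 : x * x ∈ N := by
    have := N.mul_mem (hNn.conj_mem _ hs'N x) (N.inv_mem hs'N)
    have h2 : x * s' * x⁻¹ * s'⁻¹ = x * (s' * x⁻¹ * s'⁻¹) := by group
    rwa [h2, hinv _ ((st2 G a b).inv_mem hx), inv_inv] at this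
  obtain ⟨k, hk⟩ := ho
  have h2 : x ^ (2 * k + 1) = 1 := by
    rw [← hk]
    exact congrArg Subtype.val (pow_card_eq_one' (x := (⟨x, hx⟩ : st2 G a b)))
  have h3 : x = ((x * x) ^ k)⁻¹ := by
    rw [eq_inv_iff_mul_eq_one, ← pow_two, ← pow_mul, ← pow_succ', h2]
  rw [h3]
  exact N.inv_mem (N.pow_mem h1 k)

theorem simple_of_odd (hZ : Cfsg.IsZassenhausGroup G Ω) [Finite Ω] (ho : Odd (Nat.card Ω)) :
    IsSimpleGroup G := by
  have h := pre_of_zass hZ
  obtain ⟨a⟩ := h.nonempty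
  obtain ⟨b, hb⟩ := h.exists_ne a
  obtain ⟨s, hs, hsa, hsb⟩ := h.exists_swap hb.symm
  exact simple_of_inverts hZ hb.symm (h.odd_st2_of_odd hb.symm ho) hsa hsb
    (h.inverts_of_odd ho hb.symm hs hsa hsb)

theorem not_prime_card (hZ : Cfsg.IsZassenhausGroup G Ω) [Finite Ω] : ¬ (Nat.card G).Prime := by
  have h := pre_of_zass hZ
  obtain ⟨a⟩ := h.nonempty
  obtain ⟨b, hb⟩ := h.exists_ne a
  rw [h.card_eq' hb, mul_assoc]
  have h3 := h.three_le_card
  have h1 := one_lt_card_st2_of_zass hZ hb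
  apply Nat.not_prime_mul (by omega)
  intro hh
  have := Nat.eq_one_of_mul_eq_one_left hh
  omega

end CL.Zass
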