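import Cfsg.Agent.Zass.IndexTwo

/-!
Sharply triply transitive groups of even degree are not simple; the case of odd exponent; simple
Zassenhaus groups with two-point stabilisers of even order.
-/

set_option autoImplicit false

namespace CL.Zass

open MulAction Subgroup
open scoped MatrixGroups

variable {G Ω : Type*} [Group G] [MulAction G Ω]

/-- transfer from the setwise stabiliser of two points -/
theorem Pre.exists_hom_of_pst (h : Pre G Ω) [Finite Ω] {a b : Ω} (hab : a ≠ b) {A : Type*}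
    [CommGroup A] (φ : pst G a b →* A)
    (hφ : ∀ y : pst G a b, (y : G) * y = 1 → nfix Ω (y : G) = 2 → (y : G) • a = b → φ y = 1) :
    ∃ V : G →* A, ∀ x : pst G a b, (x : G) ∈ st2 G a b → V x = φ x := by
  classical
  have := h.finite
  refine ⟨MonoidHom.transfer φ, fun x hx => ?_⟩
  have : Fintype (Quotient (orbitRel (zpowers (x : G)) (G ⧸ pst G a b))) := Fintype.ofFinite _
  have hfix : (x : G) • ((1 : G) : G ⧸ pst G a b) = ((1 : G) : G ⧸ pst G a b) := by
    rw [Quotient.smul_coe, smul_eq_mul, mul_one, QuotientGroup.eq]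
    simp
  let q₀ : Quotient (orbitRel (zpowers (x : G)) (G ⧸ pst G a b)) :=
    Quotient.mk _ ((1 : G) : G ⧸ pst G a b)
  have hq₀ : q₀.out = ((1 : G) : G ⧸ pst G a b) := by
    obtain ⟨⟨_, k, rfl⟩, hk⟩ := Quotient.mk_out (s := orbitRel (zpowers (x : G)) (G ⧸ pst G a b))
      ((1 : G) : G ⧸ pst G a b)
    rw [← hk]
    exact (zpow_mem (show (x : G) ∈ stabilizer G _ from hfix) k :)
  rw [MonoidHom.transfer_eq_prod_quotient_orbitRel_zpowers_quot, Finset.prod_eq_single q₀]
  · have h1 : q₀.out.out ∈ pst G a b := by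
      have := QuotientGroup.eq.1 (q₀.out.out_eq'.trans hq₀).symm
      simpa using this
    have h2 : Function.minimalPeriod ((x : G) • ·) q₀.out = 1 := by
      rw [Function.minimalPeriod_eq_one_iff_isFixedPt, hq₀]; exact hfix
    have h3 : φ ((⟨_, h1⟩ : pst G a b)⁻¹ * x * ⟨_, h1⟩) = φ x := by
      rw [map_mul, map_mul, mul_right_comm, ← map_mul, inv_mul_cancel, map_one, one_mul]
    rw [← h3]
    congr 1
    refine Subtype.ext ?_
    simp only [h2, pow_one, coe_mul, coe_inv]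
  · intro q _ hq
    have ht : q.out.out ∉ pst G a b := by
      intro h1
      refine hq ?_
      rw [← q.out_eq', ← q.out.out_eq']
      exact congrArg _ (QuotientGroup.eq.2 (by simpa using h1))
    have gen : ∀ t ∉ pst G a b, ∀ z ∈ st2 G a b, ∀ hy : t⁻¹ * z * t ∈ pst G a b,
        φ ⟨_, hy⟩ = 1 := by
      intro t ht z hz hy
      have key : ∀ z ∈ st2 G a b, t⁻¹ * z * t ∈ st2 G a b → z = 1 := by
        intro z hz h1
        by_contra hz1
        exact ht (inv_mem_iff.1 (h.mem_pst_of_conj_mem hab hz hz1 (g := t⁻¹) (by rwa [inv_inv])))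
      by_cases hz1 : z = 1
      · subst hz1
        rw [← map_one φ]
        congr 1
        exact Subtype.ext (by simp)
      rcases id hy with h1 | h1
      · exact absurd (key z hz h1) hz1
      · have h2 : t⁻¹ * z * t * (t⁻¹ * z * t) = t⁻¹ * (z * z) * t := by group
        refine hφ _ ?_ ?_ h1.1
        · have h3 := key (z * z) (mul_mem hz hz) (h2 ▸ mul_self_mem_st2_of_pst hy)
          simp only
          rw [h2, h3]; group
        · have := nfix_conj (Ω := Ω) t⁻¹ z
          rw [inv_inv] at this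
          exact this.trans (h.nfix_of_mem_st2 hab hz hz1)
    exact gen _ ht _ ((st2 G a b).pow_mem hx _) _
  · intro h0; exact absurd (Finset.mem_univ _) h0

namespace S3

variable [Finite Ω] (h : S3 G Ω)
include h

theorem exists_conj_swap_two {a b : Ω} (hab : a ≠ b) {s s' : G} (hsa : s • a = b) (hsb : s • b = a)
    (hs : nfix Ω s = 2) (hsa' : s' • a = b) (hsb' : s' • b = a) (hs' : nfix Ω s' = 2) :
    ∃ k ∈ st2 G a b, k * s * k⁻¹ = s' := by
  have key : ∀ s : G, s • a = b → s • b = a → nfix Ω s = 2 → ∃ c, c ≠ a ∧ c ≠ b ∧ s • c = c := by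
    intro s hsa hsb hs
    obtain ⟨c, d, -, hc⟩ := Pre.exists_of_nfix_two hs
    refine ⟨c, ?_, ?_, hc.1⟩
    · rintro rfl; exact hab (hc.1.symm.trans hsa)
    · rintro rfl; exact hab (hsb.symm.trans hc.1)
  obtain ⟨c, hca, hcb, hc⟩ := key s hsa hsb hs
  obtain ⟨d, hda, hdb, hd⟩ := key s' hsa' hsb' hs'
  obtain ⟨k, hk, rfl⟩ := h.tri hab hca hcb hda hdb
  refine ⟨k, hk, h.toPre.eq_of_three hab hdb.symm hda.symm ?_ ?_ ?_⟩
  · rw [hsa']; nth_rewrite 1 [← hk.1]; rw [conj_smul_smul, hsa, hk.2]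
  · rw [hsb']; nth_rewrite 1 [← hk.2]; rw [conj_smul_smul, hsb, hk.1]
  · rw [hd, conj_smul_smul, hc]

omit [Finite Ω] h in
theorem inv_mul_conj_mem {a b : Ω} {s k : G} (hsa : s • a = b) (hsb : s • b = a) (hss : s * s = 1)
    {N : Subgroup G} (hN2 : N.relIndex (st2 G a b) = 2) (hNs : ∀ n ∈ N, s * n * s⁻¹ ∈ N)
    (hk : k ∈ st2 G a b) : s⁻¹ * (k * s * k⁻¹) ∈ N := by
  have hs : s⁻¹ = s := inv_eq_of_mul_eq_one_right hss
  have h1 := conj_mem_st2_of_swap hsa hsb hk
  have h2 := (mul_mem_iff_of_index_two hN2 (a := ⟨_, h1⟩) (b := ⟨k, hk⟩⁻¹)).2 (by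
    simp only [mem_subgroupOf, coe_inv, inv_mem_iff]
    refine ⟨fun h3 => ?_, hNs k⟩
    have := hNs _ h3
    rwa [show s * (s * k * s⁻¹) * s⁻¹ = (s * s) * k * (s * s)⁻¹ by group, hss, one_mul, inv_one,
      mul_one] at this)
  rw [mem_subgroupOf] at h2
  convert h2 using 1
  simp only [coe_mul, coe_inv, hs]
  group

/-- the swapping involution inverts the invariant subgroup of index two -/
theorem inverts_index_two (he : Even (Nat.card Ω)) {a b : Ω} (hab : a ≠ b) {s : G}
    (hsa : s • a = b) (hsb : s • b = a) (hss : s * s = 1) (hs : nfix Ω s = 2) {N : Subgroup G}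
    (hN : N ≤ st2 G a b) (hN2 : N.relIndex (st2 G a b) = 2) (hNs : ∀ n ∈ N, s * n * s⁻¹ ∈ N) :
    2 * Nat.card N = Nat.card Ω - 2 ∧ ∀ n ∈ N, s * n * s⁻¹ = n⁻¹ := by
  have := h.toPre.finite
  have h1 : 2 * Nat.card N = Nat.card Ω - 2 := by
    rw [← h.card_st2 hab, ← (N.subgroupOf (st2 G a b)).index_mul_card,
      Nat.card_congr (subgroupOfEquivOfLe hN).toEquiv]
    exact congrArg (· * _) hN2.symm
  refine ⟨h1, fun n hn => ?_⟩
  have h2 := h.toPre.two_mul_ncard_swap_of_even hab (h.even_st2 he hab)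
  have h3 : {s : G | (s * s = 1 ∧ nfix Ω s = 2) ∧ (s • a = b ∧ s • b = a)} =
      (fun n => s * n) '' (N : Set G) := by
    refine Set.eq_of_subset_of_ncard_le (fun s' hs' => ?_) ?_
    · obtain ⟨k, hk, rfl⟩ := h.exists_conj_swap_two hab hsa hsb hs hs'.2.1 hs'.2.2 hs'.1.2
      exact ⟨_, inv_mul_conj_mem hsa hsb hss hN2 hNs hk, by simp⟩
    · rw [Set.ncard_image_of_injective _ (mul_right_injective s)]
      have : (N : Set G).ncard = Nat.card N := rfl
      omega
  have h4 := (h3.symm.subset ⟨n, hn, rfl⟩).1.1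
  rw [inv_eq_of_mul_eq_one_right hss, eq_inv_iff_mul_eq_one, ← h4]
  group

/-- a sharply triply transitive group of even degree has a non-trivial homomorphism to `±1` -/
theorem exists_hom (he : Even (Nat.card Ω)) : ∃ V : G →* ℤˣ, V ≠ 1 := by
  classical
  obtain ⟨a⟩ := h.nonempty
  obtain ⟨b, hb⟩ := h.toPre.exists_ne a
  have hab := hb.symm
  obtain ⟨s, hss, hsa, hsb, hs⟩ := h.toPre.exists_swap_two hab (h.even_st2 he hab)
  obtain ⟨N, hN, hN2, hNs⟩ := h.exists_invariant he hab hsa hsb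
  have hs' : s⁻¹ = s := inv_eq_of_mul_eq_one_right hss
  have hmul : ∀ x ∈ st2 G a b, ∀ y ∈ st2 G a b, (x * y ∈ N ↔ (x ∈ N ↔ y ∈ N)) := fun x hx y hy =>
    mul_mem_iff_of_index_two hN2 (a := ⟨x, hx⟩) (b := ⟨y, hy⟩)
  have hconj : ∀ x, s * x * s ∈ N ↔ x ∈ N := fun x =>
    ⟨fun h1 => by
      have := hNs _ h1
      rwa [show s * (s * x * s) * s⁻¹ = (s * s) * x by group, hss, one_mul] at this,
    fun h1 => by have := hNs x h1; rwa [hs'] at this⟩
  -- the projection of the setwise stabiliser to `H`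
  let π : G → G := fun g => if g • a = a then g else s * g
  have hπ : ∀ g ∈ pst G a b, π g ∈ st2 G a b := by
    rintro g (hg | hg)
    · simp only [π, if_pos hg.1]; exact hg
    · simp only [π, if_neg (show ¬ g • a = a by rw [hg.1]; exact hb)]
      exact mul_mem_st2_of_swap hsa hsb hg.1 hg.2
  have hπmul : ∀ x ∈ pst G a b, ∀ y ∈ pst G a b, (π (x * y) ∈ N ↔ (π x ∈ N ↔ π y ∈ N)) := by
    intro x hx y hy
    have hx' := hπ x hx
    have hy' := hπ y hy
    have e : ∀ z ∈ st2 G a b, s * z * s ∈ st2 G a b := fun z hz => by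
      have := conj_mem_st2_of_swap hsa hsb hz
      rwa [hs'] at this
    rcases hx with hx | hx <;> rcases hy with hy | hy
    · simp only [π, mul_smul, hx.1, hy.1, if_true]
      exact hmul x hx y hy
    · simp only [π, mul_smul, hx.1, hy.1, hx.2, if_true, if_neg hb] at hy' ⊢
      rw [← hconj x, ← hmul _ (e x hx) _ hy', show s * x * s * (s * y) = s * x * (s * s) * y by group,
        hss, mul_one, mul_assoc]
    · simp only [π, mul_smul, hx.1, hy.1, if_true, if_neg hb] at hx' ⊢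
      rw [← hmul _ hx' _ hy, mul_assoc]
    · simp only [π, mul_smul, hx.1, hy.1, hx.2, if_true, if_neg hb] at hx' hy' ⊢
      rw [← hconj (s * x), ← hmul _ (e _ hx') _ hy',
        show s * (s * x) * s * (s * y) = (s * s) * x * (s * s) * y by group, hss, mul_one, one_mul]
  let φ : pst G a b →* ℤˣ := MonoidHom.mk' (fun g => if π g ∈ N then 1 else -1) fun x y => by
    have := hπmul x x.2 y y.2
    simp only [coe_mul]
    by_cases h1 : π x ∈ N <;> by_cases h2 : π y ∈ N <;> simp [this, h1, h2]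
  obtain ⟨V, hV⟩ := h.toPre.exists_hom_of_pst hab φ fun y hy1 hy2 hy3 => by
    have hy4 : (y : G) • b = a := by
      have := congrArg ((y : G) • ·) hy3
      simp only [← mul_smul, hy1, one_smul] at this
      exact this.symm
    obtain ⟨k, hk, hk'⟩ := h.exists_conj_swap_two hab hsa hsb hs hy3 hy4 hy2
    have h1 := inv_mul_conj_mem hsa hsb hss hN2 hNs hk
    rw [hk', hs'] at h1
    have h2 : π y = s * y := if_neg (by rw [hy3]; exact hb)
    exact if_pos (h2 ▸ h1)
  obtain ⟨x, hx⟩ : ∃ x : st2 G a b, x ∉ N.subgroupOf (st2 G a b) := by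
    by_contra hc
    push Not at hc
    rw [relIndex, (eq_top_iff' _).2 hc, index_top] at hN2
    exact absurd hN2 (by norm_num)
  refine ⟨V, fun h0 => ?_⟩
  have h1 := hV ⟨x, st2_le_pst a b x.2⟩ x.2
  have h2 : π x = x := if_pos x.2.1
  have h3 : φ ⟨x, st2_le_pst a b x.2⟩ = -1 := if_neg (by rw [h2]; exact hx)
  rw [h0, h3] at h1
  exact absurd (show (1 : ℤˣ) = -1 from h1) (by decide)

theorem not_simple (he : Even (Nat.card Ω)) : ¬ IsSimpleGroup G := by
  intro hs
  obtain ⟨V, hV⟩ := h.exists_hom he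
  rcases hs.eq_bot_or_eq_top_of_normal V.ker inferInstance with h1 | h1
  · have h2 := Nat.card_le_card_of_injective V ((MonoidHom.ker_eq_bot_iff V).1 h1)
    have h3 := h.toPre.three_le_card
    rw [h.card_eq, Nat.card_eq_fintype_card (α := ℤˣ), Fintype.card_units_int] at h2
    have : 3 * 2 * 1 ≤ Nat.card Ω * (Nat.card Ω - 1) * (Nat.card Ω - 2) := by
      gcongr <;> omega
    omega
  · exact hV (MonoidHom.ext fun g => (h1 ▸ mem_top g : g ∈ V.ker))

/-- if the degree is `p ^ f + 1` with `f` odd, the two-point stabiliser is abelian -/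
theorem comm_of_odd_exp {p f : ℕ} (hp : p.Prime) (hf : Odd f) (hc : Nat.card Ω = p ^ f + 1)
    {a b : Ω} (hab : a ≠ b) : ∀ x ∈ st2 G a b, ∀ y ∈ st2 G a b, x * y = y * x := by
  have := h.toPre.finite
  rcases Nat.even_or_odd (Nat.card Ω) with he | ho
  swap
  · exact (h.toPre.oi_of_odd ho).comm hab
  obtain ⟨s, hss, hsa, hsb, hs⟩ := h.toPre.exists_swap_two hab (h.even_st2 he hab)
  obtain ⟨N, hN, hN2, hNs⟩ := h.exists_invariant he hab hsa hsb
  obtain ⟨h1, h2⟩ := h.inverts_index_two he hab hsa hsb hss hs hN hN2 hNs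
  obtain ⟨F, hF⟩ := h.toPre.exists_isKer a
  obtain ⟨q, hq, V, _, _, _, _, _, U, hinj, hUF, hFU, hU, hU0, hV, hsm, hreg⟩ :=
    h.exists_module hab hF
  have := Perm.faithful_of_reg hreg
  have := normal_of_index_eq_two hN2
  have hNc : IsMulCommutative (N.subgroupOf (st2 G a b)) :=
    ⟨⟨fun x y => Subtype.ext (Subtype.ext (Pre.comm_of_inverts h2 _ x.2 _ y.2))⟩⟩
  obtain ⟨k, m, -, -, h3, -, h4, -, h5, h6⟩ := Perm.exists_field_data (p := q) (V := V)
    (N.subgroupOf (st2 G a b)) hNc (fun u v hu hv => (hreg u v hu hv).exists)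
  have hUn : ∀ v, U (-v) = (U v)⁻¹ := fun v => by
    rw [eq_inv_iff_mul_eq_one, ← hU, neg_add_cancel, hU0]
  have hm : m = 1 := h5.2 fun W hW => by
    let W' : Subgroup G :=
      { carrier := U '' W
        mul_mem' := by
          rintro _ _ ⟨v, hv, rfl⟩ ⟨w, hw, rfl⟩
          exact ⟨v + w, W.add_mem hv hw, hU v w⟩
        one_mem' := ⟨0, W.zero_mem, hU0⟩
        inv_mem' := by
          rintro _ ⟨v, hv, rfl⟩
          exact ⟨-v, W.neg_mem hv, hUn v⟩ }
    rcases hF.irreducible h.toPre hab hN h1.ge (W := W') (by rintro _ ⟨v, -, rfl⟩; exact hUF v) (by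
      rintro x hx _ ⟨v, hv, rfl⟩
      exact ⟨_, hW ⟨x, hN hx⟩ hx v hv, hsm _ _⟩) with h7 | h7
    · refine Or.inl (eq_bot_iff.2 fun v hv => hinj ?_)
      rw [hU0]
      exact mem_bot.1 (h7 ▸ (⟨v, hv, rfl⟩ : U v ∈ W'))
    · refine Or.inr (eq_top_iff.2 fun v _ => ?_)
      obtain ⟨w, hw, hwv⟩ : U v ∈ W' := h7 ▸ hUF v
      exact hinj hwv ▸ hw
  have h7 := h6 hm
  rw [hm, pow_one] at h3
  have h8 : q ^ k = p ^ f := by omega
  have h9 : k = f := by
    have : q = p := (Nat.prime_dvd_prime_iff_eq hq.out hp).1 (hq.out.dvd_of_dvd_pow (n := f) (by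
      rw [← h8]
      refine dvd_pow_self q ?_
      rintro rfl
      have := Nat.one_lt_pow hf.pos.ne' hp.one_lt
      rw [pow_zero] at h8
      omega))
    subst this
    exact Nat.pow_right_injective hp.two_le h8
  have h10 : (centralizer (N.subgroupOf (st2 G a b) : Set (st2 G a b))).index = 1 := by
    have h11 := index_dvd_of_le (N.subgroupOf (st2 G a b)).le_centralizer
    rw [show (N.subgroupOf (st2 G a b)).index = 2 from hN2] at h11
    exact Nat.eq_one_of_dvd_coprimes (Nat.coprime_two_left.2 (h9 ▸ hf)) h11 h4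
  rw [index_eq_one] at h10
  intro x hx y hy
  have := h7.is_comm.comm ⟨⟨x, hx⟩, h10 ▸ mem_top _⟩ ⟨⟨y, hy⟩, h10 ▸ mem_top _⟩
  exact congrArg (fun z => ((z.1 : st2 G a b) : G)) this

end S3

/-- in a simple Zassenhaus group with `d` even, `2 d = |Ω| - 2` -/
theorem two_mul_eq_of_simple_of_even (h : Pre G Ω) [Finite Ω] [hs : IsSimpleGroup G] {a b : Ω}
    (hab : a ≠ b) (he : Even (Nat.card (st2 G a b))) :
    2 * Nat.card (st2 G a b) ≤ Nat.card Ω - 2 := by
  have := h.finite
  obtain ⟨m, hm⟩ := h.card_st2_dvd hab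
  have h3 := h.three_le_card
  by_cases h1 : m = 1
  · subst h1
    exact absurd hs ((h.s3_of_card hab (by omega)).not_simple (h.even_card_of_even_st2 hab he))
  · have : m ≠ 0 := by rintro rfl; omega
    rw [hm, mul_comm]
    exact Nat.mul_le_mul_left _ (by omega)

theorem inverts_of_simple (hZ : Cfsg.IsZassenhausGroup G Ω) [Finite Ω] [IsSimpleGroup G]
    {a b : Ω} (hab : a ≠ b) {s : G} (hsa : s • a = b) (hsb : s • b = a) :
    ∀ x ∈ st2 G a b, s * x * s⁻¹ = x⁻¹ := by
  have h := pre_of_zass hZ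
  rcases Nat.even_or_odd (Nat.card (st2 G a b)) with he | ho
  · exact (h.inverts_of_even_small hab he (two_mul_eq_of_simple_of_even h hab he)).2 s hsa hsb
  · exact inverts_of_simple_of_odd hZ hab ho hsa hsb

end CL.Zass
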