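import Cfsg.Agent.Zass.Feit
import Cfsg.Agent.Zass.Sharp3Even

/-!
Classification of Zassenhaus groups up to the case of a non-abelian kernel of order a power of two.
-/

set_option autoImplicit false

namespace CL.Zass

open MulAction Subgroup Cfsg
open scoped MatrixGroups

variable {G Ω : Type*} [Group G] [MulAction G Ω]

theorem nonempty_psl_equiv_pgl (K : Type*) [Field K] [Fintype K] (he : Even (Fintype.card K)) :
    Nonempty (PSL(2, K) ≃* PGL(2, K)) := by
  have h2 := FiniteField.even_card_iff_char_two.2 (Nat.even_iff.1 he)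
  refine ⟨MulEquiv.ofBijective Matrix.ProjectiveSpecialLinearGroup.toPGL
    ⟨Matrix.ProjectiveSpecialLinearGroup.toPGL_injective,
      Matrix.ProjectiveSpecialLinearGroup.toPGL_surj_of_roots fun r => ?_⟩⟩
  obtain ⟨x, hx⟩ := FiniteField.isSquare_of_char_two h2 (r : K)
  have hx0 : x ≠ 0 := by rintro rfl; exact r.ne_zero (by simpa using hx)
  exact ⟨Units.mk0 x hx0, Units.ext (by simp [hx, pow_two])⟩

theorem Pre.eq_or_eq_of_le (h : Pre G Ω) [Finite Ω] {a b : Ω} (hab : a ≠ b)
    (hd : Nat.card Ω - 2 ≤ 2 * Nat.card (st2 G a b)) :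
    Nat.card (st2 G a b) = Nat.card Ω - 2 ∨ 2 * Nat.card (st2 G a b) = Nat.card Ω - 2 := by
  have := h.finite
  obtain ⟨m, hm⟩ := h.card_st2_dvd hab
  have h3 := h.three_le_card
  have hpos : 0 < Nat.card (st2 G a b) := Nat.card_pos
  rw [hm, mul_comm 2] at hd
  have := Nat.le_of_mul_le_mul_left hd hpos
  interval_cases m <;> omega

theorem simple_of_half_of_odd (hZ : IsZassenhausGroup G Ω) [Finite Ω] {a b : Ω} (hab : a ≠ b)
    (ho : Odd (Nat.card (st2 G a b))) (hd : 2 * Nat.card (st2 G a b) = Nat.card Ω - 2) :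
    IsSimpleGroup G := by
  have h := pre_of_zass hZ
  have := h.finite
  obtain ⟨N, hN, hNs, hNF⟩ := exists_simple hZ
  obtain ⟨F, hF⟩ := h.exists_isKer a
  have hdvd := card_st2_subgroup_dvd N a b
  have hle := Nat.le_of_dvd Nat.card_pos hdvd
  have e := subgroupOfEquivOfLe (hNF a F hF)
  have hFc := (hF.elementary_of_large h hab hd.ge).1
  rcases feit_odd hN hab (ho.of_dvd_nat hdvd) hF.subgroupOf with h1 | h1
  · have h2 : N = ⊤ := eq_top_of_card_eq N (by
      rw [h.card_eq' hab, (pre_of_zass hN).card_eq' hab]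
      congr 1
      omega)
    subst h2
    exact topEquiv.symm.isSimpleGroup
  · exact absurd ⟨⟨fun x y => e.injective (by rw [map_mul, map_mul, hFc.is_comm.comm])⟩⟩ h1.2.1

/-- trichotomy for Zassenhaus groups -/
theorem trichotomy (hZ : IsZassenhausGroup G Ω) [Finite Ω] {a : Ω} {F : Subgroup G}
    (hF : IsKer a F) :
    S3 G Ω ∨ (∃ (K : Type) (_ : Field K) (_ : Fintype K), Fintype.card K + 1 = Nat.card Ω ∧
      Odd (Fintype.card K) ∧ (∀ b, a ≠ b → 2 * Nat.card (st2 G a b) = Nat.card Ω - 2) ∧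
      Nonempty (G ≃* PSL(2, K))) ∨ (IsPGroup 2 F ∧ ¬ IsMulCommutative F) := by
  have h := pre_of_zass hZ
  obtain ⟨b, hb⟩ := h.exists_ne a
  have hab := hb.symm
  have h3 := h.three_le_card
  have key : Nat.card Ω - 2 ≤ 2 * Nat.card (st2 G a b) → S3 G Ω ∨
      (∃ (K : Type) (_ : Field K) (_ : Fintype K), Fintype.card K + 1 = Nat.card Ω ∧
      Odd (Fintype.card K) ∧ (∀ b, a ≠ b → 2 * Nat.card (st2 G a b) = Nat.card Ω - 2) ∧
      Nonempty (G ≃* PSL(2, K))) := by
    intro h1
    rcases h.eq_or_eq_of_le hab h1 with h2 | h2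
    · exact Or.inl (h.s3_of_card hab h2)
    obtain ⟨s, -, hsa, hsb⟩ := h.exists_swap hab
    have hs : ∀ x ∈ st2 G a b, s * x * s⁻¹ = x⁻¹ := by
      rcases Nat.even_or_odd (Nat.card (st2 G a b)) with he | ho
      · exact (h.inverts_of_even_small hab he h2.le).2 s hsa hsb
      · have := simple_of_half_of_odd hZ hab ho h2
        exact inverts_of_simple_of_odd hZ hab ho hsa hsb
    obtain ⟨K, _, _, hK, hG⟩ := h.psl_of_half hab h2 hsa hsb hs
    exact Or.inr ⟨K, inferInstance, inferInstance, hK, ⟨Nat.card (st2 G a b), by omega⟩,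
      fun c hc => by rw [h.card_st2_eq hc hab, h2], hG⟩
  rcases Nat.even_or_odd (Nat.card (st2 G a b)) with he | ho
  · exact (key (h.le_two_mul_of_even hab he)).imp id Or.inl
  · rcases feit_odd hZ hab ho hF with h1 | h1
    · exact (key h1).imp id Or.inl
    · exact Or.inr (Or.inr ⟨h1.1, h1.2.1⟩)

theorem S3.psl_of_odd (h : S3 G Ω) [Finite Ω] (ho : Odd (Nat.card Ω)) :
    ∃ (K : Type) (_ : Field K) (_ : Fintype K), Fintype.card K + 1 = Nat.card Ω ∧
      Nonempty (G ≃* PSL(2, K)) := by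
  obtain ⟨a⟩ := h.nonempty
  obtain ⟨b, hb⟩ := h.toPre.exists_ne a
  obtain ⟨K, _, _, hK, ⟨e⟩⟩ := h.pgl_of_comm hb.symm ((h.toPre.oi_of_odd ho).comm hb.symm)
  obtain ⟨e'⟩ := nonempty_psl_equiv_pgl K (by
    rw [← hK, Nat.odd_add_one] at ho
    exact Nat.not_odd_iff_even.1 ho)
  exact ⟨K, inferInstance, inferInstance, hK, ⟨e.trans e'.symm⟩⟩

/-- a simple Zassenhaus group is `PSL(2, K)` on the projective line or has a non-abelian kernel
whose order is a power of two -/
theorem simple_dichotomy (hZ : IsZassenhausGroup G Ω) [Finite Ω] [hs : IsSimpleGroup G] {a : Ω}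
    {F : Subgroup G} (hF : IsKer a F) :
    (∃ (K : Type) (_ : Field K) (_ : Fintype K), Fintype.card K + 1 = Nat.card Ω ∧
      Nonempty (G ≃* PSL(2, K))) ∨ (IsPGroup 2 F ∧ ¬ IsMulCommutative F) := by
  rcases trichotomy hZ hF with h | ⟨K, _, _, h1, -, -, h2⟩ | h
  · rcases Nat.even_or_odd (Nat.card Ω) with he | ho
    · exact absurd hs (h.not_simple he)
    · exact Or.inl (h.psl_of_odd ho)
  · exact Or.inl ⟨K, inferInstance, inferInstance, h1, h2⟩
  · exact Or.inr h

/-- an abelian kernel of even order forces sharp triple transitivity -/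
theorem s3_of_comm_of_odd (hZ : IsZassenhausGroup G Ω) [Finite Ω] (ho : Odd (Nat.card Ω)) {a : Ω}
    {F : Subgroup G} (hF : IsKer a F) (hc : IsMulCommutative F) : S3 G Ω := by
  rcases trichotomy hZ hF with h | ⟨K, _, _, h1, h2, -⟩ | h
  · exact h
  · rw [← h1, Nat.odd_add_one] at ho
    exact absurd h2 ho
  · exact absurd hc h.2

end CL.Zass
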