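import Cfsg.Agent.Zass.Coord

/-!
Sharply triply transitive groups: abelian two-point stabiliser gives `PGL(2, K)`; elements of order
three in a two-point stabiliser.
-/

set_option autoImplicit false

namespace CL.Zass

open MulAction Subgroup OnePoint
open scoped MatrixGroups

variable {G Ω : Type*} [Group G] [MulAction G Ω]

/-- a multiplicative involution of `K^×` with the properties of the Weyl element is inversion -/
theorem weyl_eq_inv {K : Type*} [Field K] [Fintype K] (θ : K → K)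
    (hmul : ∀ x y, x ≠ 0 → y ≠ 0 → θ (x * y) = θ x * θ y) (hne : ∀ x, x ≠ 0 → θ x ≠ 0)
    (hinv : ∀ x, x ≠ 0 → θ (θ x) = x) (hneg : θ (-1) = -1)
    (hfix : ∀ x, x ≠ 0 → θ x = x → x = 1 ∨ x = -1)
    (hrel : ∀ x, x ≠ 0 → x ≠ 1 → θ (1 - θ x) = 1 - θ (1 - x)) (x : K) (hx : x ≠ 0) :
    θ x = 1 / x := by
  classical
  have hc : ∀ y, y ≠ 0 → y * θ y = 1 ∨ y * θ y = -1 := fun y hy =>
    hfix _ (mul_ne_zero hy (hne y hy)) (by rw [hmul _ _ hy (hne y hy), hinv y hy, mul_comm])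
  have hsq : ∀ y, y ≠ 0 → y ^ 2 * θ (y ^ 2) = 1 := by
    intro y hy
    rw [pow_two, hmul _ _ hy hy]
    rcases hc y hy with h | h
    · linear_combination (y * θ y + 1) * h
    · linear_combination (y * θ y - 1) * h
  by_contra hcon
  have h1 : x * θ x ≠ 1 := fun h => hcon (by field_simp; linear_combination h)
  have h2 : x * θ x = -1 := (hc x hx).resolve_left h1
  have h3 : (2 : K) ≠ 0 := fun h => h1 (by rw [h2]; linear_combination -h)
  have hxn : ¬ IsSquare x := by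
    rintro ⟨y, rfl⟩
    have hy : y ≠ 0 := fun h => hx (by rw [h, mul_zero])
    exact h1 (by rw [← pow_two]; exact hsq y hy)
  have hns : ∀ y, ¬ IsSquare y → y * θ y = -1 := by
    intro y hy
    obtain ⟨c, hc0, rfl⟩ := PSL2Rec.IsAff.sq_of_nonsq hxn hy
    rw [hmul _ _ (pow_ne_zero 2 hc0) hx]
    linear_combination (x * θ x) * hsq c hc0 + h2
  have hi : IsSquare (-1 : K) := by
    by_contra h
    have := hns _ h
    rw [hneg] at this
    exact h3 (by linear_combination this)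
  obtain ⟨i, hi⟩ := hi
  obtain ⟨c, hc0, hcn⟩ := PSL2Rec.IsAff.exists_sq_nonsq h3 (i := i) (by rw [pow_two, ← hi])
  have hc1 : 1 - c ^ 2 ≠ 0 := fun h => hcn (h ▸ IsSquare.zero)
  have e1 := hrel (c ^ 2) (pow_ne_zero 2 hc0) (fun h => hc1 (by rw [h, sub_self]))
  have e2 : θ (c ^ 2) = 1 / c ^ 2 := by
    have := hsq c hc0
    field_simp
    linear_combination this
  have e3 := hns _ hcn
  have e4 : ¬ IsSquare (1 - 1 / c ^ 2) := by
    rintro ⟨y, hy⟩
    refine hcn ⟨i * c * y, ?_⟩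
    have : c ^ 2 - 1 = c ^ 2 * (y * y) := by rw [← hy]; field_simp
    linear_combination -this + c ^ 2 * y ^ 2 * hi
  have e5 := hns _ e4
  rw [e2] at e1
  rw [e1] at e5
  have e6 : (c ^ 2 - 1) * (1 - θ (1 - c ^ 2)) = -c ^ 2 := by
    have : (1 - 1 / c ^ 2) * c ^ 2 = c ^ 2 - 1 := by field_simp
    rw [← this]
    linear_combination c ^ 2 * e5
  exact hc1 (mul_left_cancel₀ h3 (by linear_combination e3 - e6))

/-- a sharply triply transitive group with abelian two-point stabilisers is `PGL(2, K)` -/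
theorem S3.pgl_of_comm (h : S3 G Ω) [Finite Ω] {a b : Ω} (hab : a ≠ b)
    (hc : ∀ x ∈ st2 G a b, ∀ y ∈ st2 G a b, x * y = y * x) :
    ∃ (K : Type) (_ : Field K) (_ : Fintype K), Fintype.card K + 1 = Nat.card Ω ∧
      Nonempty (G ≃* PGL(2, K)) := by
  classical
  have := h.toPre.finite
  have := h.toPre.faithful
  obtain ⟨F, hF⟩ := h.toPre.exists_isKer a
  obtain ⟨K, _, _, e, U, hcard, ea, eb, hUF, hFU, hU, he, hK⟩ := h.toPre.exists_coords hab hF le_rfl
    hc (by rw [h.card_st2 hab]; omega)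
  refine ⟨K, inferInstance, inferInstance, hcard, ?_⟩
  have na : ∀ x : K, e x ≠ a := fun x hx => coe_ne_infty x (e.injective (hx.trans ea.symm))
  have einj : ∀ x y : K, e x = e y → x = y := fun x y hxy => coe_injective (e.injective hxy)
  have nb : ∀ x : K, x ≠ 0 → e x ≠ b := fun x hx h0 => hx (einj _ _ (h0.trans eb.symm))
  have hUe : ∀ x y : K, U x • e y = e (x + y : K) := fun x y => by rw [he, he, hU, mul_smul]
  have hscal : ∀ x : K, x ≠ 0 → ∃ k ∈ st2 G a b, ∀ y : K, k • e y = e (x * y : K) := by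
    intro x hx
    obtain ⟨k, hk, hk1⟩ := h.tri hab (na 1) (nb 1 one_ne_zero) (na x) (nb x hx)
    obtain ⟨c, -, hc⟩ := hK k hk
    rw [hc, mul_one] at hk1
    exact ⟨k, hk, einj _ _ hk1 ▸ hc⟩
  obtain ⟨s, hsa, hsb, hs1⟩ := h.exists_smul3 hab (na 1) (nb 1 one_ne_zero) hab.symm
    (nb 1 one_ne_zero) (na 1)
  have hss : s * s = 1 := h.three _ hab (nb 1 one_ne_zero).symm (na 1).symm
    (by rw [mul_smul, hsa, hsb]) (by rw [mul_smul, hsb, hsa]) (by rw [mul_smul, hs1, hs1])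
  have hsne : s ≠ 1 := by rintro rfl; exact hab (by simpa using hsa)
  have hex : ∀ x : K, ∃ y : K, x ≠ 0 → y ≠ 0 ∧ s • e x = e y := by
    intro x
    obtain ⟨P, hP⟩ := e.surjective (s • e x)
    induction P using OnePoint.rec with
    | infty =>
      refine ⟨0, fun hx => absurd ?_ (nb x hx)⟩
      exact smul_left_cancel s (by rw [← hP, hsb, ea])
    | coe y =>
      refine ⟨y, fun _ => ⟨?_, hP.symm⟩⟩
      rintro rfl
      exact na x (smul_left_cancel s (by rw [← hP, hsa, eb]))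
  choose θ hθ using hex
  have hθ1 : θ 1 = 1 := einj _ _ (by rw [← (hθ 1 one_ne_zero).2, hs1])
  have hmul : ∀ x y, x ≠ 0 → y ≠ 0 → θ (x * y) = θ x * θ y := by
    intro x y hx hy
    obtain ⟨k, hk, hk1⟩ := hscal x hx
    obtain ⟨c, -, hc⟩ := hK _ (conj_mem_st2_of_swap hsa hsb hk)
    have h1 := hc 1
    nth_rewrite 1 [← hs1] at h1
    rw [conj_smul_smul, hk1, mul_one, mul_one, (hθ x hx).2] at h1
    have h2 := hc (θ y)
    rw [← (hθ y hy).2, conj_smul_smul, hk1, (hθ _ (mul_ne_zero hx hy)).2, ← einj _ _ h1] at h2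
    exact einj _ _ h2
  have hinv : ∀ x, x ≠ 0 → θ (θ x) = x := fun x hx => einj _ _ (by
    rw [← (hθ _ (hθ x hx).1).2, ← (hθ x hx).2, ← mul_smul, hss, one_smul])
  have hneg : θ (-1) = -1 := by
    have h0 : (-1 : K) ≠ 0 := neg_ne_zero.2 one_ne_zero
    have h1 := hmul (-1) (-1) h0 h0
    rw [neg_mul_neg, one_mul, hθ1] at h1
    rcases mul_self_eq_one_iff.1 h1.symm with h2 | h2
    · have h3 := hinv (-1) h0
      rw [h2, hθ1] at h3
      rw [h2, ← h3]
    · exact h2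
  have hfix : ∀ x, x ≠ 0 → θ x = x → x = 1 ∨ x = -1 := by
    intro x hx hxx
    by_contra hcon
    push Not at hcon
    have h1 : s • e x = e x := by rw [(hθ x hx).2, hxx]
    by_cases h2 : (1 : K) = -1
    · have h3 : ringChar K = 2 := by
        refine (Nat.dvd_prime Nat.prime_two).1 ((ringChar.spec K 2).1 ?_) |>.resolve_left
          (CharP.ringChar_ne_one)
        push_cast
        linear_combination h2
      have h4 : Odd (Nat.card Ω) := by
        rw [← hcard]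
        exact (Nat.even_iff.2 (FiniteField.even_card_iff_char_two.1 h3)).add_one
      have h5 : e (1 : K) ≠ e x := fun h0 => hcon.1 (einj _ _ h0).symm
      exact hsne (eq_one_of_sq_of_odd (h.toPre.odd_st2_of_odd h5 h4) ⟨hs1, h1⟩ hss)
    · refine hsne (h.three s (a := e (1 : K)) (b := e (-1 : K)) (c := e x) (fun h0 => h2 (einj _ _ h0))
        (fun h0 => hcon.2 (einj _ _ h0).symm) (fun h0 => hcon.1 (einj _ _ h0).symm) hs1 ?_ h1)
      rw [(hθ _ (neg_ne_zero.2 one_ne_zero)).2, hneg]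
  obtain ⟨k, hk, hk1⟩ := hscal (-1) (neg_ne_zero.2 one_ne_zero)
  have hσ : ∀ y : K, (U 1 * k) • e y = e (1 - y : K) := fun y => by
    rw [mul_smul, hk1, hUe]; congr 2; ring
  have hσa : (U 1 * k) • a = a := by rw [mul_smul, hk.1, hF.smul_eq (hUF 1)]
  have hσb : (U 1 * k) • b = e (1 : K) := by rw [← eb, hσ, sub_zero]
  have hσ1 : (U 1 * k) • e (1 : K) = b := by rw [hσ, sub_self, eb]
  generalize U 1 * k = σ at hσ hσa hσb hσ1
  have hbraid : s * σ * s = σ * s * σ := h.toPre.eq_of_three hab (nb 1 one_ne_zero).symm (na 1).symm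
    (by simp only [mul_smul, hsa, hσb, hs1, hσa]) (by simp only [mul_smul, hsb, hσa, hsa, hσb, hs1, hσ1])
    (by simp only [mul_smul, hs1, hσ1, hsb, hσa])
  have hrel : ∀ x, x ≠ 0 → x ≠ 1 → θ (1 - θ x) = 1 - θ (1 - x) := by
    intro x hx hx1
    have h1 : (s * σ * s) • e x = (σ * s * σ) • e x := by rw [hbraid]
    have h2 : 1 - θ x ≠ 0 := fun h0 => hx1 (by
      rw [← hinv x hx, ← sub_eq_zero.1 h0, hθ1])
    rw [mul_smul, mul_smul, mul_smul, mul_smul, (hθ x hx).2, hσ, hσ, (hθ _ h2).2,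
      (hθ _ (sub_ne_zero.2 hx1.symm)).2, hσ] at h1
    exact einj _ _ h1
  have hw := weyl_eq_inv θ hmul (fun x hx => (hθ x hx).1) hinv hneg hfix hrel
  refine pgl_of_coords e (fun g hg => ?_) (fun d => ⟨U (-d), ?_, ?_⟩) s 1 one_ne_zero
    (by rw [ea, eb, hsa]) (by rw [ea, eb, hsb]) (fun x hx => by rw [(hθ x hx).2, hw x hx]) ?_
  · rw [ea] at hg
    obtain ⟨u, hu, x, hx, rfl⟩ := hF.decomp h.toPre hab hg
    obtain ⟨d, rfl⟩ := hFU u hu
    obtain ⟨c, hc0, hc⟩ := hK x hx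
    exact ⟨c, d, hc0, fun y => by rw [mul_smul, hc, hUe, add_comm]⟩
  · rw [ea, hF.smul_eq (hUF _)]
  · rw [hUe, neg_add_cancel]
  · rw [h.card_eq, ← hcard]
    have h1 : 0 < Fintype.card K := Fintype.card_pos
    obtain ⟨m, hm⟩ : ∃ m, Fintype.card K = m + 1 := ⟨Fintype.card K - 1, by omega⟩
    rw [hm, show (m + 1) ^ 2 - 1 = m * (m + 2) by
      rw [show (m + 1) ^ 2 = m * (m + 2) + 1 by ring]; rfl]
    simp only [Nat.add_sub_cancel, show m + 1 + 1 - 2 = m from rfl]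
    ring

/-- a two-point stabiliser has at most two elements of order three -/
theorem Pre.ncard_order_three_le (h : Pre G Ω) [Finite Ω] {a b : Ω} (hab : a ≠ b) :
    {g : G | g ∈ st2 G a b ∧ g ^ 3 = 1 ∧ g ≠ 1}.ncard ≤ 2 := by
  have := h.finite
  rcases {g : G | g ∈ st2 G a b ∧ g ^ 3 = 1 ∧ g ≠ 1}.eq_empty_or_nonempty with h0 | ⟨x, hx⟩
  · rw [h0]; simp
  have h1 := nfix_modEq (Ω := Ω) Nat.prime_three hx.2.1
  rw [h.nfix_of_mem_st2 hab hx.1 hx.2.2] at h1
  have hfix : ∀ g ∈ {g : G | g ^ 3 = 1 ∧ g ≠ 1}, nfix Ω g = 2 := by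
    intro g hg
    have h2 := nfix_modEq (Ω := Ω) Nat.prime_three hg.1
    have h3 := h.nfix_le_two hg.2
    unfold Nat.ModEq at h1 h2
    omega
  have hI : ∀ k g : G, g ∈ {g : G | g ^ 3 = 1 ∧ g ≠ 1} → k * g * k⁻¹ ∈ {g : G | g ^ 3 = 1 ∧ g ≠ 1} :=
    fun k g hg => ⟨by rw [conj_pow, hg.1]; simp, by simpa using hg.2⟩
  have e1 := h.count_pairs _ (fun g x y => g • x = y) hI
    (fun k g x y _ hr => by rw [conj_smul_smul, hr]) (Nat.card Ω - 2)
    (fun g hg => by rw [ncard_moved_pairs, hfix g hg]) hab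
  have e2 := h.count_pairs _ (fun g x y => g ∈ st2 G x y) hI
    (fun k g x y _ hr => conj_mem_st2 k hr) 2 (fun g hg => h.ncard_fixed_pairs (hfix g hg)) hab
  have key : ∀ g : G, g ^ 3 = 1 → g • a = b → g • g • b = a ∧ g • b ≠ a ∧ g • b ≠ b := by
    intro g hg hga
    have h2 : g • g • b = a := by
      rw [← hga, ← mul_smul, ← mul_smul, ← pow_three', hg, one_smul]
    refine ⟨h2, fun h3 => hab ?_, fun h3 => hab (smul_left_cancel g (hga.trans h3.symm))⟩
    rw [h3, hga] at h2; exact h2.symm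
  have e3 : {g : G | g ∈ {g : G | g ^ 3 = 1 ∧ g ≠ 1} ∧ g • a = b}.ncard ≤ Nat.card Ω - 2 := by
    rw [← ncard_ne_ne hab]
    refine Set.ncard_le_ncard_of_injOn (fun g => g • b) (fun g hg => (key g hg.1.1 hg.2).2)
      fun g hg g' hg' hgg => ?_
    obtain ⟨h2, h3, h4⟩ := key g hg.1.1 hg.2
    have h5 := (key g' hg'.1.1 hg'.2).1
    simp only at hgg
    exact h.eq_of_three hab h4.symm h3.symm (hg.2.trans hg'.2.symm) hgg (by rw [h2, hgg, h5])
  have e4 : {g : G | g ∈ {g : G | g ^ 3 = 1 ∧ g ≠ 1} ∧ g ∈ st2 G a b} =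
      {g : G | g ∈ st2 G a b ∧ g ^ 3 = 1 ∧ g ≠ 1} := by ext g; exact and_comm
  rw [e4] at e2
  have h3 := h.three_le_card
  have e5 : {g : G | g ^ 3 = 1 ∧ g ≠ 1}.ncard ≤ Nat.card Ω * (Nat.card Ω - 1) :=
    Nat.le_of_mul_le_mul_right (e1.le.trans (Nat.mul_le_mul_left _ e3)) (by omega)
  exact Nat.le_of_mul_le_mul_left (e2.ge.trans (Nat.mul_le_mul_right _ e5))
    (Nat.mul_pos (by omega) (by omega))

theorem Pre.eq_of_card_three (h : Pre G Ω) [Finite Ω] {a b : Ω} (hab : a ≠ b) {A B : Subgroup G}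
    (hA : A ≤ st2 G a b) (hB : B ≤ st2 G a b) (hA3 : Nat.card A = 3) (hB3 : Nat.card B = 3) :
    A = B := by
  have := h.finite
  have key : ∀ A : Subgroup G, A ≤ st2 G a b → Nat.card A = 3 →
      (A : Set G) \ {1} = {g : G | g ∈ st2 G a b ∧ g ^ 3 = 1 ∧ g ≠ 1} := by
    intro A hA hA3
    refine Set.eq_of_subset_of_ncard_le (fun g hg => ⟨hA hg.1, ?_, hg.2⟩) ?_
    · have := pow_card_eq_one' (G := A) (x := ⟨g, hg.1⟩)
      rw [hA3] at this
      exact congrArg Subtype.val this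
    · have e : (A : Set G).ncard = 3 := hA3
      rw [Set.ncard_sdiff_singleton_of_mem (by simp), e]
      exact h.ncard_order_three_le hab
  have h1 := (key A hA hA3).trans (key B hB hB3).symm
  ext g
  by_cases hg : g = 1
  · simp [hg]
  · exact ⟨fun h2 => (h1.subset ⟨h2, hg⟩).1, fun h2 => (h1.symm.subset ⟨h2, hg⟩).1⟩

end CL.Zass
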