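import Cfsg.Agent.Zass.Sharp3
import Cfsg.Agent.Perm.RegLinStruct
import Cfsg.Agent.Invol.Index2

/-!
Sharply triply transitive groups of even degree: an invariant subgroup of index two in the two-point
stabiliser, and a subgroup of index two in the whole group.
-/

set_option autoImplicit false

namespace CL.Zass

open MulAction Subgroup

universe u

section Abstract

variable {D : Type*} [Group D] [Finite D]

theorem exists_index_two_of_index_pow (K : Subgroup D) [K.Normal] {k : ℕ}
    (hK : K.index = 2 ^ (k + 1)) : ∃ N : Subgroup D, N.index = 2 := by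
  have : Fact (Nat.Prime 2) := ⟨Nat.prime_two⟩
  have hc : Nat.card (D ⧸ K) = 2 ^ (k + 1) := hK
  obtain ⟨M, hM⟩ := Sylow.exists_subgroup_card_pow_prime (G := D ⧸ K) 2 (n := k)
    (by rw [hc]; exact pow_dvd_pow 2 k.le_succ)
  refine ⟨M.comap (QuotientGroup.mk' K), ?_⟩
  rw [index_comap_of_surjective _ (QuotientGroup.mk'_surjective K)]
  have := M.card_mul_index
  rw [hM, hc, pow_succ] at this
  exact Nat.eq_of_mul_eq_mul_left (by positivity) this

theorem exists_index_two_of_comm (hc : ∀ x y : D, x * y = y * x) (he : Even (Nat.card D)) :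
    ∃ N : Subgroup D, N.index = 2 := by
  have : Fact (Nat.Prime 2) := ⟨Nat.prime_two⟩
  obtain ⟨P⟩ : Nonempty (Sylow 2 D) := inferInstance
  have hP : normalizer (P : Set D) ≤ centralizer (P : Set D) := fun x _ y _ => hc y x
  have h1 := (MonoidHom.ker_transferSylow_isComplement' P hP).symm.index_eq_card
  rw [P.card_eq_multiplicity] at h1
  have h2 : 0 < (Nat.card D).factorization 2 :=
    Nat.prime_two.factorization_pos_of_dvd Nat.card_pos.ne' he.two_dvd
  exact exists_index_two_of_index_pow _ (k := (Nat.card D).factorization 2 - 1)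
    (by rw [h1]; congr 1; omega)

theorem exists_index_two_of_metacyclic (A : Subgroup D) [A.Normal] (hA : IsCyclic A)
    (hD : _root_.commutator D ≤ A) (he : Even (Nat.card D)) : ∃ N : Subgroup D, N.index = 2 := by
  have : Fact (Nat.Prime 2) := ⟨Nat.prime_two⟩
  rcases Nat.even_or_odd A.index with h | h
  · have hc := Subgroup.Normal.quotient_commutative_iff_commutator_le.2 hD
    obtain ⟨M, hM⟩ := exists_index_two_of_comm (D := D ⧸ A) hc.is_comm.comm h
    exact ⟨M.comap (QuotientGroup.mk' A), by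
      rw [index_comap_of_surjective _ (QuotientGroup.mk'_surjective A), hM]⟩
  · obtain ⟨P⟩ : Nonempty (Sylow 2 D) := inferInstance
    have hPA : (P : Subgroup D) ≤ A := by
      intro x hx
      obtain ⟨k, hk⟩ := P.isPGroup' ⟨x, hx⟩
      have h1 : x ^ 2 ^ k = 1 := congrArg Subtype.val hk
      have h2 : (QuotientGroup.mk x : D ⧸ A) = 1 := by
        refine pow_eq_one_iff_of_coprime (m := 2 ^ k) (n := A.index)
          ((Nat.coprime_two_left.2 h).pow_left k) |>.1 ⟨?_, pow_card_eq_one'⟩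
        rw [← QuotientGroup.mk_pow, h1, QuotientGroup.mk_one]
      exact (QuotientGroup.eq_one_iff x).1 h2
    exact Invol.exists_index_two_of_isCyclic he P (isCyclic_of_le hPA)

/-- a group of even order acting regularly on the non-zero vectors and having at most one subgroup
of order three has a subgroup of index two -/
theorem exists_index_two_of_reg {V : Type*} [AddCommGroup V] [DistribMulAction D V]
    (hreg : ∀ v w : V, v ≠ 0 → w ≠ 0 → ∃! d : D, d • v = w) [Finite V] [Nontrivial V] (p : ℕ)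
    [hp : Fact p.Prime] [Module (ZMod p) V] (he : Even (Nat.card D))
    (h3 : ∀ A B : Subgroup D, Nat.card A = 3 → Nat.card B = 3 → A = B) :
    ∃ N : Subgroup D, N.index = 2 := by
  have hD := Perm.isFPF_of_reg hreg
  have := Perm.faithful_of_reg hreg
  obtain ⟨T, hTn, hTc, hT⟩ : ∃ T : Subgroup D, T.Normal ∧ IsMulCommutative T ∧
      (3 ∣ Nat.card D → 3 ∣ Nat.card T) := by
    by_cases h : 3 ∣ Nat.card D
    · have : Fact (Nat.Prime 3) := ⟨Nat.prime_three⟩
      obtain ⟨T, hT⟩ := Sylow.exists_subgroup_card_pow_prime (G := D) 3 (n := 1) (by simpa using h)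
      rw [pow_one] at hT
      have := isCyclic_of_prime_card hT
      refine ⟨T, ⟨fun n hn g => ?_⟩, inferInstance, fun _ => hT ▸ dvd_rfl⟩
      rw [h3 T (T.map (MulAut.conj g).toMonoidHom) hT
        (by rw [card_map_of_injective (MulAut.conj g).injective, hT])]
      exact ⟨n, hn, rfl⟩
    · exact ⟨⊥, inferInstance, inferInstance, fun h' => absurd h' h⟩
  obtain ⟨A, ⟨hAn, hAc, hTA⟩, hA⟩ := (wellFounded_gt (α := Subgroup D)).has_min
    {A | A.Normal ∧ IsMulCommutative A ∧ T ≤ A} ⟨T, hTn, hTc, le_rfl⟩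
  have hAmax : ∀ B : Subgroup D, B.Normal → IsMulCommutative B → A ≤ B → B = A :=
    fun B h1 h2 h3 => (h3.eq_or_lt.resolve_right (hA B ⟨h1, h2, hTA.trans h3⟩)).symm
  have hA3 : 3 ∣ Nat.card D → 3 ∣ Nat.card A := fun h => (hT h).trans (card_dvd_of_le hTA)
  by_cases hred : ∃ W : AddSubgroup V, W ≠ ⊥ ∧ W ≠ ⊤ ∧ ∀ a ∈ A, ∀ v ∈ W, a • v ∈ W
  swap
  · obtain ⟨k, m, -, -, -, -, -, h1, h2, h4⟩ := Perm.exists_field_data (p := p) (V := V) A hAc
      (fun u v hu hv => (hreg u v hu hv).exists)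
    have h5 := hAmax _ inferInstance (h4 (h2.2 fun W hW => by
      by_contra hc
      push Not at hc
      exact hred ⟨W, hc.1, hc.2, hW⟩)) A.le_centralizer
    rw [h5] at h1
    exact exists_index_two_of_metacyclic A (hD.subgroup A).isCyclic_of_comm h1 he
  obtain ⟨N, ⟨hNn, hNle, hNna⟩, hN⟩ := (wellFounded_lt (α := Subgroup D)).has_min
    {N | N.Normal ∧ N ≤ centralizer (A : Set D) ∧ ¬ IsMulCommutative N}
    ⟨centralizer (A : Set D), inferInstance, le_rfl, fun h =>
      Perm.centralizer_ne_of_reducible hreg p hAc hred (hAmax _ inferInstance h A.le_centralizer)⟩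
  have hNq := Perm.quaternion_or_SL25 hAc hAmax hD hNle hNna fun M h1 h2 h3 =>
    h2.eq_or_lt.resolve_right (hN M ⟨h1, h2.trans hNle, h3⟩)
  obtain ⟨h1, h2, h4⟩ := Perm.regLin_main hreg p hAc hAmax hred hNle hNq
  rcases hNq with ⟨⟨e⟩⟩ | ⟨⟨e⟩⟩
  · have h5 : A.index ∣ 24 := by
      rw [← h2]
      refine (Perm.index_centralizer_dvd_card_mulAut N).trans ?_
      rw [Nat.card_congr (MulAut.congr e).toEquiv]
      exact Perm.card_mulAut_quaternion_dvd
    have h6 : A.index ≠ 1 := by
      intro h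
      rw [index_eq_one] at h
      subst h
      refine hNna ⟨⟨fun x y => Subtype.ext ?_⟩⟩
      have := hAc.is_comm.comm ⟨x, mem_top _⟩ ⟨y, mem_top _⟩
      exact congrArg (fun z : (⊤ : Subgroup D) => (z : D)) this
    have h7 : ¬ 3 ∣ A.index := by
      intro h
      have h8 := hA3 (h.trans A.index_dvd_card)
      have h9 := Perm.card_eq_of_reg hreg
      have h10 : 9 ∣ Nat.card D := by
        rw [← A.index_mul_card]; exact mul_dvd_mul h h8
      have hp2 := hp.out.two_le
      have h11 : Nat.card D = (p + 1) * (p - 1) := by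
        obtain ⟨q, rfl⟩ : ∃ q, p = q + 1 := ⟨p - 1, by omega⟩
        rw [h1] at h9
        rw [Nat.add_sub_cancel]
        nlinarith
      have h12 : p + 1 ∣ 24 := by
        have := mul_dvd_mul h5 h4
        rwa [A.index_mul_card, h11, Nat.mul_dvd_mul_iff_right (by omega)] at this
      have h13 := h8.trans h4
      have h14 : p + 1 ≤ 24 := Nat.le_of_dvd (by norm_num) h12
      rw [h11] at h10
      have h15 : p ≤ 23 := by omega
      clear * - h10 h12 h13 hp2 h15
      interval_cases p <;> simp_all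
    have h8 : A.index ∣ 2 ^ 3 :=
      Nat.Coprime.dvd_of_dvd_mul_right (n := 3)
        ((Nat.prime_three.coprime_iff_not_dvd.2 h7).symm) h5
    obtain ⟨k, -, hk⟩ := (Nat.dvd_prime_pow Nat.prime_two).1 h8
    rcases k with _ | k
    · exact absurd hk h6
    · exact exists_index_two_of_index_pow A hk
  · refine absurd (hA3 ?_) (h2 ▸ (Perm.index_centralizer_of_SL25 hD e).2)
    refine dvd_trans ?_ N.card_subgroup_dvd_card
    rw [Nat.card_congr e.toEquiv, Perm.card_SL25]
    norm_num

end Abstract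

/-- an elementary abelian subgroup as a module for a subgroup normalising it -/
theorem exists_module_of_normalizes {G : Type u} [Group G] (P D : Subgroup G)
    (hD : ∀ d ∈ D, ∀ x ∈ P, d * x * d⁻¹ ∈ P) (hc : IsMulCommutative P) {p : ℕ} [NeZero p]
    (hp : ∀ x ∈ P, x ^ p = 1) :
    ∃ (V : Type u) (_ : AddCommGroup V) (_ : Module (ZMod p) V) (_ : DistribMulAction D V)
      (U : V → G), Function.Injective U ∧ (∀ v, U v ∈ P) ∧ (∀ x ∈ P, ∃ v, U v = x) ∧
      (∀ v w, U (v + w) = U v * U w) ∧ U 0 = 1 ∧ Nat.card V = Nat.card P ∧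
      ∀ (d : D) (v : V), U (d • v) = d * U v * (d : G)⁻¹ := by
  let _ : CommGroup P := { (inferInstance : Group P) with mul_comm := hc.is_comm.comm }
  let i : DistribMulAction D (Additive P) :=
    { smul := fun d v => Additive.ofMul ⟨d * v.toMul * (d : G)⁻¹, hD _ d.2 _ v.toMul.2⟩
      one_smul := fun v => congrArg Additive.ofMul (Subtype.ext (by
        change (1 : G) * v.toMul * 1⁻¹ = v.toMul
        group))
      mul_smul := fun d d' v => congrArg Additive.ofMul (Subtype.ext (by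
        change ((d : G) * d') * v.toMul * ((d : G) * d')⁻¹ =
          d * (d' * v.toMul * (d' : G)⁻¹) * (d : G)⁻¹
        group))
      smul_zero := fun d => congrArg Additive.ofMul (Subtype.ext (by simp))
      smul_add := fun d v w => congrArg Additive.ofMul (Subtype.ext (by
        change (d : G) * (v.toMul * w.toMul) * (d : G)⁻¹ =
          (d * v.toMul * (d : G)⁻¹) * (d * w.toMul * (d : G)⁻¹)
        group)) }
  exact ⟨Additive P, inferInstance, AddCommGroup.zmodModule fun v =>
    congrArg Additive.ofMul (Subtype.ext (hp _ v.toMul.2) : v.toMul ^ p = 1), i,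
    fun v => (v.toMul : G), fun v w h => congrArg Additive.ofMul (Subtype.ext h : v.toMul = w.toMul),
    fun v => v.toMul.2, fun x hx => ⟨Additive.ofMul ⟨x, hx⟩, rfl⟩, fun _ _ => rfl, rfl, rfl,
    fun _ _ => rfl⟩

variable {G Ω : Type*} [Group G] [MulAction G Ω]

/-- the kernel as a module on whose non-zero vectors the two-point stabiliser is regular -/
theorem S3.exists_module {G : Type u} [Group G] [MulAction G Ω] (h : S3 G Ω) [Finite Ω] {a b : Ω}
    (hab : a ≠ b) {F : Subgroup G} (hF : IsKer a F) :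
    ∃ (p : ℕ) (_ : Fact p.Prime) (V : Type u) (_ : AddCommGroup V) (_ : Module (ZMod p) V)
      (_ : DistribMulAction (st2 G a b) V) (_ : Finite V) (_ : Nontrivial V) (U : V → G),
      Function.Injective U ∧ (∀ v, U v ∈ F) ∧ (∀ x ∈ F, ∃ v, U v = x) ∧
      (∀ v w, U (v + w) = U v * U w) ∧ U 0 = 1 ∧ Nat.card V + 1 = Nat.card Ω ∧
      (∀ (d : st2 G a b) (v : V), U (d • v) = d * U v * (d : G)⁻¹) ∧
      ∀ v w : V, v ≠ 0 → w ≠ 0 → ∃! d : st2 G a b, d • v = w := by
  have := h.toPre.finite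
  obtain ⟨hFc, p, hp, hFp⟩ := hF.elementary_of_large h.toPre hab (by rw [h.card_st2 hab]; omega)
  have : Fact p.Prime := ⟨hp⟩
  obtain ⟨V, _, _, _, U, hinj, hUF, hFU, hU, hU0, hV, hsm⟩ := exists_module_of_normalizes F
    (st2 G a b) (fun d hd x hx => hF.conj_mem hd.1 hx) hFc hFp
  have hact : ∀ (d : st2 G a b) (v : V), U (d • v) • b = (d : G) • U v • b := by
    intro d v
    rw [hsm, mul_smul, mul_smul, inv_smul_eq_iff.2 d.2.2.symm]
  have hne : ∀ v : V, v ≠ 0 → U v • b ≠ a ∧ U v • b ≠ b := fun v hv =>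
    ⟨hF.smul_ne (hUF v) hab.symm, fun h0 => hv (hinj ((hF.eq_one (hUF v) hab.symm h0).trans hU0.symm))⟩
  have h1 := hF.card_add_one h.toPre
  have h3 := h.toPre.three_le_card
  have : Finite V := Finite.of_injective U hinj
  refine ⟨p, inferInstance, V, inferInstance, inferInstance, inferInstance, inferInstance,
    Finite.one_lt_card_iff_nontrivial.1 (by omega), U, hinj, hUF, hFU, hU, hU0, by omega, hsm,
    fun v w hv hw => ?_⟩
  obtain ⟨k, hk, hk'⟩ := h.tri hab (hne v hv).1 (hne v hv).2 (hne w hw).1 (hne w hw).2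
  refine ⟨⟨k, hk⟩, hinj (hF.eq_of_smul_eq (hUF _) (hUF _) hab.symm ((hact _ _).trans hk')),
    fun l hl => Subtype.ext ?_⟩
  refine h.toPre.injOn_smul_st2 hab (hne v hv).1 (hne v hv).2 l.2 hk ?_
  simp only
  rw [hk', ← hact, hl]

theorem S3.even_st2 (h : S3 G Ω) [Finite Ω] (he : Even (Nat.card Ω)) {a b : Ω} (hab : a ≠ b) :
    Even (Nat.card (st2 G a b)) := by
  rw [h.card_st2 hab]
  exact (Nat.even_sub (by have := h.toPre.three_le_card; omega)).2 (by simpa using he)

theorem S3.exists_index_two_st2 (h : S3 G Ω) [Finite Ω] (he : Even (Nat.card Ω)) {a b : Ω}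
    (hab : a ≠ b) : ∃ N : Subgroup (st2 G a b), N.index = 2 := by
  have := h.toPre.finite
  obtain ⟨F, hF⟩ := h.toPre.exists_isKer a
  obtain ⟨p, _, V, _, _, _, _, _, U, -, -, -, -, -, -, -, hreg⟩ := h.exists_module hab hF
  refine exists_index_two_of_reg hreg p (h.even_st2 he hab) fun A B hA hB => ?_
  refine map_injective (st2 G a b).subtype_injective (h.toPre.eq_of_card_three hab
    (map_subtype_le A) (map_subtype_le B) ?_ ?_)
  · rw [card_map_of_injective (st2 G a b).subtype_injective, hA]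
  · rw [card_map_of_injective (st2 G a b).subtype_injective, hB]

/-- an invariant subgroup of index two -/
theorem exists_invariant_index_two {H : Subgroup G} {s : G} (hs : ∀ x ∈ H, s * x * s⁻¹ ∈ H)
    (hss : s * s ∈ H) {N₁ : Subgroup H} (hN : N₁.index = 2) :
    ∃ N : Subgroup G, N ≤ H ∧ N.relIndex H = 2 ∧ ∀ n ∈ N, s * n * s⁻¹ ∈ N := by
  have hNn := normal_of_index_eq_two hN
  let c : H →* H := MonoidHom.mk' (fun x => ⟨s * x * s⁻¹, hs x x.2⟩) fun x y => Subtype.ext (by
    simp only [coe_mul]; group)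
  have hcc : ∀ x, c (c x) ∈ N₁ ↔ x ∈ N₁ := fun x => by
    have : c (c x) = ⟨s * s, hss⟩ * x * (⟨s * s, hss⟩ : H)⁻¹ := Subtype.ext (by
      change s * (s * x * s⁻¹) * s⁻¹ = s * s * x * (s * s)⁻¹
      group)
    rw [this]
    exact ⟨fun h => by simpa [mul_assoc] using hNn.conj_mem' _ h ⟨s * s, hss⟩, fun h => hNn.conj_mem _ h _⟩
  have key : ∀ N₀ : Subgroup H, N₀.index = 2 → (∀ x ∈ N₀, c x ∈ N₀) →
      ∃ N : Subgroup G, N ≤ H ∧ N.relIndex H = 2 ∧ ∀ n ∈ N, s * n * s⁻¹ ∈ N := by
    intro N₀ h1 h2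
    refine ⟨N₀.map H.subtype, map_subtype_le _, ?_, ?_⟩
    · rw [relIndex, ← comap_subtype, comap_map_eq_self_of_injective H.subtype_injective, h1]
    · rintro _ ⟨x, hx, rfl⟩
      exact ⟨c x, h2 x hx, rfl⟩
  by_cases hinv : ∀ x ∈ N₁, c x ∈ N₁
  · exact key N₁ hN hinv
  push Not at hinv
  obtain ⟨x, hx1, hx2⟩ := hinv
  let N₃ : Subgroup H :=
    { carrier := {y | y ∈ N₁ ↔ c y ∈ N₁}
      mul_mem' := fun {y z} hy hz => by
        simp only [Set.mem_ofPred_eq, map_mul, mul_mem_iff_of_index_two hN] at hy hz ⊢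
        rw [hy, hz]
      one_mem' := by simp
      inv_mem' := fun {y} hy => by simpa using hy }
  have hm : ∀ y, y ∈ N₃ ↔ (y ∈ N₁ ↔ c y ∈ N₁) := fun _ => Iff.rfl
  refine key N₃ (index_eq_two_iff.2 ⟨x, fun y => ?_⟩) fun y hy => ?_
  · simp only [hm, map_mul, mul_mem_iff_of_index_two hN, Xor]
    tauto
  · rw [hm, hcc, ← (hm y).1 hy]

theorem S3.exists_invariant (h : S3 G Ω) [Finite Ω] (he : Even (Nat.card Ω)) {a b : Ω}
    (hab : a ≠ b) {s : G} (hsa : s • a = b) (hsb : s • b = a) :
    ∃ N : Subgroup G, N ≤ st2 G a b ∧ N.relIndex (st2 G a b) = 2 ∧ ∀ n ∈ N, s * n * s⁻¹ ∈ N := by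
  obtain ⟨N₁, hN⟩ := h.exists_index_two_st2 he hab
  exact exists_invariant_index_two (fun x hx => conj_mem_st2_of_swap hsa hsb hx)
    (mul_mem_st2_of_swap hsa hsb hsa hsb) hN

end CL.Zass
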