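import Cfsg.Agent.Zass.Pair
import Cfsg.Agent.Solv.FrobeniusThm
import Cfsg.Agent.Solv.FpfComplement

/-!
# Existence of the kernel, and the two-point stabiliser as a Frobenius complement
-/

set_option autoImplicit false

namespace CL.Zass

open MulAction Subgroup

variable {G Ω : Type*} [Group G] [MulAction G Ω]

/-- a finite set with a fixed-point-free involution has even cardinality -/
theorem even_ncard_of_involution {α : Type*} {S : Set α} (hS : S.Finite) (f : α → α)
    (h1 : ∀ x ∈ S, f x ∈ S) (h2 : ∀ x ∈ S, f (f x) = x) (h3 : ∀ x ∈ S, f x ≠ x) :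
    Even S.ncard := by
  classical
  have := hS.fintype
  let g : Function.End S := fun x => ⟨f x, h1 x x.2⟩
  have key := Equiv.Perm.card_fixedPoints_modEq (f := g) (p := 2) (n := 1)
    (by funext x; exact Subtype.ext (h2 x x.2))
  have : IsEmpty g.fixedPoints := ⟨fun x => h3 x.1 x.1.2 (congrArg Subtype.val x.2)⟩
  rw [Fintype.card_eq_zero (α := g.fixedPoints), ← Nat.card_eq_fintype_card,
    Nat.card_coe_set_eq] at key
  exact even_iff_two_dvd.2 ((Nat.modEq_zero_iff_dvd).1 key)

theorem Pre.exists_isKer (h : Pre G Ω) [Finite Ω] (a : Ω) : ∃ F : Subgroup G, IsKer a F := by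
  have := h.finite
  obtain ⟨b, hb⟩ := h.exists_ne a
  have hab : a ≠ b := hb.symm
  have hM : CL.Frob.IsMalnormal ((st2 G a b).subgroupOf (stabilizer G a)) := by
    intro g x hx hgx hx1
    have hx1' : (x : G) ≠ 1 := fun hh => hx1 (Subtype.ext hh)
    rcases h.preserves_of_conj_mem hab (x := x) (g := g) hx hx1' hgx with hg | hg
    · exact hg
    · exact absurd ((show (g : G) • a = a from g.2).symm.trans hg.1) hab
  obtain ⟨N, hN, -, -⟩ := hM.exists_normal_complement
  refine ⟨N.map (stabilizer G a).subtype, fun g => ?_⟩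
  constructor
  · rintro ⟨x, hx, rfl⟩
    have hx' : x ∈ Cfsg.frobeniusKernel ((st2 G a b).subgroupOf (stabilizer G a)) := by
      rw [← hN]; exact hx
    rcases CL.Frob.mem_kernel_iff.1 hx' with rfl | hx'
    · left; rfl
    · right
      refine ⟨x.2, fun c hc => ?_⟩
      by_contra hca
      obtain ⟨k, hk1, hk2⟩ := h.two (Ne.symm hca) hab
      apply hx' ⟨k, hk1⟩
      have := conj_mem_st2 k (show (x : G) ∈ st2 G a c from ⟨x.2, hc⟩)
      rw [hk1, hk2] at this
      exact this
  · rintro (rfl | ⟨h1, h2⟩)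
    · exact Subgroup.one_mem _
    · refine ⟨⟨g, h1⟩, ?_, rfl⟩
      rw [hN, CL.Frob.mem_kernel_iff]
      right
      intro k hk
      have h3 : ((k : G) * g * (k : G)⁻¹) • b = b := hk.2
      rw [mul_smul, mul_smul, ← eq_inv_smul_iff] at h3
      have h4 := h2 _ h3
      rw [inv_smul_eq_iff, show (k : G) • a = a from k.2] at h4
      exact hb h4

namespace IsKer

variable {a b : Ω} {F : Subgroup G}

theorem stabilizer_le_normalizer (hF : IsKer a F) : stabilizer G a ≤ normalizer (F : Set G) := by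
  intro g hg
  rw [Subgroup.mem_normalizer_iff]
  intro u
  refine ⟨fun hu => hF.conj_mem hg hu, fun hu => ?_⟩
  have := hF.conj_mem' hg hu
  simpa [mul_assoc] using this

theorem st2_le_normalizer (hF : IsKer a F) : st2 G a b ≤ normalizer (F : Set G) :=
  le_trans inf_le_left hF.stabilizer_le_normalizer

theorem fpf (hF : IsKer a F) (h : Pre G Ω) (hab : a ≠ b) :
    ∀ x ∈ st2 G a b, x ≠ 1 → F ⊓ centralizer {x} = ⊥ := by
  intro x hx hx1
  rw [Subgroup.eq_bot_iff_forall]
  rintro u ⟨hu, hc⟩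
  exact hF.eq_one_of_commute h hab hu hx hx1 (Subgroup.mem_centralizer_singleton_iff.1 hc).symm

theorem comm_of_even (hF : IsKer a F) (h : Pre G Ω) [Finite Ω] (hab : a ≠ b)
    (he : Even (Nat.card (st2 G a b))) : IsMulCommutative F := by
  have := h.finite
  obtain ⟨t, ht, ht2, ht1⟩ := exists_invol_of_even _ he
  exact CL.Frob.isMulCommutative_of_involution_of_fpf hF.st2_le_normalizer (hF.fpf h hab)
    ht (orderOf_eq_two_iff.2 ⟨ht2, ht1⟩)

theorem conj_eq_inv (hF : IsKer a F) (h : Pre G Ω) [Finite Ω] (hab : a ≠ b) {t : G}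
    (ht : t ∈ st2 G a b) (ht2 : t * t = 1) (ht1 : t ≠ 1) {u : G} (hu : u ∈ F) :
    t * u * t⁻¹ = u⁻¹ := by
  have := h.finite
  exact CL.Frob.conj_eq_inv_of_fpf hF.st2_le_normalizer (hF.fpf h hab)
    ht (orderOf_eq_two_iff.2 ⟨ht2, ht1⟩) hu

/-- If `D ≤ st2 a b` has order at least `(|F| - 1) / 2`, then `F` has no proper nontrivial
`D`-invariant subgroup. -/
theorem irreducible (hF : IsKer a F) (h : Pre G Ω) [Finite Ω] (hab : a ≠ b) {D : Subgroup G}
    (hD : D ≤ st2 G a b) (hd : Nat.card Ω - 2 ≤ 2 * Nat.card D) {W : Subgroup G} (hW : W ≤ F)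
    (hinv : ∀ x ∈ D, ∀ u ∈ W, x * u * x⁻¹ ∈ W) : W = ⊥ ∨ W = F := by
  have := h.finite
  have h1 := hF.card_st2_dvd_ncard h hab hD (S := (W : Set G) \ {1}) (fun u hu => hW hu.1)
    (by simp) (fun x hx u hu => ⟨hinv x hx u hu.1, by simpa using hu.2⟩)
  rw [Set.ncard_sdiff_singleton_of_mem (by simp), ← Nat.card_coe_set_eq] at h1
  change _ ∣ Nat.card W - 1 at h1
  obtain ⟨m, hm⟩ := Subgroup.card_dvd_of_le hW
  have h2 := hF.card_eq h
  have h3 := h.three_le_card
  by_contra hcon
  push Not at hcon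
  have hW1 : 1 < Nat.card W := (Subgroup.one_lt_card_iff_ne_bot _).2 hcon.1
  have hle := Nat.le_of_dvd (by omega) h1
  have hm1 : m ≠ 1 := by
    rintro rfl
    exact hcon.2 (Subgroup.eq_of_le_of_card_ge hW (by omega))
  have hm0 : m ≠ 0 := by
    rintro rfl
    omega
  have : Nat.card W * 2 ≤ Nat.card W * m := Nat.mul_le_mul_left _ (by omega)
  omega

/-- Large two-point stabiliser: the kernel is elementary abelian. -/
theorem elementary_of_large (hF : IsKer a F) (h : Pre G Ω) [Finite Ω] (hab : a ≠ b)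
    (hd : Nat.card Ω - 2 ≤ 2 * Nat.card (st2 G a b)) :
    IsMulCommutative F ∧ ∃ p : ℕ, p.Prime ∧ ∀ u ∈ F, u ^ p = 1 := by
  have := h.finite
  have hcard := hF.card_eq h
  have h3 := h.three_le_card
  -- `F` is a `p`-group or abelian; then the centre argument
  have hconj : ∀ x ∈ st2 G a b, ∀ u ∈ F, x * u * x⁻¹ ∈ F := fun x hx u hu => hF.conj_mem hx.1 hu
  obtain ⟨p, hp, hpF⟩ := Nat.exists_prime_and_dvd (n := Nat.card F) (by omega)
  have := Fact.mk hp
  obtain ⟨u₀, hu₀⟩ := exists_prime_orderOf_dvd_card' p hpF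
  rw [← Subgroup.orderOf_coe] at hu₀
  have hu₀1 : (u₀ : G) ≠ 1 := fun hh => hp.one_lt.ne (by rw [← hu₀, hh, orderOf_one])
  have hu₀p : (u₀ : G) ^ p = 1 := by rw [← hu₀, pow_orderOf_eq_one]
  have hcomm : IsMulCommutative F := by
    rcases Nat.even_or_odd (Nat.card (st2 G a b)) with he | ho
    · exact hF.comm_of_even h hab he
    -- `F` is a `p`-group
    have hP : IsPGroup p F := by
      by_contra hP
      obtain ⟨q, hq, hqF, hqp⟩ : ∃ q : ℕ, q.Prime ∧ q ∣ Nat.card F ∧ q ≠ p := by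
        by_contra hcon
        push Not at hcon
        exact hP (IsPGroup.iff_card.2 ⟨_, Nat.eq_prime_pow_of_unique_prime_dvd (by omega)
          (fun hq hqF => hcon _ hq hqF)⟩)
      -- the elements of order `r`, for `r = p, q`
      have key : ∀ r : ℕ, r.Prime → r ∣ Nat.card F → r ≠ 2 →
          2 * Nat.card (st2 G a b) ≤ {u : G | u ∈ F ∧ orderOf u = r}.ncard := by
        intro r hr hrF hr2
        have := Fact.mk hr
        have hdvd := hF.card_st2_dvd_ncard h hab le_rfl (S := {u : G | u ∈ F ∧ orderOf u = r})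
          (fun u hu => hu.1) (by simp [hr.one_lt.ne]) (fun x hx u hu => ⟨hconj x hx u hu.1, by
            rw [← hu.2]; exact (MulAut.conj x).orderOf_eq u⟩)
        have heven : Even {u : G | u ∈ F ∧ orderOf u = r}.ncard := by
          refine even_ncard_of_involution (Set.toFinite _) (fun u => u⁻¹) ?_ ?_ ?_
          · intro u hu
            exact ⟨F.inv_mem hu.1, by rw [orderOf_inv, hu.2]⟩
          · intro u hu; simp
          · intro u hu hh
            have h2 : u ^ 2 = 1 := by rw [pow_two]; nth_rewrite 1 [← hh]; simp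
            have := orderOf_dvd_of_pow_eq_one h2
            rw [hu.2] at this
            exact hr2 ((Nat.prime_dvd_prime_iff_eq hr Nat.prime_two).1 this)
        obtain ⟨v, hv⟩ := exists_prime_orderOf_dvd_card' r hrF
        rw [← Subgroup.orderOf_coe] at hv
        have hpos : 0 < {u : G | u ∈ F ∧ orderOf u = r}.ncard :=
          (Set.ncard_pos (Set.toFinite _)).2 ⟨v, v.2, hv⟩
        apply Nat.le_of_dvd hpos
        exact Nat.Coprime.mul_dvd_of_dvd_of_dvd (Nat.coprime_two_left.2 ho) heven.two_dvd hdvd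
      have key2 : ∀ r r' : ℕ, r.Prime → r ∣ Nat.card F → r ≠ 2 → r'.Prime → r' ∣ Nat.card F →
          r ≠ r' → False := by
        intro r r' hr hrF hr2 hr' hrF' hrr
        have := Fact.mk hr'
        obtain ⟨v, hv⟩ := exists_prime_orderOf_dvd_card' r' hrF'
        rw [← Subgroup.orderOf_coe] at hv
        have hv1 : (1 : G) ≠ v := fun hh => hr'.one_lt.ne (by rw [← hv, ← hh, orderOf_one])
        have hsub : {u : G | u ∈ F ∧ orderOf u = r} ⊆ (F : Set G) \ {1, (v : G)} := by
          rintro u ⟨hu, hur⟩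
          refine ⟨hu, ?_⟩
          rintro (rfl | rfl)
          · exact hr.one_lt.ne (by rw [← hur, orderOf_one])
          · exact hrr (hur.symm.trans hv)
        have hle := Set.ncard_le_ncard hsub
        rw [Set.ncard_sdiff (by rintro u (rfl | rfl); exacts [F.one_mem, v.2]),
          Set.ncard_pair hv1] at hle
        have h1 := key r hr hrF hr2
        change _ ≤ Nat.card F - 2 at hle
        have : 0 < Nat.card (st2 G a b) := Nat.card_pos
        omega
      by_cases hp2 : p = 2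
      · exact key2 q p hq hqF (hp2 ▸ hqp) hp hpF hqp
      · exact key2 p q hp hpF hp2 hq hqF hqp.symm
    have hZ := CL.Frob.inf_centralizer_ne_bot_of_isPGroup hP (hF.ne_bot h)
    have hZ' := (hF.irreducible h hab le_rfl hd (W := F ⊓ centralizer (F : Set G)) inf_le_left
      (by
        rintro x hx u ⟨hu, huc⟩
        refine ⟨hconj x hx u hu, fun v hv => ?_⟩
        have := huc _ (hF.conj_mem' hx.1 hv)
        calc v * (x * u * x⁻¹) = x * (x⁻¹ * v * x * u) * x⁻¹ := by group
          _ = x * u * x⁻¹ * v := by rw [this]; group)).resolve_left hZ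
    rw [← hZ']
    exact CL.Frob.isMulCommutative_inf_centralizer F
  refine ⟨hcomm, p, hp, ?_⟩
  let W : Subgroup G :=
    { carrier := {u | u ∈ F ∧ u ^ p = 1}
      one_mem' := ⟨F.one_mem, one_pow p⟩
      mul_mem' := by
        rintro u v ⟨hu, hup⟩ ⟨hv, hvp⟩
        refine ⟨F.mul_mem hu hv, ?_⟩
        have hc : Commute u v := congrArg Subtype.val (hcomm.is_comm.comm (⟨u, hu⟩ : F) ⟨v, hv⟩)
        rw [hc.mul_pow, hup, hvp, one_mul]
      inv_mem' := by
        rintro u ⟨hu, hup⟩
        exact ⟨F.inv_mem hu, by rw [inv_pow, hup, inv_one]⟩ }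
  have hW := (hF.irreducible h hab le_rfl hd (W := W) (fun u hu => hu.1) (by
    rintro x hx u ⟨hu, hup⟩
    exact ⟨hconj x hx u hu, by rw [conj_pow, hup]; simp⟩)).resolve_left (by
      intro hbot
      have : (u₀ : G) ∈ W := ⟨u₀.2, hu₀p⟩
      rw [hbot, Subgroup.mem_bot] at this
      exact hu₀1 this)
  intro u hu
  rw [← hW] at hu
  exact hu.2

theorem card_eq_prime_pow (hF : IsKer a F) (h : Pre G Ω) [Finite Ω] {p : ℕ} (hp : p.Prime)
    (hP : IsPGroup p F) : ∃ f : ℕ, 1 ≤ f ∧ Nat.card Ω = p ^ f + 1 := by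
  have := h.finite
  have := Fact.mk hp
  obtain ⟨f, hf⟩ := IsPGroup.iff_card.1 hP
  have h1 := hF.card_add_one h
  have h3 := h.three_le_card
  refine ⟨f, ?_, by rw [← h1, hf]⟩
  rcases Nat.eq_zero_or_pos f with rfl | hf0
  · rw [pow_zero] at hf; omega
  · exact hf0

theorem isPGroup_of_pow {F : Subgroup G} {p : ℕ} (hp : ∀ u ∈ F, u ^ p = 1) : IsPGroup p F :=
  fun u => ⟨1, Subtype.ext (by rw [pow_one]; exact hp u u.2)⟩

end IsKer

namespace Pre

variable {a b : Ω}

theorem isCyclic_of_comm (h : Pre G Ω) [Finite Ω] (hab : a ≠ b) {D : Subgroup G}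
    (hD : D ≤ st2 G a b) (hc : ∀ x ∈ D, ∀ y ∈ D, x * y = y * x) : IsCyclic D := by
  have := h.finite
  obtain ⟨F, hF⟩ := h.exists_isKer a
  have : IsMulCommutative D := ⟨⟨fun x y => Subtype.ext (hc x x.2 y y.2)⟩⟩
  exact CL.Frob.isCyclic_of_isMulCommutative_of_fpf (hD.trans hF.st2_le_normalizer)
    (fun x hx => hF.fpf h hab x (hD hx)) (hF.ne_bot h)

theorem isZGroup_of_odd (h : Pre G Ω) [Finite Ω] (hab : a ≠ b) {D : Subgroup G}
    (hD : D ≤ st2 G a b) (ho : Odd (Nat.card D)) : IsZGroup D := by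
  have := h.finite
  obtain ⟨F, hF⟩ := h.exists_isKer a
  exact CL.Frob.isZGroup_of_odd_of_fpf (hD.trans hF.st2_le_normalizer)
    (fun x hx => hF.fpf h hab x (hD hx)) (hF.ne_bot h) ho

theorem isCyclic_or_quaternion (h : Pre G Ω) [Finite Ω] (hab : a ≠ b) {p : ℕ} [Fact p.Prime]
    {P : Subgroup G} (hP : IsPGroup p P) (hPle : P ≤ st2 G a b) :
    IsCyclic P ∨ (p = 2 ∧ ∃ n : ℕ, 1 ≤ n ∧ Nonempty (P ≃* QuaternionGroup (2 ^ n))) := by
  have := h.finite
  obtain ⟨F, hF⟩ := h.exists_isKer a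
  exact CL.Frob.isCyclic_or_quaternion_of_le_of_fpf hF.st2_le_normalizer (hF.fpf h hab)
    (hF.ne_bot h) hP hPle

theorem invol_commute (h : Pre G Ω) [Finite Ω] (hab : a ≠ b) {t g : G} (ht : t ∈ st2 G a b)
    (ht2 : t * t = 1) (hg : g ∈ pst G a b) : g * t = t * g := by
  by_cases ht1 : t = 1
  · simp [ht1]
  have := h.invol_unique hab (conj_mem_st2_of_pst hg ht)
    (by calc g * t * g⁻¹ * (g * t * g⁻¹) = g * (t * t) * g⁻¹ := by group
      _ = 1 := by rw [ht2]; group) (by simpa using ht1) ht ht2 ht1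
  rw [← mul_inv_eq_iff_eq_mul]; exact this

theorem coprime_st2_index_of_odd (h : Pre G Ω) [Finite Ω] (hab : a ≠ b)
    (ho : Odd (Nat.card (st2 G a b))) : (Nat.card (st2 G a b)).Coprime (st2 G a b).index := by
  rw [h.index_st2 hab]
  obtain ⟨k, hk⟩ := h.card_st2_dvd hab
  have h3 := h.three_le_card
  apply Nat.Coprime.mul_right
  · rw [show Nat.card Ω = 2 + Nat.card (st2 G a b) * k by omega, Nat.coprime_add_mul_left_right]
    exact Nat.coprime_two_right.2 ho
  · rw [show Nat.card Ω - 1 = 1 + Nat.card (st2 G a b) * k by omega, Nat.coprime_add_mul_left_right]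
    exact Nat.coprime_one_right _

end Pre

end CL.Zass
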