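import Cfsg.Agent.Zass.Normal

/-!
# Two-point stabilisers of odd order
-/

set_option autoImplicit false

namespace CL.Zass

open MulAction Subgroup

variable {G Ω : Type*} [Group G] [MulAction G Ω]

/-- a subgroup containing a Sylow subgroup's worth of `H` for each prime contains `H` -/
theorem le_of_forall_prime {H K : Subgroup G} [Finite G]
    (hK : ∀ q : ℕ, q.Prime → q ∣ Nat.card H → ∃ Q : Subgroup G, Q ≤ H ∧ Q ≤ K ∧
      Nat.card Q = q ^ (Nat.card H).factorization q) : H ≤ K := by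
  have hdvd : Nat.card H ∣ Nat.card (H ⊓ K : Subgroup G) := by
    rw [← Nat.factorization_le_iff_dvd Nat.card_pos.ne' Nat.card_pos.ne']
    intro q
    by_cases hq : q.Prime
    · by_cases hqH : q ∣ Nat.card H
      · obtain ⟨Q, h1, h2, h3⟩ := hK q hq hqH
        rw [← hq.pow_dvd_iff_le_factorization Nat.card_pos.ne', ← h3]
        exact Subgroup.card_dvd_of_le (le_inf h1 h2)
      · rw [Nat.factorization_eq_zero_of_not_dvd hqH]; exact Nat.zero_le _
    · rw [Nat.factorization_eq_zero_of_not_prime _ hq]; exact Nat.zero_le _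
  have := Subgroup.eq_of_le_of_card_ge (inf_le_left : H ⊓ K ≤ H) (Nat.le_of_dvd Nat.card_pos hdvd)
  rw [← this]
  exact inf_le_right

theorem Pre.inverts_of_no_complement (h : Pre G Ω) [Finite Ω] {a b : Ω} (hab : a ≠ b)
    (ho : Odd (Nat.card (st2 G a b)))
    (hnil : ∀ q : ℕ, q.Prime → q ∣ Nat.card (st2 G a b) →
      ¬ ∃ N : Subgroup G, N.Normal ∧ N.index = q ^ (Nat.card G).factorization q)
    {s : G} (hsa : s • a = b) (hsb : s • b = a) : ∀ x ∈ st2 G a b, s * x * s⁻¹ = x⁻¹ := by
  have := h.finite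
  have hZH : IsZGroup (st2 G a b) := h.isZGroup_of_odd hab le_rfl ho
  set M := pst G a b with hM
  have hHM : st2 G a b ≤ M := st2_le_pst a b
  have hcop := h.coprime_st2_index_of_odd hab ho
  -- `H ≤ M'`
  have hle : st2 G a b ≤ (_root_.commutator M).map M.subtype := by
    apply le_of_forall_prime
    intro q hq hqd
    have := Fact.mk hq
    have hq2 : q ≠ 2 := by
      rintro rfl
      exact (Nat.not_even_iff_odd.2 ho) (even_iff_two_dvd.2 hqd)
    obtain ⟨P⟩ : Nonempty (Sylow q (st2 G a b)) := inferInstance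
    let Q : Subgroup G := (P : Subgroup (st2 G a b)).map (st2 G a b).subtype
    have hQH : Q ≤ st2 G a b := Subgroup.map_subtype_le _
    have hQc : Nat.card Q = q ^ (Nat.card (st2 G a b)).factorization q := by
      rw [← P.card_eq_multiplicity]
      exact Subgroup.card_map_of_injective (st2 G a b).subtype_injective
    have hQcyc : IsCyclic Q :=
      isCyclic_of_surjective _ (Subgroup.equivMapOfInjective _ _ (st2 G a b).subtype_injective).surjective
    have hfG : (Nat.card G).factorization q = (Nat.card (st2 G a b)).factorization q := by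
      rw [← (st2 G a b).card_mul_index, Nat.factorization_mul Nat.card_pos.ne' (st2 G a b).index_ne_zero_of_finite,
        Finsupp.add_apply, Nat.factorization_eq_zero_of_not_dvd (n := (st2 G a b).index), add_zero]
      exact fun hh => hq.one_lt.ne' (Nat.eq_one_of_dvd_coprimes hcop hqd hh)
    have hfM : (Nat.card M).factorization q = (Nat.card (st2 G a b)).factorization q := by
      rw [hM, h.card_pst hab, Nat.factorization_mul two_ne_zero Nat.card_pos.ne',
        Finsupp.add_apply, Nat.factorization_eq_zero_of_not_dvd (n := 2), zero_add]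
      exact fun hh => hq2 ((Nat.prime_dvd_prime_iff_eq hq Nat.prime_two).1 hh)
    have hQne : Q ≠ ⊥ := by
      intro hbot
      rw [hbot, Subgroup.card_bot] at hQc
      have := hq.factorization_pos_of_dvd Nat.card_pos.ne' hqd
      exact (Nat.one_lt_pow this.ne' hq.one_lt).ne hQc
    let PG : Sylow q G := Sylow.ofCard Q (by rw [hQc, hfG])
    let PM : Sylow q M := Sylow.ofCard (Q.subgroupOf M) (by
      rw [hfM, ← hQc]
      exact Nat.card_congr (Subgroup.subgroupOfEquivOfLe (hQH.trans hHM)).toEquiv)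
    have hPMc : IsCyclic PM :=
      isCyclic_of_surjective _ (Subgroup.subgroupOfEquivOfLe (hQH.trans hHM)).symm.surjective
    refine ⟨Q, hQH, ?_, hQc⟩
    rcases PM.normalizer_le_centralizer_or_le_commutator with hc | hc
    · exfalso
      have hNC : normalizer (PG : Set G) ≤ centralizer (PG : Set G) := by
        intro g hg
        have hgM : g ∈ M := h.normalizer_le_pst hab hQH hQne hg
        have hg' : (⟨g, hgM⟩ : M) ∈ normalizer (PM : Set M) := by
          rw [Subgroup.mem_set_normalizer_iff] at hg ⊢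
          intro x
          exact hg x
        intro x hx
        exact congrArg Subtype.val (hc hg' ⟨x, hHM (hQH hx)⟩ hx)
      have hcompl := MonoidHom.ker_transferSylow_isComplement' PG hNC
      apply hnil q hq hqd
      refine ⟨(MonoidHom.transferSylow PG hNC).ker, inferInstance, ?_⟩
      rw [hcompl.symm.index_eq_card, PG.card_eq_multiplicity]
    · intro x hx
      exact ⟨⟨x, hHM (hQH hx)⟩, hc hx, rfl⟩
  -- `M` is a Z-group
  have hZM : IsZGroup M := by
    have hn := normal_st2_pst (G := G) a b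
    have h1 : IsZGroup ((st2 G a b).subgroupOf M) :=
      IsZGroup.of_injective (f := (Subgroup.subgroupOfEquivOfLe hHM).toMonoidHom)
        (Subgroup.subgroupOfEquivOfLe hHM).injective
    have hc2 : Nat.card (M ⧸ (st2 G a b).subgroupOf M) = 2 := h.index_st2_pst hab
    have := Fact.mk Nat.prime_two
    have h2 : IsCyclic (M ⧸ (st2 G a b).subgroupOf M) := isCyclic_of_prime_card hc2
    refine isZGroup_of_coprime (f := ((st2 G a b).subgroupOf M).subtype)
      (f' := QuotientGroup.mk' ((st2 G a b).subgroupOf M)) (by simp) ?_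
    rw [hc2, Nat.card_congr (Subgroup.subgroupOfEquivOfLe hHM).toEquiv]
    exact Nat.coprime_two_right.2 ho
  have hcyc := IsZGroup.isCyclic_commutator M
  have hcomm : ∀ x ∈ st2 G a b, ∀ y ∈ st2 G a b, x * y = y * x := by
    intro x hx y hy
    obtain ⟨x', hx', rfl⟩ := hle hx
    obtain ⟨y', hy', rfl⟩ := hle hy
    have := hcyc.isMulCommutative.is_comm.comm (⟨x', hx'⟩ : _root_.commutator M) ⟨y', hy'⟩
    exact congrArg (fun z : _root_.commutator M => ((z : M) : G)) this
  have hconj : ∀ x ∈ st2 G a b, s * x * s⁻¹ ∈ st2 G a b :=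
    fun x hx => conj_mem_st2_of_swap hsa hsb hx
  refine Pre.inverts_of_fpf hconj
    (fun x hx => hcomm _ (mul_mem_st2_of_swap hsa hsb hsa hsb) x hx) ?_
  -- the map `x ↦ s x s⁻¹ x⁻¹` is onto
  let f : st2 G a b →* st2 G a b :=
    { toFun := fun x => ⟨s * x * s⁻¹ * (x : G)⁻¹, (st2 G a b).mul_mem (hconj x x.2)
        ((st2 G a b).inv_mem x.2)⟩
      map_one' := by ext; simp
      map_mul' := by
        intro x y
        ext
        change s * (x * y) * s⁻¹ * ((x : G) * y)⁻¹ = s * x * s⁻¹ * (x : G)⁻¹ * (s * y * s⁻¹ * (y : G)⁻¹)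
        have h1 := hcomm _ ((st2 G a b).inv_mem x.2) _
          ((st2 G a b).mul_mem (hconj y y.2) ((st2 G a b).inv_mem y.2))
        calc s * (x * y) * s⁻¹ * ((x : G) * y)⁻¹
            = s * x * s⁻¹ * (s * y * s⁻¹ * (y : G)⁻¹ * (x : G)⁻¹) := by group
          _ = _ := by rw [← h1]; group }
  let R : Subgroup G := f.range.map (st2 G a b).subtype
  have hR : ∀ x ∈ st2 G a b, s * x * s⁻¹ * x⁻¹ ∈ R := fun x hx => ⟨_, ⟨⟨x, hx⟩, rfl⟩, rfl⟩
  have hcommR : ∀ g ∈ M, ∀ g' ∈ M, g * g' * g⁻¹ * g'⁻¹ ∈ R := by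
    have hsw : ∀ g : G, g • a = b → g • b = a → ∃ x ∈ st2 G a b, g = x * s := by
      intro g h1 h2
      refine ⟨g * s⁻¹, mul_mem_st2_of_swap h1 h2 (swap_inv hsa hsb).1 (swap_inv hsa hsb).2, by simp⟩
    have hmix : ∀ x ∈ st2 G a b, ∀ y ∈ st2 G a b, (x * s) * y * (x * s)⁻¹ * y⁻¹ ∈ R := by
      intro x hx y hy
      have h1 := hcomm x hx _ (hconj y hy)
      have : (x * s) * y * (x * s)⁻¹ * y⁻¹ = s * y * s⁻¹ * y⁻¹ := by
        calc (x * s) * y * (x * s)⁻¹ * y⁻¹ = (x * (s * y * s⁻¹)) * x⁻¹ * y⁻¹ := by group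
          _ = _ := by rw [h1]; group
      rw [this]; exact hR y hy
    rintro g (hg | hg) g' (hg' | hg')
    · rw [hcomm g hg g' hg']
      simp
    · obtain ⟨x, hx, rfl⟩ := hsw g' hg'.1 hg'.2
      have := R.inv_mem (hmix x hx g hg)
      convert this using 1
      group
    · obtain ⟨x, hx, rfl⟩ := hsw g hg.1 hg.2
      exact hmix x hx g' hg'
    · obtain ⟨x, hx, rfl⟩ := hsw g hg.1 hg.2
      obtain ⟨y, hy, rfl⟩ := hsw g' hg'.1 hg'.2
      have h1 := hR _ ((st2 G a b).mul_mem ((st2 G a b).inv_mem hx) hy)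
      have h2 := hcomm x hx _ (hconj _ ((st2 G a b).mul_mem hy ((st2 G a b).inv_mem hx)))
      have h3 := hcomm x hx y hy
      have h4 : x⁻¹ * y = y * x⁻¹ := hcomm _ ((st2 G a b).inv_mem hx) y hy
      have h5 := hcomm _ (mul_mem_st2_of_swap hsa hsb hsa hsb) _ ((st2 G a b).inv_mem hx)
      convert h1 using 1
      have h6 := hcomm _ (hconj y hy) _ (hconj _ ((st2 G a b).inv_mem hx))
      calc x * s * (y * s) * (x * s)⁻¹ * (y * s)⁻¹
          = x * (s * (y * x⁻¹) * s⁻¹) * y⁻¹ := by group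
        _ = s * (y * x⁻¹) * s⁻¹ * (x * y⁻¹) := by rw [h2]; group
        _ = s * (x⁻¹ * y) * s⁻¹ * (x⁻¹ * y)⁻¹ := by
          rw [h4, mul_inv_rev, inv_inv, hcomm _ hx _ ((st2 G a b).inv_mem hy),
            hcomm _ ((st2 G a b).inv_mem hy) _ hx]
  have hMR : (_root_.commutator M).map M.subtype ≤ R := by
    rw [Subgroup.map_le_iff_le_comap, _root_.commutator_def, Subgroup.commutator_le]
    intro g _ g' _
    exact hcommR g g.2 g' g'.2
  have hsurj : Function.Surjective f := by
    intro y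
    obtain ⟨z, ⟨x, rfl⟩, hz⟩ := hMR (hle y.2)
    exact ⟨x, Subtype.ext hz⟩
  have hinj : Function.Injective f := Finite.injective_iff_surjective.2 hsurj
  intro x hx hc
  have : f ⟨x, hx⟩ = 1 := by
    apply Subtype.ext
    change s * x * s⁻¹ * x⁻¹ = 1
    rw [hc]; group
  exact congrArg Subtype.val ((injective_iff_map_eq_one f).1 hinj _ this)

theorem Pre.centralizer_st2_of_inverts (h : Pre G Ω) [Finite Ω] {a b : Ω} (hab : a ≠ b)
    {s : G} (hsa : s • a = b) (hsb : s • b = a) (hs : ∀ x ∈ st2 G a b, s * x * s⁻¹ = x⁻¹)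
    {x g : G} (hx : x ∈ st2 G a b) (hx2 : x * x ≠ 1) (hg : g * x = x * g) : g ∈ st2 G a b := by
  have hx1 : x ≠ 1 := by rintro rfl; simp at hx2
  rcases h.preserves_of_commute hab hx hx1 hg with hg' | hg'
  · exact hg'
  · exfalso
    have := Pre.inverts_of_inverts hsa hsb hs hg'.1 hg'.2 x hx
    rw [hg, mul_inv_cancel_right] at this
    apply hx2
    nth_rewrite 1 [this]
    simp

theorem inverts_of_simple_of_odd (hZ : Cfsg.IsZassenhausGroup G Ω) [Finite Ω] [IsSimpleGroup G]
    {a b : Ω} (hab : a ≠ b) (ho : Odd (Nat.card (st2 G a b))) {s : G} (hsa : s • a = b)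
    (hsb : s • b = a) : ∀ x ∈ st2 G a b, s * x * s⁻¹ = x⁻¹ := by
  have h := pre_of_zass hZ
  have := h.finite
  refine h.inverts_of_no_complement hab ho ?_ hsa hsb
  rintro q hq hqd ⟨N, hN, hNi⟩
  have hq2 : ¬ 2 ∣ q := by
    intro h2
    exact (Nat.not_even_iff_odd.2 ho) (even_iff_two_dvd.2 (h2.trans hqd))
  rcases hN.eq_bot_or_eq_top with rfl | rfl
  · rw [Subgroup.index_bot] at hNi
    have := h.even_card.two_dvd
    rw [hNi] at this
    exact hq2 (Nat.prime_two.dvd_of_dvd_pow this)
  · rw [Subgroup.index_top] at hNi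
    have := hq.factorization_pos_of_dvd Nat.card_pos.ne'
      (hqd.trans (Subgroup.card_subgroup_dvd_card _))
    exact (Nat.one_lt_pow this.ne' hq.one_lt).ne hNi

end CL.Zass
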