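import Cfsg.Agent.Zass.OddFeit
import Cfsg.Agent.Perm.Sharp
import Cfsg.Agent.Small.PSL2Rec4
import Cfsg.Agent.PSL2.Card

/-!
Sharply triply transitive groups; field coordinates on the points; recognition of `PGL(2, K)` and
`PSL(2, K)`.
-/

set_option autoImplicit false

namespace CL.Zass

open MulAction Subgroup OnePoint
open scoped MatrixGroups

variable {G Ω : Type*} [Group G] [MulAction G Ω]

/-- sharply triply transitive action -/
structure S3 (G Ω : Type*) [Group G] [MulAction G Ω] : Prop extends Pre G Ω where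
  tri : ∀ {a b c d : Ω}, a ≠ b → c ≠ a → c ≠ b → d ≠ a → d ≠ b → ∃ k ∈ st2 G a b, k • c = d

theorem injective_vec3 {a b c : Ω} (hab : a ≠ b) (hbc : b ≠ c) (hac : a ≠ c) :
    Function.Injective ![a, b, c] := by
  intro i j hij
  fin_cases i <;> fin_cases j <;> simp_all [eq_comm]

theorem s3_of_sharp [Finite Ω] (h3 : IsMultiplyPretransitive G Ω 3)
    (hs : ∀ x : Fin 3 ↪ Ω, stabilizer G x = ⊥) (hc : 3 ≤ Nat.card Ω) : S3 G Ω := by
  classical
  have hS : Perm.IsSharp G Ω 3 := ⟨h3, hs⟩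
  have third : ∀ a b : Ω, ∃ c, c ≠ a ∧ c ≠ b := by
    intro a b
    by_contra hcon
    push Not at hcon
    have h1 : (Set.univ : Set Ω) ⊆ {a, b} := fun c _ => by
      by_cases h : c = a
      · exact Or.inl h
      · exact Or.inr (hcon c h)
    have h2 := Set.ncard_le_ncard h1
    have h4 := Set.ncard_insert_le a ({b} : Set Ω)
    rw [Set.ncard_univ] at h2
    rw [Set.ncard_singleton] at h4
    omega
  have tr : ∀ {a b c a' b' c' : Ω}, a ≠ b → b ≠ c → a ≠ c → a' ≠ b' → b' ≠ c' → a' ≠ c' →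
      ∃ g : G, g • a = a' ∧ g • b = b' ∧ g • c = c' := by
    intro a b c a' b' c' h1 h2 h3 h4 h5 h6
    obtain ⟨g, hg⟩ := hS.exists_smul (injective_vec3 h1 h2 h3) (injective_vec3 h4 h5 h6)
    exact ⟨g, hg 0, hg 1, hg 2⟩
  refine ⟨⟨fun {a b c d} hab hcd => ?_, fun g a b c hab hbc hac ha hb hc => ?_, third, ?_⟩,
    fun {a b c d} hab hca hcb hda hdb => ?_⟩
  · obtain ⟨x, hx1, hx2⟩ := third a b
    obtain ⟨y, hy1, hy2⟩ := third c d
    obtain ⟨g, h1, h2, -⟩ := tr hab hx2.symm hx1.symm hcd hy2.symm hy1.symm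
    exact ⟨g, h1, h2⟩
  · refine hS.eq_one (injective_vec3 hab hbc hac) fun i => ?_
    fin_cases i
    exacts [ha, hb, hc]
  · exact (Nat.card_pos_iff.1 (by omega)).1
  · obtain ⟨g, h1, h2, h3⟩ := tr hab hcb.symm hca.symm hab hdb.symm hda.symm
    exact ⟨g, ⟨h1, h2⟩, h3⟩

theorem smul_ne_of_mem_st2 {a b c : Ω} {k : G} (hk : k ∈ st2 G a b) (hca : c ≠ a) (hcb : c ≠ b) :
    k • c ≠ a ∧ k • c ≠ b :=
  ⟨fun h => hca (smul_left_cancel k (h.trans hk.1.symm)),
    fun h => hcb (smul_left_cancel k (h.trans hk.2.symm))⟩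

theorem Pre.injOn_smul_st2 (h : Pre G Ω) {a b c : Ω} (hab : a ≠ b) (hca : c ≠ a) (hcb : c ≠ b) :
    Set.InjOn (fun k : G => k • c) (st2 G a b : Set G) := fun k hk l hl hkl =>
  h.eq_of_three hab hcb.symm hca.symm (hk.1.trans hl.1.symm) (hk.2.trans hl.2.symm) hkl

theorem ncard_ne_ne [Finite Ω] {a b : Ω} (hab : a ≠ b) :
    {c : Ω | c ≠ a ∧ c ≠ b}.ncard = Nat.card Ω - 2 := by
  have : {c : Ω | c ≠ a ∧ c ≠ b} = {a, b}ᶜ := by ext c; simp
  rw [this, Set.ncard_compl, Set.ncard_pair hab]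

theorem Pre.s3_of_card (h : Pre G Ω) [Finite Ω] {a b : Ω} (hab : a ≠ b)
    (hd : Nat.card (st2 G a b) = Nat.card Ω - 2) : S3 G Ω := by
  refine { h with tri := fun {x y c d} hxy hca hcb hda hdb => ?_ }
  have h1 : (fun k : G => k • c) '' (st2 G x y : Set G) ⊆ {c : Ω | c ≠ x ∧ c ≠ y} := by
    rintro _ ⟨k, hk, rfl⟩
    exact smul_ne_of_mem_st2 hk hca hcb
  have h2 := Set.eq_of_subset_of_ncard_le h1 (by
    rw [(h.injOn_smul_st2 hxy hca hcb).ncard_image, ncard_ne_ne hxy, ← hd,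
      ← h.card_st2_eq hxy hab]
    exact le_of_eq (Nat.card_coe_set_eq _))
  have h3 : d ∈ (fun k : G => k • c) '' (st2 G x y : Set G) := by rw [h2]; exact ⟨hda, hdb⟩
  exact h3

namespace S3

theorem card_st2 (h : S3 G Ω) [Finite Ω] {a b : Ω} (hab : a ≠ b) :
    Nat.card (st2 G a b) = Nat.card Ω - 2 := by
  obtain ⟨c, hca, hcb⟩ := h.third a b
  have h1 : (fun k : G => k • c) '' (st2 G a b : Set G) = {c : Ω | c ≠ a ∧ c ≠ b} := by
    refine Set.Subset.antisymm ?_ fun d hd => h.tri hab hca hcb hd.1 hd.2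
    rintro _ ⟨k, hk, rfl⟩
    exact smul_ne_of_mem_st2 hk hca hcb
  rw [← ncard_ne_ne hab, ← h1, (h.toPre.injOn_smul_st2 hab hca hcb).ncard_image]
  exact Nat.card_coe_set_eq _

theorem exists_smul3 (h : S3 G Ω) {a b c a' b' c' : Ω} (hab : a ≠ b) (hca : c ≠ a) (hcb : c ≠ b)
    (hab' : a' ≠ b') (hca' : c' ≠ a') (hcb' : c' ≠ b') :
    ∃ g : G, g • a = a' ∧ g • b = b' ∧ g • c = c' := by
  obtain ⟨g, rfl, rfl⟩ := h.two hab hab'
  obtain ⟨k, hk, hkc⟩ := h.tri hab' (c := g • c) (by simpa using hca) (by simpa using hcb) hca' hcb'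
  exact ⟨k * g, by rw [mul_smul, hk.1], by rw [mul_smul, hk.2], by rw [mul_smul, hkc]⟩

theorem sharp (h : S3 G Ω) :
    IsMultiplyPretransitive G Ω 3 ∧ ∀ x : Fin 3 ↪ Ω, stabilizer G x = ⊥ := by
  refine ⟨⟨fun x y => ?_⟩, fun x => eq_bot_iff.2 fun g hg => ?_⟩
  · obtain ⟨g, h0, h1, h2⟩ := h.exists_smul3 (a := x 0) (b := x 1) (c := x 2) (a' := y 0)
      (b' := y 1) (c' := y 2) (by simp) (by simp) (by simp) (by simp) (by simp) (by simp)
    refine ⟨g, Function.Embedding.ext fun i => ?_⟩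
    fin_cases i
    exacts [h0, h1, h2]
  · have h1 : ∀ i, g • x i = x i := fun i => DFunLike.congr_fun (mem_stabilizer_iff.1 hg) i
    exact h.three g (a := x 0) (b := x 1) (c := x 2) (by simp) (by simp) (by simp) (h1 0) (h1 1)
      (h1 2)

theorem card_eq (h : S3 G Ω) [Finite Ω] :
    Nat.card G = Nat.card Ω * (Nat.card Ω - 1) * (Nat.card Ω - 2) := by
  obtain ⟨a⟩ := h.nonempty
  obtain ⟨b, hb⟩ := h.toPre.exists_ne a
  rw [h.toPre.card_eq' hb.symm, h.card_st2 hb.symm]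

end S3

/-- field coordinates: the kernel acts by translations, `D` by scalars -/
theorem Pre.exists_coords (h : Pre G Ω) [Finite Ω] {a b : Ω} (hab : a ≠ b) {F : Subgroup G}
    (hF : IsKer a F) {D : Subgroup G} (hD : D ≤ st2 G a b)
    (hDc : ∀ x ∈ D, ∀ y ∈ D, x * y = y * x) (hd : Nat.card Ω - 2 ≤ 2 * Nat.card D) :
    ∃ (K : Type) (_ : Field K) (_ : Fintype K) (e : OnePoint K ≃ Ω) (U : K → G),
      Fintype.card K + 1 = Nat.card Ω ∧ e ∞ = a ∧ e ((0 : K) : OnePoint K) = b ∧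
      (∀ x, U x ∈ F) ∧ (∀ u ∈ F, ∃ x, U x = u) ∧ (∀ x y, U (x + y) = U x * U y) ∧
      (∀ x : K, e x = U x • b) ∧ ∀ k ∈ D, ∃ c : K, c ≠ 0 ∧ ∀ y : K, k • e y = e (c * y : K) := by
  have := h.finite
  have hFc := (hF.elementary_of_large h hab (hd.trans (Nat.mul_le_mul_left 2
    (card_le_of_le hD)))).1
  obtain ⟨K, _, _, U, hcard, hU, hinj, hUF, hFU, hK⟩ :=
    PSL2Rec.exists_field_of_irreducible_subgroup F (hF.ne_bot h)
      (fun x hx y hy => congrArg Subtype.val (hFc.is_comm.comm (⟨x, hx⟩ : F) ⟨y, hy⟩)) (D : Set G)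
      (fun k hk x hx => hF.conj_mem (hD hk).1 hx)
      (fun k hk l hl x _ => by rw [hDc k hk l hl])
      (fun W hW hinv => hF.irreducible h hab hD hd hW hinv)
  have hU0 : U 0 = 1 := by
    have := hU 0 0
    rw [add_zero] at this
    exact mul_eq_left.1 this.symm
  have hne : ∀ x, U x • b ≠ a := fun x => hF.smul_ne (hUF x) hab.symm
  let f : OnePoint K → Ω := fun P => P.elim a (fun x => U x • b)
  have hf : Function.Bijective f := by
    constructor
    · intro P Q e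
      induction P using OnePoint.rec <;> induction Q using OnePoint.rec
      · rfl
      · exact absurd e.symm (hne _)
      · exact absurd e (hne _)
      · exact congrArg _ (hinj (hF.eq_of_smul_eq (hUF _) (hUF _) hab.symm e))
    · intro ω
      by_cases hω : ω = a
      · exact ⟨∞, hω.symm⟩
      · obtain ⟨u, hu, hu'⟩ := hF.exists_smul h hab.symm hω
        obtain ⟨x, rfl⟩ := hFU u hu
        exact ⟨x, hu'⟩
  refine ⟨K, inferInstance, inferInstance, Equiv.ofBijective f hf, U, ?_, rfl, ?_, hUF, hFU, hU,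
    fun _ => rfl, fun k hk => ?_⟩
  · rw [hcard, hF.card_add_one h]
  · change U 0 • b = b
    rw [hU0, one_smul]
  · obtain ⟨c, hc⟩ := hK k hk
    refine ⟨c, ?_, fun y => ?_⟩
    · rintro rfl
      have := hc 1
      rw [zero_mul, hU0, mul_inv_eq_one, mul_eq_left, ← hU0] at this
      exact one_ne_zero (hinj this)
    · change k • U y • b = U (c * y) • b
      rw [← hc, mul_smul, mul_smul, inv_smul_eq_iff.2 (hD hk).2.symm]

section PGL

variable {K : Type*} [Field K] [DecidableEq K]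

theorem ker_toPermHom_GL :
    (toPermHom (GL (Fin 2) K) (OnePoint K)).ker = center (GL (Fin 2) K) := by
  ext m
  rw [MonoidHom.mem_ker, Matrix.GeneralLinearGroup.center_eq_range_scalar]
  have hdet := m.det_ne_zero
  rw [Matrix.det_fin_two] at hdet
  constructor
  · intro h
    have h0 : ∀ P : OnePoint K, m • P = P := fun P => DFunLike.congr_fun h P
    have h10 : m 1 0 = 0 := smul_infty_eq_self_iff.1 (h0 _)
    have h11 : m 1 1 ≠ 0 := fun h1 => hdet (by simp [h10, h1])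
    have h2 := h0 (0 : K)
    have h3 := h0 (1 : K)
    rw [smul_some_eq_ite] at h2 h3
    have h01 : m 0 1 = 0 := by simpa [h10, h11] using h2
    have h00 : m 0 0 = m 1 1 := by
      simp only [h10, h01, mul_one, zero_add, h11, if_false, add_zero, coe_eq_coe] at h3
      field_simp at h3
      exact h3
    refine ⟨Units.mk0 (m 1 1) h11, Units.ext ?_⟩
    ext i j
    fin_cases i <;> fin_cases j <;> simp [h10, h01, h00]
  · rintro ⟨r, rfl⟩
    ext x
    induction x using OnePoint.rec with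
    | infty => simp [smul_infty_eq_ite]
    | coe k => simp [smul_some_eq_ite]

/-- recognition of `PGL(2, K)` from coordinates -/
theorem pgl_of_coords [Fintype K] [FaithfulSMul G Ω] (e : OnePoint K ≃ Ω)
    (hfix : ∀ g : G, g • e ∞ = e ∞ → ∃ c d : K, c ≠ 0 ∧ ∀ x : K, g • e x = e (c * x + d : K))
    (htr : ∀ d : K, ∃ u : G, u • e ∞ = e ∞ ∧ u • e d = e (0 : K))
    (w : G) (α : K) (hα : α ≠ 0) (hw1 : w • e ∞ = e (0 : K)) (hw2 : w • e (0 : K) = e ∞)
    (hw3 : ∀ x : K, x ≠ 0 → w • e x = e (α / x : K))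
    (hcard : Nat.card G = Fintype.card K * (Fintype.card K ^ 2 - 1)) :
    Nonempty (G ≃* PGL(2, K)) := by
  let φ : G →* Equiv.Perm (OnePoint K) :=
    (e.symm.permCongrHom : Equiv.Perm Ω →* _).comp (toPermHom G Ω)
  have hφ : ∀ g P, φ g P = e.symm (g • e P) := fun _ _ => rfl
  have hφinj : Function.Injective φ := e.symm.permCongrHom.injective.comp toPerm_injective
  set π := toPermHom (GL (Fin 2) K) (OnePoint K) with hπ
  have hfixφ : ∀ g : G, g • e ∞ = e ∞ → φ g ∈ π.range := by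
    intro g hg
    obtain ⟨c, d, hc, hcd⟩ := hfix g hg
    refine ⟨Matrix.GeneralLinearGroup.mkOfDetNeZero !![c, d; 0, 1] (by simpa using hc), ?_⟩
    ext x
    induction x using OnePoint.rec with
    | infty => simp [hπ, hφ, hg, smul_infty_eq_ite]
    | coe k => simp [hπ, hφ, hcd, smul_some_eq_ite]
  have hwφ : φ w ∈ π.range := by
    refine ⟨Matrix.GeneralLinearGroup.mkOfDetNeZero !![0, α; 1, 0] (by simpa using hα), ?_⟩
    ext x
    induction x using OnePoint.rec with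
    | infty => simp [hπ, hφ, hw1, smul_infty_eq_ite]
    | coe k =>
      by_cases hk : k = 0
      · subst hk; simp [hπ, hφ, hw2, smul_some_eq_ite]
      · simp [hπ, hφ, hw3 k hk, smul_some_eq_ite, hk]
  have hle : φ.range ≤ π.range := by
    rintro _ ⟨g, rfl⟩
    obtain ⟨P, hP⟩ := e.surjective (g • e ∞)
    induction P using OnePoint.rec with
    | infty => exact hfixφ g hP.symm
    | coe c =>
      obtain ⟨u, hu1, hu2⟩ := htr c
      have h1 : (w * u * g) • e ∞ = e ∞ := by rw [mul_smul, mul_smul, ← hP, hu2, hw2]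
      have : φ g = (φ u)⁻¹ * (φ w)⁻¹ * φ (w * u * g) := by simp [map_mul, mul_assoc]
      rw [this]
      exact mul_mem (mul_mem (inv_mem (hfixφ _ hu1)) (inv_mem hwφ)) (hfixφ _ h1)
  have e1 : G ≃* φ.range := MonoidHom.ofInjective hφinj
  have e2 : PGL(2, K) ≃* π.range :=
    (QuotientGroup.quotientMulEquivOfEq ker_toPermHom_GL.symm).trans
      (QuotientGroup.quotientKerEquivRange π)
  have hrange : φ.range = π.range := by
    refine eq_of_le_of_card_ge hle (le_of_eq ?_)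
    rw [← Nat.card_congr e1.toEquiv, ← Nat.card_congr e2.toEquiv, hcard, PSL2.card_PGL]
  exact ⟨(e1.trans (MulEquiv.subgroupCongr hrange)).trans e2.symm⟩

end PGL

/-- recognition of `PSL(2, K)` when `2 d = |Ω| - 2` -/
theorem Pre.psl_of_half (h : Pre G Ω) [Finite Ω] {a b : Ω} (hab : a ≠ b)
    (hd : 2 * Nat.card (st2 G a b) = Nat.card Ω - 2) {s : G} (hsa : s • a = b) (hsb : s • b = a)
    (hs : ∀ x ∈ st2 G a b, s * x * s⁻¹ = x⁻¹) :
    ∃ (K : Type) (_ : Field K) (_ : Fintype K), Fintype.card K + 1 = Nat.card Ω ∧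
      Nonempty (G ≃* PSL(2, K)) := by
  have := h.finite
  have := h.faithful
  obtain ⟨F, hF⟩ := h.exists_isKer a
  have hFc := (hF.elementary_of_large h hab hd.ge).1
  have h1 := hF.card_add_one h
  have h3 := h.three_le_card
  obtain ⟨K, _, _, hK, hG⟩ := PSL2Rec.equiv_of_abelian_regular a b hab.symm F (hF.ne_bot h)
    ⟨Nat.card (st2 G a b), by omega⟩
    (fun x hx y hy => congrArg Subtype.val (hFc.is_comm.comm (⟨x, hx⟩ : F) ⟨y, hy⟩))
    (fun x hx => hF.smul_eq hx) (fun g hg x hx => hF.conj_mem hg hx)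
    (fun x hx hxb => hF.eq_one hx hab.symm hxb) (fun ω hω => hF.exists_smul h hab.symm hω)
    (fun k l h1 h2 h3 h4 => Pre.comm_of_inverts hs k ⟨h1, h2⟩ l ⟨h3, h4⟩)
    (fun k h1 h2 x hx hc => (em (k = 1)).imp id fun hk =>
      hF.eq_one_of_commute h hab hx ⟨h1, h2⟩ hk hc)
    (by rw [h.card_stabilizer hab, ← hF.card_eq h, mul_left_comm, hd, ← h1]; rfl)
    ⟨s, by rw [hsa]; exact hab.symm⟩
    (Or.inr (Or.inr ⟨s, hsa, hsb, fun k h1 h2 => hs k ⟨h1, h2⟩⟩))
  exact ⟨K, inferInstance, inferInstance, by rw [hK, h1], hG⟩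

/-- if `d` is even and `2 d ≤ |Ω| - 2`, every swapping element inverts the two-point stabiliser -/
theorem Pre.inverts_of_even_small (h : Pre G Ω) [Finite Ω] {a b : Ω} (hab : a ≠ b)
    (he : Even (Nat.card (st2 G a b))) (hd : 2 * Nat.card (st2 G a b) ≤ Nat.card Ω - 2) :
    2 * Nat.card (st2 G a b) = Nat.card Ω - 2 ∧ ∀ s : G, s • a = b → s • b = a →
      ∀ x ∈ st2 G a b, s * x * s⁻¹ = x⁻¹ := by
  have := h.finite
  have h1 := le_antisymm hd (h.le_two_mul_of_even hab he)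
  refine ⟨h1, fun s hsa hsb x hx => ?_⟩
  have h2 := h.two_mul_ncard_swap_of_even hab he
  have h3 := h.ncard_swap hab
  have h4 : {s : G | (s * s = 1 ∧ nfix Ω s = 2) ∧ (s • a = b ∧ s • b = a)} =
      {g : G | g • a = b ∧ g • b = a} :=
    Set.eq_of_subset_of_ncard_le (fun s hs => hs.2) (by omega)
  have h5 : ∀ g : G, g • a = b ∧ g • b = a → g * g = 1 := fun g hg =>
    (h4.symm.subset hg).1.1
  have h6 := h5 s ⟨hsa, hsb⟩
  have h7 := h5 _ (swap_mul hsa hsb hx)
  rw [inv_eq_of_mul_eq_one_right h6, eq_inv_iff_mul_eq_one, ← h7]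
  group

end CL.Zass
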