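import Cfsg.Agent.Zass.OddInv
import Cfsg.Agent.Invol.Beta

/-!
Zassenhaus groups whose two-point stabilisers have odd order and are inverted by the swapping
elements: involutions, fixed-point-free elements, class counts.
-/

set_option autoImplicit false

namespace CL.Zass

open MulAction Subgroup

variable {G Ω : Type*} [Group G] [MulAction G Ω]

/-- two-point stabilisers of odd order, inverted by every swapping element -/
structure OI (G Ω : Type*) [Group G] [MulAction G Ω] : Prop extends Pre G Ω where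
  odd : ∀ {a b : Ω}, a ≠ b → Odd (Nat.card (st2 G a b))
  inv : ∀ {a b : Ω}, a ≠ b → ∀ {s : G}, s • a = b → s • b = a →
    ∀ x ∈ st2 G a b, s * x * s⁻¹ = x⁻¹

theorem oi_of_simple (hZ : Cfsg.IsZassenhausGroup G Ω) [Finite Ω] [IsSimpleGroup G] {a b : Ω}
    (hab : a ≠ b) (ho : Odd (Nat.card (st2 G a b))) : OI G Ω := by
  have h := pre_of_zass hZ
  have ho' : ∀ {c d : Ω}, c ≠ d → Odd (Nat.card (st2 G c d)) := fun hcd => by
    rw [h.card_st2_eq hcd hab]; exact ho
  exact { h with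
    odd := ho'
    inv := fun hcd _ h1 h2 => inverts_of_simple_of_odd hZ hcd (ho' hcd) h1 h2 }

theorem Pre.oi_of_inverts (h : Pre G Ω) [Finite Ω] {a b : Ω} (hab : a ≠ b)
    (ho : Odd (Nat.card (st2 G a b))) {s : G} (hsa : s • a = b) (hsb : s • b = a)
    (hs : ∀ x ∈ st2 G a b, s * x * s⁻¹ = x⁻¹) : OI G Ω := by
  have ho' : ∀ {c d : Ω}, c ≠ d → Odd (Nat.card (st2 G c d)) := fun hcd => by
    rw [h.card_st2_eq hcd hab]; exact ho
  refine { h with odd := ho', inv := ?_ }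
  intro c d hcd s' h1 h2
  obtain ⟨k, rfl, rfl⟩ := h.two hab hcd
  refine Pre.inverts_of_inverts (s := k * s * k⁻¹) ?_ ?_ ?_ h1 h2
  · rw [conj_smul_smul, hsa]
  · rw [conj_smul_smul, hsb]
  · intro x hx
    have hx' := conj_mem_st2 k⁻¹ hx
    rw [inv_smul_smul, inv_smul_smul, inv_inv] at hx'
    have := hs _ hx'
    calc k * s * k⁻¹ * x * (k * s * k⁻¹)⁻¹ = k * (s * (k⁻¹ * x * k) * s⁻¹) * k⁻¹ := by group
      _ = x⁻¹ := by rw [this]; group

theorem Pre.oi_of_odd (h : Pre G Ω) [Finite Ω] (ho : Odd (Nat.card Ω)) : OI G Ω := by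
  obtain ⟨a⟩ := h.nonempty
  obtain ⟨b, hb⟩ := h.exists_ne a
  obtain ⟨s, hs, hsa, hsb⟩ := h.exists_swap hb.symm
  exact h.oi_of_inverts hb.symm (h.odd_st2_of_odd hb.symm ho) hsa hsb
    (h.inverts_of_odd ho hb.symm hs hsa hsb)

theorem Pre.ncard_nfix_one (h : Pre G Ω) [Finite Ω] :
    {g : G | nfix Ω g = 1}.ncard = Nat.card Ω * (Nat.card Ω - 2) := by
  have := h.finite
  obtain ⟨a⟩ := h.nonempty
  obtain ⟨F, hF⟩ := h.exists_isKer a
  have hI : ∀ k g : G, g ∈ {s : G | nfix Ω s = 1} → k * g * k⁻¹ ∈ {s : G | nfix Ω s = 1} := by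
    intro k g h2
    change nfix Ω _ = 1
    rw [nfix_conj]; exact h2
  have e1 := h.count_points _ (fun g x => g • x = x) hI
    (fun k g x _ hr => (conj_fix_iff k g x).2 hr) 1 (fun g hg => hg) a
  rw [mul_one] at e1
  rw [e1]
  congr 1
  have e2 : {g : G | g ∈ {s : G | nfix Ω s = 1} ∧ g • a = a} = (F : Set G) \ {1} := by
    ext g
    simp only [Set.mem_ofPred_eq, Set.mem_sdiff, SetLike.mem_coe, Set.mem_singleton_iff]
    constructor
    · rintro ⟨h1, h2⟩
      exact ⟨hF.mem_of_nfix h2 h1, h.ne_one_of_nfix_le (by omega)⟩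
    · rintro ⟨h1, h2⟩
      exact ⟨hF.nfix_eq h1 h2, hF.smul_eq h1⟩
  rw [e2, Set.ncard_sdiff_singleton_of_mem (by simp)]
  have := hF.card_eq h
  rw [← Nat.card_coe_set_eq]
  simp only [SetLike.coe_sort_coe]
  omega

theorem Pre.ncard_nfix_add (h : Pre G Ω) [Finite Ω] :
    {g : G | nfix Ω g = 0}.ncard + {g : G | nfix Ω g = 1}.ncard + {g : G | nfix Ω g = 2}.ncard + 1 =
      Nat.card G := by
  have := h.finite
  have e : (Set.univ : Set G) = (({g : G | nfix Ω g = 0} ∪ {g : G | nfix Ω g = 1}) ∪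
      {g : G | nfix Ω g = 2}) ∪ {1} := by
    ext g
    simp only [Set.mem_univ, Set.mem_union, Set.mem_ofPred_eq, Set.mem_singleton_iff, true_iff]
    by_cases h1 : g = 1
    · exact Or.inr h1
    · have := h.nfix_le_two h1
      left; omega
  have h3 := h.three_le_card
  rw [← Set.ncard_univ, e, Set.ncard_union_eq, Set.ncard_union_eq, Set.ncard_union_eq,
    Set.ncard_singleton]
  · rw [Set.disjoint_left]; intro g h1 h2; simp only [Set.mem_ofPred_eq] at h1 h2; omega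
  · rw [Set.disjoint_left]; intro g h1 h2
    simp only [Set.mem_union, Set.mem_ofPred_eq] at h1 h2; omega
  · rw [Set.disjoint_left]; intro g h1 h2
    simp only [Set.mem_union, Set.mem_ofPred_eq, Set.mem_singleton_iff] at h1 h2
    subst h2
    rw [nfix_one] at h1; omega

/-- number of fixed-point-free elements: `2 N₀ = n ((n + 1) (d - 1) + 2)`, `n + 1 = |Ω|` -/
theorem Pre.two_mul_ncard_nfix_zero (h : Pre G Ω) [Finite Ω] {a b : Ω} (hab : a ≠ b) :
    2 * {g : G | nfix Ω g = 0}.ncard =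
      (Nat.card Ω - 1) * (Nat.card Ω * (Nat.card (st2 G a b) - 1) + 2) := by
  have := h.finite
  have e1 := h.ncard_nfix_add
  have e2 := h.ncard_nfix_one
  have e3 := h.ncard_nfix_two hab
  have e4 := h.card_eq' hab
  have h3 := h.three_le_card
  have hd : 0 < Nat.card (st2 G a b) := Nat.card_pos
  obtain ⟨n, hn⟩ : ∃ n, Nat.card Ω = n + 2 := ⟨Nat.card Ω - 2, by omega⟩
  obtain ⟨d, hd⟩ : ∃ d, Nat.card (st2 G a b) = d + 1 := ⟨Nat.card (st2 G a b) - 1, by omega⟩
  rw [hn] at e2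
  rw [hn, hd] at e3 e4 ⊢
  simp only [Nat.add_sub_cancel, show n + 2 - 1 = n + 1 from rfl] at e2 e3 e4 ⊢
  nlinarith

theorem exists_sq_eq_of_odd {H : Subgroup G} [Finite H] (ho : Odd (Nat.card H)) {y : G}
    (hy : y ∈ H) : ∃ z ∈ H, z * z = y := by
  obtain ⟨k, hk⟩ := ho
  refine ⟨y ^ (k + 1), H.pow_mem hy _, ?_⟩
  have : y ^ Nat.card H = 1 := by
    have := pow_card_eq_one' (G := H) (x := ⟨y, hy⟩)
    exact congrArg Subtype.val this
  rw [← pow_add, show k + 1 + (k + 1) = (2 * k + 1) + 1 by ring, ← hk, pow_succ, this, one_mul]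

namespace OI

variable [Finite Ω] (h : OI G Ω)
include h

theorem swap_sq {a b : Ω} (hab : a ≠ b) {s : G} (hsa : s • a = b) (hsb : s • b = a) :
    s * s = 1 := by
  obtain ⟨t, ht, hta, htb⟩ := h.toPre.exists_swap hab
  exact Pre.swap_mul_self ht hta htb (h.inv hab hta htb) hsa hsb

theorem comm {a b : Ω} (hab : a ≠ b) : ∀ x ∈ st2 G a b, ∀ y ∈ st2 G a b, x * y = y * x := by
  obtain ⟨t, -, hta, htb⟩ := h.toPre.exists_swap hab
  exact Pre.comm_of_inverts (h.inv hab hta htb)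

theorem isCyclic {a b : Ω} (hab : a ≠ b) : IsCyclic (st2 G a b) :=
  h.toPre.isCyclic_of_comm hab le_rfl (h.comm hab)

theorem exists_conj_eq_swap {a b : Ω} (hab : a ≠ b) {s s' : G} (hsa : s • a = b) (hsb : s • b = a)
    (hsa' : s' • a = b) (hsb' : s' • b = a) : ∃ z ∈ st2 G a b, z⁻¹ * s * z = s' := by
  have := h.toPre.finite
  obtain ⟨z, hz, hzz⟩ := exists_sq_eq_of_odd (h.odd hab) (inv_mul_mem_st2_of_swap hsa hsb hsa' hsb')
  refine ⟨z, hz, ?_⟩
  obtain ⟨h1, h2⟩ := swap_inv hsa hsb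
  have := h.inv hab h1 h2 _ (inv_mem hz)
  calc z⁻¹ * s * z = s * (s⁻¹ * z⁻¹ * s⁻¹⁻¹) * z := by group
    _ = s * (z * z) := by rw [this]; group
    _ = s' := by rw [hzz]; group

theorem isConj_invol {x y : G} (hx : x * x = 1) (hx1 : x ≠ 1) (hy : y * y = 1) (hy1 : y ≠ 1) :
    IsConj x y := by
  obtain ⟨a⟩ := h.nonempty
  obtain ⟨b, hb⟩ := h.toPre.exists_ne a
  obtain ⟨k, hk1, hk2⟩ := h.toPre.exists_conj_swap hx hx1 hb.symm
  obtain ⟨l, hl1, hl2⟩ := h.toPre.exists_conj_swap hy hy1 hb.symm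
  obtain ⟨z, -, hz⟩ := h.exists_conj_eq_swap hb.symm hk1 hk2 hl1 hl2
  refine isConj_iff.2 ⟨l⁻¹ * z⁻¹ * k, ?_⟩
  calc l⁻¹ * z⁻¹ * k * x * (l⁻¹ * z⁻¹ * k)⁻¹ = l⁻¹ * (z⁻¹ * (k * x * k⁻¹) * z) * l := by group
    _ = y := by rw [hz]; group

theorem nfix_invol_le {x : G} (hx : x * x = 1) (hx1 : x ≠ 1) : nfix Ω x ≤ 1 := by
  have := h.toPre.finite
  have h2 := h.toPre.nfix_le_two hx1
  by_contra hc
  obtain ⟨a, b, hab, hx'⟩ := Pre.exists_of_nfix_two (Ω := Ω) (g := x) (by omega)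
  exact hx1 (eq_one_of_sq_of_odd (h.odd hab) hx' hx)

theorem nfix_invol {x : G} (hx : x * x = 1) (hx1 : x ≠ 1) : nfix Ω x = Nat.card Ω % 2 := by
  have h1 := h.nfix_invol_le hx hx1
  have h2 := nfix_mod_two (Ω := Ω) hx
  omega

theorem ncard_invol_mul {a b : Ω} (hab : a ≠ b) :
    {x : G | x * x = 1 ∧ x ≠ 1}.ncard * (Nat.card Ω - Nat.card Ω % 2) =
      Nat.card Ω * (Nat.card Ω - 1) * Nat.card (st2 G a b) := by
  have := h.toPre.finite
  have e := h.toPre.count_pairs {x : G | x * x = 1 ∧ x ≠ 1} (fun g x y => g • x = y ∧ g • y = x)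
    ?_ ?_ (Nat.card Ω - Nat.card Ω % 2) ?_ hab
  · rw [e, ← h.toPre.ncard_swap hab]
    congr 2
    ext g
    simp only [Set.mem_ofPred_eq]
    refine ⟨fun hg => hg.2, fun hg => ⟨⟨h.swap_sq hab hg.1 hg.2, ?_⟩, hg⟩⟩
    rintro rfl
    exact hab (by simpa using hg.1)
  · rintro k g ⟨h1, h2⟩
    refine ⟨?_, by simpa using h2⟩
    calc k * g * k⁻¹ * (k * g * k⁻¹) = k * (g * g) * k⁻¹ := by group
      _ = 1 := by rw [h1]; group
  · rintro k g x y - ⟨h1, h2⟩
    exact ⟨by rw [conj_smul_smul, h1], by rw [conj_smul_smul, h2]⟩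
  · rintro g ⟨h1, h2⟩
    rw [ncard_swapped_pairs h1, h.nfix_invol h1 h2]

theorem ncard_invol_of_odd (ho : Odd (Nat.card Ω)) {a b : Ω} (hab : a ≠ b) :
    {x : G | x * x = 1 ∧ x ≠ 1}.ncard = Nat.card (st2 G a b) * Nat.card Ω := by
  have e := h.ncard_invol_mul hab
  have h3 := h.toPre.three_le_card
  rw [Nat.odd_iff.1 ho] at e
  refine Nat.eq_of_mul_eq_mul_right (show 0 < Nat.card Ω - 1 by omega) ?_
  rw [e]; ring

theorem ncard_invol_of_even (he : Even (Nat.card Ω)) {a b : Ω} (hab : a ≠ b) :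
    {x : G | x * x = 1 ∧ x ≠ 1}.ncard = Nat.card (st2 G a b) * (Nat.card Ω - 1) := by
  have e := h.ncard_invol_mul hab
  have h3 := h.toPre.three_le_card
  rw [Nat.even_iff.1 he, Nat.sub_zero] at e
  refine Nat.eq_of_mul_eq_mul_right (show 0 < Nat.card Ω by omega) ?_
  rw [e]; ring

theorem invol_mem_ker {a : Ω} {F : Subgroup G} (hF : IsKer a F) {x : G} (hx : x * x = 1)
    (hxa : x • a = a) : x ∈ F := by
  by_cases hx1 : x = 1
  · rw [hx1]; exact F.one_mem
  have h1 := h.nfix_invol_le hx hx1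
  have h2 : nfix Ω x ≠ 0 := fun h0 => nfix_eq_zero_iff.1 h0 a hxa
  exact hF.mem_of_nfix hxa (by omega)

theorem ncard_invol_ker (ho : Odd (Nat.card Ω)) {a b : Ω} (hab : a ≠ b) {F : Subgroup G}
    (hF : IsKer a F) : {x : G | x ∈ F ∧ x * x = 1 ∧ x ≠ 1}.ncard = Nat.card (st2 G a b) := by
  have := h.toPre.finite
  have e := h.toPre.count_points {x : G | x * x = 1 ∧ x ≠ 1} (fun g x => g • x = x) ?_
    (fun k g x _ hr => (conj_fix_iff k g x).2 hr) 1 ?_ a
  · rw [mul_one, h.ncard_invol_of_odd ho hab, mul_comm] at e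
    have h3 := h.toPre.three_le_card
    rw [Nat.eq_of_mul_eq_mul_left (by omega) e]
    congr 1
    ext g
    simp only [Set.mem_ofPred_eq]
    exact ⟨fun hg => ⟨hg.2, hF.smul_eq hg.1⟩, fun hg => ⟨h.invol_mem_ker hF hg.1.1 hg.2, hg.1⟩⟩
  · rintro k g ⟨h1, h2⟩
    refine ⟨?_, by simpa using h2⟩
    calc k * g * k⁻¹ * (k * g * k⁻¹) = k * (g * g) * k⁻¹ := by group
      _ = 1 := by rw [h1]; group
  · rintro g ⟨h1, h2⟩
    have := h.nfix_invol h1 h2
    rw [Nat.odd_iff.1 ho] at this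
    exact this

theorem odd_card_of_invol_mem {a : Ω} {F : Subgroup G} (hF : IsKer a F) {x : G} (hxF : x ∈ F)
    (hx : x * x = 1) (hx1 : x ≠ 1) : Odd (Nat.card Ω) := by
  have h1 := h.nfix_invol hx hx1
  rw [hF.nfix_eq hxF hx1] at h1
  exact Nat.odd_iff.2 h1.symm

/-- the two-point stabiliser permutes the involutions of the kernel transitively -/
theorem exists_conj_invol_ker {a b : Ω} (hab : a ≠ b) {F : Subgroup G} (hF : IsKer a F) {x y : G}
    (hxF : x ∈ F) (hx : x * x = 1) (hx1 : x ≠ 1) (hyF : y ∈ F) (hy : y * y = 1) (hy1 : y ≠ 1) :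
    ∃ k ∈ st2 G a b, k * x * k⁻¹ = y := by
  have := h.toPre.finite
  have ho := h.odd_card_of_invol_mem hF hxF hx hx1
  have e := h.ncard_invol_ker ho hab hF
  have hsub : (fun k : G => k * x * k⁻¹) '' (st2 G a b : Set G) ⊆
      {x : G | x ∈ F ∧ x * x = 1 ∧ x ≠ 1} := by
    rintro _ ⟨k, hk, rfl⟩
    refine ⟨hF.conj_mem hk.1 hxF, ?_, by simpa using hx1⟩
    calc k * x * k⁻¹ * (k * x * k⁻¹) = k * (x * x) * k⁻¹ := by group
      _ = 1 := by rw [hx]; group
  have hinj : Set.InjOn (fun k : G => k * x * k⁻¹) (st2 G a b : Set G) := by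
    intro k hk l hl hkl
    by_contra hne
    have h1 : l⁻¹ * k ≠ 1 := fun h1 => hne (by rw [inv_mul_eq_one] at h1; exact h1.symm)
    refine hx1 (hF.eq_one_of_commute h.toPre hab hxF (mul_mem (inv_mem hl) hk) h1 ?_)
    simp only at hkl
    calc l⁻¹ * k * x = l⁻¹ * (k * x * k⁻¹) * k := by group
      _ = x * (l⁻¹ * k) := by rw [hkl]; group
  have heq := Set.eq_of_subset_of_ncard_le hsub (by
    rw [e, hinj.ncard_image]; exact le_of_eq (Nat.card_coe_set_eq _))
  have : y ∈ (fun k : G => k * x * k⁻¹) '' (st2 G a b : Set G) := by rw [heq]; exact ⟨hyF, hy, hy1⟩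
  obtain ⟨k, hk, hk'⟩ := this
  exact ⟨k, hk, hk'⟩

/-- involutions of the kernel are central in it -/
theorem invol_central {a : Ω} {F : Subgroup G} (hF : IsKer a F) {x u : G} (hxF : x ∈ F)
    (hx : x * x = 1) (hu : u ∈ F) : u * x = x * u := by
  by_cases hx1 : x = 1
  · simp [hx1]
  obtain ⟨b, hb⟩ := h.toPre.exists_ne a
  obtain ⟨k, hk, hk'⟩ := h.exists_conj_invol_ker hb.symm hF hxF hx hx1
    (y := u * x * u⁻¹) (mul_mem (mul_mem hu hxF) (inv_mem hu))
    (by calc u * x * u⁻¹ * (u * x * u⁻¹) = u * (x * x) * u⁻¹ := by group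
      _ = 1 := by rw [hx]; group) (by simpa using hx1)
  have h1 : u⁻¹ * k ∈ F := hF.mem_of_commute h.toPre hxF hx1 (by
    calc u⁻¹ * k * x = u⁻¹ * (k * x * k⁻¹) * k := by group
      _ = x * (u⁻¹ * k) := by rw [hk']; group)
  have h2 : k = 1 := hF.eq_one_of_mem_st2 hb.symm (by simpa using mul_mem hu h1) hk
  rw [h2] at hk'
  simp only [one_mul, inv_one, mul_one] at hk'
  calc u * x = (u * x * u⁻¹) * u := by group
    _ = x * u := by rw [← hk']

/-- a kernel element that is a product of two involutions is an involution -/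
theorem sq_eq_one_of_mul {a : Ω} {F : Subgroup G} (hF : IsKer a F) {x y : G} (hx : x * x = 1)
    (hy : y * y = 1) (hu : x * y ∈ F) (hu1 : x * y ≠ 1) :
    x ∈ F ∧ y ∈ F ∧ (x * y) * (x * y) = 1 := by
  have hxa : x • a = a := hF.smul_eq_of_conj_mem hu hu1 (by
    rw [BF.inverts_mul_left hx hy]; exact inv_mem hu)
  have hya : y • a = a := hF.smul_eq_of_conj_mem hu hu1 (by
    rw [BF.inverts_mul_right hx hy]; exact inv_mem hu)
  have hxF := h.invol_mem_ker hF hx hxa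
  have hyF := h.invol_mem_ker hF hy hya
  refine ⟨hxF, hyF, ?_⟩
  have := h.invol_central hF hxF hx hyF
  calc x * y * (x * y) = x * (y * x) * y := by group
    _ = (x * x) * (y * y) := by rw [this]; group
    _ = 1 := by rw [hx, hy, one_mul]

/-- the centraliser of a fixed-point-free element is semiregular -/
theorem eq_one_of_commute_fpf {x y : G} (hx : nfix Ω x = 0) (hxy : x * y = y * x) {c : Ω}
    (hc : y • c = c) : y = 1 := by
  have := h.toPre.finite
  by_contra hy1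
  have hx' := nfix_eq_zero_iff.1 hx
  have hcd : c ≠ x • c := (hx' c).symm
  have hd : y • x • c = x • c := by rw [← mul_smul, ← hxy, mul_smul, hc]
  have hy : y ∈ st2 G c (x • c) := ⟨hc, hd⟩
  rcases h.toPre.preserves_of_commute hcd hy hy1 hxy with h1 | h1
  · exact hx' c h1.1
  · have h2 := h.inv hcd h1.1 h1.2 y hy
    rw [hxy, mul_inv_cancel_right] at h2
    exact hy1 (eq_one_of_sq_of_odd (h.odd hcd) hy (by nth_rewrite 1 [h2]; simp))

theorem card_centralizer_dvd {x : G} (hx : nfix Ω x = 0) :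
    Nat.card (centralizer ({x} : Set G)) ∣ Nat.card Ω := by
  have := h.toPre.finite
  have hs : ∀ c : Ω, stabilizer (centralizer ({x} : Set G)) c = ⊥ := by
    intro c
    rw [eq_bot_iff]
    intro y hy
    rw [mem_bot]
    exact Subtype.ext (h.eq_one_of_commute_fpf hx (BF.mem_cent_iff.1 y.2).symm hy)
  rw [Nat.card_congr (selfEquivOrbitsQuotientProd hs), Nat.card_prod]
  exact Dvd.intro_left _ rfl

/-- there are at least two classes of fixed-point-free elements -/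
theorem exists_two_fpf {a b : Ω} (hab : a ≠ b) (hd : 1 < Nat.card (st2 G a b)) :
    ∃ x y : G, nfix Ω x = 0 ∧ nfix Ω y = 0 ∧ ¬ IsConj x y := by
  have := h.toPre.finite
  have e1 := h.toPre.two_mul_ncard_nfix_zero hab
  have h3 := h.toPre.three_le_card
  have hne : {g : G | nfix Ω g = 0}.Nonempty := by
    rw [← Set.ncard_pos]
    have : 0 < (Nat.card Ω - 1) * (Nat.card Ω * (Nat.card (st2 G a b) - 1) + 2) :=
      Nat.mul_pos (by omega) (by omega)
    omega
  obtain ⟨x, hx⟩ := hne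
  by_contra hc
  push Not at hc
  have e2 : {g : G | nfix Ω g = 0} = {y : G | IsConj x y} := by
    ext y
    refine ⟨fun hy => hc x y hx hy, fun hy => ?_⟩
    obtain ⟨k, rfl⟩ := isConj_iff.1 hy
    change nfix Ω _ = 0
    rw [nfix_conj]; exact hx
  have e3 := BF.card_conj_mul_card_cent x
  have e4 : Nat.card {y : G // IsConj x y} = {y : G | IsConj x y}.ncard := rfl
  obtain ⟨m, hm⟩ := h.card_centralizer_dvd hx
  obtain ⟨f, hf⟩ := h.odd hab
  rw [e4, ← e2, h.toPre.card_eq' hab] at e3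
  generalize {g : G | nfix Ω g = 0}.ncard = N at e1 e3
  have hc0 : 0 < Nat.card (centralizer ({x} : Set G)) := Nat.card_pos
  generalize Nat.card (centralizer ({x} : Set G)) = c at hm e3 hc0
  rw [hf] at e1 e3 hd
  obtain ⟨n, hn⟩ : ∃ n, Nat.card Ω = n + 1 := ⟨Nat.card Ω - 1, by omega⟩
  rw [hn] at e1 e3 hm h3
  simp only [Nat.add_sub_cancel] at e1 e3
  have e5 : N = n * ((n + 1) * f + 1) := by nlinarith
  have e6 : ((n + 1) * f + 1) = m * (2 * f + 1) := by
    refine Nat.eq_of_mul_eq_mul_left (Nat.mul_pos (show 0 < n by omega) hc0) ?_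
    calc n * c * ((n + 1) * f + 1) = N * c := by rw [e5]; ring
      _ = (n + 1) * n * (2 * f + 1) := e3
      _ = n * c * (m * (2 * f + 1)) := by rw [hm]; ring
  have e7 : m ∣ 1 := by
    have h1 : m ∣ (n + 1) * f := by rw [hm]; exact Dvd.intro (c * f) (by ring)
    exact (Nat.dvd_add_right h1).1 (by rw [e6]; exact Dvd.intro _ rfl)
  have e8 : m = 1 := Nat.dvd_one.1 e7
  rw [e8] at e6
  nlinarith

end OI

end CL.Zass
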