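import Cfsg.Agent.Zass.OddFeit
import Cfsg.Agent.Char.InduceMore
import Cfsg.Agent.Char.TI
import Cfsg.Agent.Char.InduceChar
import Cfsg.Agent.Char.Linear
import Cfsg.Agent.Char.PermChar

/-!
Characters induced from a point stabiliser of a Zassenhaus group.
-/

set_option autoImplicit false

namespace CL.Zass

open MulAction Subgroup Cfsg CL.Char
open scoped ComplexConjugate

variable {G Ω : Type*} [Group G] [MulAction G Ω] [Fintype G]

/-- value of an induced class function as a sum over the points -/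
theorem indFun_stab_eq_sum [Fintype Ω] {a : Ω} {L : Subgroup G} (hL : ∀ g, g ∈ L ↔ g • a = a)
    (t : Ω → G) (ht : ∀ c, t c • a = c) {θ : L → ℂ} (hθ : IsClassFunction L θ) (g : G) :
    indFun L θ g = ∑ c : Ω, extendByZero L θ ((t c)⁻¹ * g * t c) := by
  refine indFun_eq_sum_transversal L t ⟨fun c d hcd => ?_, fun q => ?_⟩ hθ g
  · have h1 := (hL _).1 (QuotientGroup.eq.1 hcd)
    rw [mul_smul, ht, inv_smul_eq_iff, ht] at h1
    exact h1.symm
  · obtain ⟨k, rfl⟩ := QuotientGroup.mk_surjective q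
    refine ⟨k • a, QuotientGroup.eq.2 ((hL _).2 ?_)⟩
    rw [mul_smul, inv_smul_eq_iff, ht]

theorem indFun_stab_fpf {a : Ω} {L : Subgroup G} (hL : ∀ g, g ∈ L ↔ g • a = a) (θ : L → ℂ)
    {g : G} (hg : ∀ c : Ω, g • c ≠ c) : indFun L θ g = 0 := by
  refine indFun_eq_zero_of_not_conj L θ fun x hx => hg (x⁻¹ • a) ?_
  have := (hL _).1 hx
  rw [mul_smul, mul_smul, smul_eq_iff_eq_inv_smul] at this
  exact this

theorem Pre.indFun_stab_one (h : Pre G Ω) [Finite Ω] {a : Ω} {L : Subgroup G}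
    (hL : ∀ g, g ∈ L ↔ g • a = a) (θ : L → ℂ) : indFun L θ 1 = Nat.card Ω * θ 1 := by
  have := h.pretransitive
  obtain rfl : L = stabilizer G a := Subgroup.ext hL
  rw [indFun_one, index_stabilizer_of_transitive]

theorem Pre.indFun_stab_ker (h : Pre G Ω) [Finite Ω] {a : Ω} {L F : Subgroup G}
    (hL : ∀ g, g ∈ L ↔ g • a = a) (hF : IsKer a F) {θ : L → ℂ} (hθ : IsClassFunction L θ)
    (u : L) (hu : (u : G) ∈ F) (hu1 : u ≠ 1) : indFun L θ u = θ u := by
  refine indFun_apply_eq_of_forall_not_mem L hθ u fun g hg hm => ?_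
  exact absurd ((hL g).2 (hF.smul_eq_of_conj_smul hu (fun h1 => hu1 (Subtype.ext h1))
    ((hL _).1 hm))) hg

theorem Pre.indFun_stab_two (h : Pre G Ω) [Finite Ω] {a c : Ω} (hac : a ≠ c) {L : Subgroup G}
    (hL : ∀ g, g ∈ L ↔ g • a = a) {θ : L → ℂ} (hθ : IsClassFunction L θ)
    {x : L} (hx : (x : G) • c = c) (hx1 : x ≠ 1) {s : G} (hs : s • a = c) {y : L}
    (hy : (y : G) = s⁻¹ * x * s) : indFun L θ x = θ x + θ y := by
  classical
  have : Fintype Ω := Fintype.ofFinite Ω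
  choose t' ht' using fun d => h.exists_smul a d
  let t : Ω → G := fun d => if d = a then 1 else if d = c then s else t' d
  have ht : ∀ d, t d • a = d := by
    intro d
    simp only [t]
    split_ifs with h1 h2
    · rw [one_smul, h1]
    · rw [hs, h2]
    · exact ht' d
  rw [indFun_stab_eq_sum hL t ht hθ, Finset.sum_eq_add a c hac]
  · simp only [t, if_true, if_neg hac.symm, inv_one, one_mul, mul_one]
    rw [← hy, extendByZero_coe, extendByZero_coe]
  · intro d _ hd
    refine extendByZero_of_not_mem L θ fun hm => ?_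
    have h1 := (hL _).1 hm
    rw [mul_smul, mul_smul, ht, inv_smul_eq_iff, ht] at h1
    rcases h.fix_of_mem_st2 hac ⟨(hL _).1 x.2, hx⟩ (fun h2 => hx1 (Subtype.ext h2)) h1 with h2 | h2
    · exact hd.1 h2
    · exact hd.2 h2
  · intro h1; exact absurd (Finset.mem_univ _) h1
  · intro h1; exact absurd (Finset.mem_univ _) h1

theorem card_ker_subgroupOf {a : Ω} {L F : Subgroup G} (hL : ∀ g, g ∈ L ↔ g • a = a)
    (hF : IsKer a F) : Nat.card (F.subgroupOf L) = Nat.card F :=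
  Nat.card_congr (subgroupOfEquivOfLe (fun u hu => (hL u).2 (hF.smul_eq hu))).toEquiv

namespace OI

variable [Finite Ω] (h : OI G Ω)
include h

theorem linear_eq_one_of_sq {a : Ω} {L F : Subgroup G} (hL : ∀ g, g ∈ L ↔ g • a = a)
    (hF : IsKer a F) {lam : L →* ℂˣ} (hlam : ∀ u : L, (u : G) ∈ F → lam u = 1)
    (h2 : lam * lam = 1) : lam = 1 := by
  obtain ⟨b, hb⟩ := h.toPre.exists_ne a
  ext1 x
  obtain ⟨u, hu, y, hy, hxy⟩ := hF.decomp h.toPre hb.symm ((hL _).1 x.2)
  obtain ⟨z, hz, hzz⟩ := exists_sq_eq_of_odd (h.odd hb.symm) hy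
  have e : x = ⟨u, (hL u).2 (hF.smul_eq hu)⟩ * (⟨z, (hL z).2 hz.1⟩ * ⟨z, (hL z).2 hz.1⟩) :=
    Subtype.ext (by simp [hxy, hzz])
  rw [e, map_mul, map_mul, hlam _ hu, one_mul]
  exact DFunLike.congr_fun h2 _

theorem indFun_linear_two {a : Ω} {L F : Subgroup G} (hL : ∀ g, g ∈ L ↔ g • a = a)
    (hF : IsKer a F) (lam : L →* ℂˣ) {x : L} (hx : (x : G) ∉ F) :
    indFun L (fun g => (lam g : ℂ)) x = lam x + (lam x⁻¹ : ℂˣ) := by
  obtain hc | ⟨c, hca, hc⟩ := hF.mem_or_exists ((hL _).1 x.2)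
  · exact absurd hc hx
  obtain ⟨s, -, hsa, hsc⟩ := h.toPre.exists_swap hca.symm
  have hx1 : x ≠ 1 := by rintro rfl; exact hx F.one_mem
  obtain ⟨h1, h2⟩ := swap_inv hsa hsc
  refine h.toPre.indFun_stab_two hca.symm hL (isClassFunction_linear lam) hc hx1 hsa (y := x⁻¹) ?_
  have := h.inv hca.symm h1 h2 x ⟨(hL _).1 x.2, hc⟩
  rw [inv_inv] at this
  rw [this]; rfl

/-- the characters of the principal series are irreducible -/
theorem irr_indFun_linear {a : Ω} {L F : Subgroup G} (hL : ∀ g, g ∈ L ↔ g • a = a)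
    (hF : IsKer a F) {lam : L →* ℂˣ} (hlam : ∀ u : L, (u : G) ∈ F → lam u = 1) (hne : lam ≠ 1) :
    IsIrrCharacter G (indFun L (fun g => (lam g : ℂ))) := by
  classical
  have : Fintype L := Fintype.ofFinite L
  refine irr_of_char_norm_one (char_indFun L (isCharacter_linear lam)) ?_
  rw [classInner_indFun_left L _ (indFun_isClassFunction L _), classInner_def]
  have h2 : lam * lam ≠ 1 := fun h2 => hne (h.linear_eq_one_of_sq hL hF hlam h2)
  have e1 : ∀ x : L, (lam x : ℂ) * conj (indFun L (fun g => (lam g : ℂ)) x) =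
      1 + ((lam * lam) x : ℂˣ) + ((if x = 1 then (Nat.card F : ℂ) else 0) -
        if (x : G) ∈ F then 1 else 0) := by
    intro x
    by_cases hx1 : x = 1
    · subst hx1
      have := hF.card_add_one h.toPre
      rw [OneMemClass.coe_one, h.toPre.indFun_stab_one hL, ← this]
      simp [F.one_mem]
      ring
    by_cases hx : (x : G) ∈ F
    · rw [h.toPre.indFun_stab_ker hL hF (isClassFunction_linear lam) x hx hx1]
      simp [hlam x hx, hx1, hx]
    · rw [h.indFun_linear_two hL hF lam hx, map_add, mul_add, linear_mul_conj, conj_linear, inv_inv]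
      simp [hx1, hx]
  simp only [e1, Finset.sum_add_distrib, Finset.sum_sub_distrib]
  rw [sum_linear_eq_zero h2]
  have e2 : ∑ x : L, (if (x : G) ∈ F then (1 : ℂ) else 0) = Nat.card F := by
    rw [← card_ker_subgroupOf hL hF, Finset.sum_boole, Nat.subtype_card (Finset.univ.filter
      fun x : L => (x : G) ∈ F) (fun x => by simp [mem_subgroupOf])]
  rw [e2]
  simp

theorem commutator_le_ker {a : Ω} {L F : Subgroup G} (hL : ∀ g, g ∈ L ↔ g • a = a)
    (hF : IsKer a F) : commutator L ≤ F.subgroupOf L := by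
  obtain ⟨b, hb⟩ := h.toPre.exists_ne a
  rw [commutator_def, commutator_le]
  intro x _ y _
  obtain ⟨u, hu, x', hx, hxu⟩ := hF.decomp h.toPre hb.symm ((hL _).1 x.2)
  obtain ⟨v, hv, y', hy, hyv⟩ := hF.decomp h.toPre hb.symm ((hL _).1 y.2)
  have hc := h.comm hb.symm x' hx y' hy
  rw [mem_subgroupOf, commutatorElement_def]
  have e : ((x * y * x⁻¹ * y⁻¹ : L) : G) =
      u * (x' * v * x'⁻¹) * (y' * u⁻¹ * y'⁻¹) * v⁻¹ := by
    simp only [Subgroup.coe_mul, Subgroup.coe_inv, hxu, hyv]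
    calc u * x' * (v * y') * (u * x')⁻¹ * (v * y')⁻¹
        = u * x' * v * (y' * x'⁻¹) * u⁻¹ * y'⁻¹ * v⁻¹ := by group
      _ = u * x' * v * (x'⁻¹ * y') * u⁻¹ * y'⁻¹ * v⁻¹ := by
          congr 4
          calc y' * x'⁻¹ = x'⁻¹ * (x' * y') * x'⁻¹ := by group
            _ = x'⁻¹ * y' := by rw [hc]; group
      _ = _ := by group
  rw [e]
  exact mul_mem (mul_mem (mul_mem hu (hF.conj_mem hx.1 hv)) (hF.conj_mem hy.1 (inv_mem hu)))
    (inv_mem hv)

end OI

end CL.Zass
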