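import Cfsg.Agent.Zass.OddFeit

/-!
Counting conjugacy classes that avoid the Frobenius kernel of a point stabiliser.
-/

set_option autoImplicit false

namespace CL.Zass

open MulAction Subgroup

variable {G Ω : Type*} [Group G] [MulAction G Ω]

open Classical in
theorem sum_card_centralizer [Fintype G] (p : ConjClasses G → Prop) :
    ∑ x ∈ Finset.univ.filter (fun x : G => p (ConjClasses.mk x)),
      Nat.card (centralizer ({x} : Set G)) = Nat.card {C : ConjClasses G // p C} * Nat.card G := by
  have : Fintype (ConjClasses G) := Fintype.ofFinite _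
  rw [← Finset.sum_fiberwise_of_maps_to (t := Finset.univ.filter p) (g := ConjClasses.mk)
    (fun x hx => by simpa using hx)]
  rw [Nat.subtype_card (Finset.univ.filter p) (by simp), ← smul_eq_mul, ← Finset.sum_const]
  refine Finset.sum_congr rfl fun C hC => ?_
  obtain ⟨x, rfl⟩ := ConjClasses.mk_surjective C
  rw [← BF.card_conj_mul_card_cent x, Finset.sum_congr rfl (g := fun _ =>
    Nat.card (centralizer ({x} : Set G))), Finset.sum_const, smul_eq_mul]
  · congr 1
    rw [Nat.subtype_card]
    intro y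
    simp only [Finset.mem_filter, Finset.mem_univ, true_and] at hC ⊢
    rw [ConjClasses.mk_eq_mk_iff_isConj]
    constructor
    · exact fun h => h.2.symm
    · intro h
      refine ⟨?_, h.symm⟩
      rw [← ConjClasses.mk_eq_mk_iff_isConj.2 h]; exact hC
  · intro y hy
    simp only [Finset.mem_filter, ConjClasses.mk_eq_mk_iff_isConj] at hy
    exact BF.card_cent_conj hy.2

theorem numInv_eq_ncard : BF.numInv G = {x : G | x * x = 1 ∧ x ≠ 1}.ncard := by
  rw [← Nat.card_coe_set_eq]
  exact Nat.card_congr (Equiv.subtypeEquivRight fun _ => orderOf_eq_two_iff)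

namespace OI

variable [Finite Ω] (h : OI G Ω)
include h

theorem sq_of_beta_ne_zero {a : Ω} {F : Subgroup G} (hF : IsKer a F) {x : G} (hx : x ∈ F)
    (hx1 : x ≠ 1) (hb : BF.beta x ≠ 0) : x * x = 1 := by
  obtain ⟨⟨⟨u, v⟩, hu, hv, rfl⟩⟩ := (Nat.card_ne_zero.1 hb).1
  exact (h.sq_eq_one_of_mul hF (orderOf_eq_two_iff.1 hu).1 (orderOf_eq_two_iff.1 hv).1 hx hx1).2.2

theorem beta_add_one_le {a b : Ω} (hab : a ≠ b) {F : Subgroup G} (hF : IsKer a F) {x : G}
    (hx : x ∈ F) (hx2 : x * x = 1) (hx1 : x ≠ 1) : BF.beta x + 1 ≤ Nat.card (st2 G a b) := by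
  have := h.toPre.finite
  rw [BF.beta_add_one_of_ord2 x (orderOf_eq_two_iff.2 ⟨hx2, hx1⟩),
    ← h.ncard_invol_ker (h.odd_card_of_invol_mem hF hx hx2 hx1) hab hF]
  change {t : G | orderOf t = 2 ∧ Commute t x}.ncard ≤ _
  refine Set.ncard_le_ncard fun t ht => ?_
  exact ⟨hF.mem_of_commute h.toPre hx hx1 ht.2, orderOf_eq_two_iff.1 ht.1⟩

open Classical in
/-- at least `d` classes avoid the kernel, unless the group is sharply triply transitive -/
theorem le_card_classes {a b : Ω} (hab : a ≠ b) {F : Subgroup G} (hF : IsKer a F)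
    (hlt : Nat.card (st2 G a b) + 2 < Nat.card Ω) :
    Nat.card (st2 G a b) ≤ Nat.card {C : ConjClasses G // ∀ g : G, ConjClasses.mk g = C → g ∉ F} := by
  have := h.toPre.finite
  have : Fintype G := Fintype.ofFinite G
  set p : ConjClasses G → Prop := fun C => ∀ g : G, ConjClasses.mk g = C → g ∉ F with hp
  have e1 := BF.sum_beta (G := G)
  have e2 := sum_card_centralizer p
  rw [← Finset.sum_filter_add_sum_filter_not _ (fun x : G => p (ConjClasses.mk x))] at e1
  have e3 : ∑ x ∈ Finset.univ.filter (fun x : G => p (ConjClasses.mk x)), BF.beta x ≤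
      Nat.card {C : ConjClasses G // p C} * Nat.card G := by
    refine le_trans (Finset.sum_le_sum fun (x : G) _ => BF.beta_le_card_cent x) (le_of_eq ?_)
    convert e2
  have key : ∀ x : G, ¬ p (ConjClasses.mk x) → ∃ c F', IsKer (G := G) (Ω := Ω) c F' ∧ x ∈ F' := by
    intro x hx
    simp only [hp, not_forall, not_not] at hx
    obtain ⟨g, hg, hgF⟩ := hx
    obtain ⟨k, rfl⟩ := isConj_iff.1 (ConjClasses.mk_eq_mk_iff_isConj.1 hg)
    exact ⟨_, _, hF.map_conj k, ⟨g, hgF, rfl⟩⟩
  set I : Finset G := Finset.univ.filter (fun x : G => x * x = 1 ∧ x ≠ 1) with hI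
  have hIc : I.card = BF.numInv G := by
    rw [numInv_eq_ncard, ← Set.ncard_coe_finset]; congr 1; ext x; simp [hI]
  have e4 : ∑ x ∈ Finset.univ.filter (fun x : G => ¬ p (ConjClasses.mk x)), BF.beta x ≤
      BF.numInv G + if Odd (Nat.card Ω) then BF.numInv G * (Nat.card (st2 G a b) - 1) else 0 := by
    calc _ ≤ ∑ x : G, ((if x = 1 then BF.numInv G else 0) +
          if x ∈ I ∧ Odd (Nat.card Ω) then (Nat.card (st2 G a b) - 1) else 0) := by
          refine le_trans (Finset.sum_le_sum fun x hx => ?_)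
            (Finset.sum_le_sum_of_subset (Finset.filter_subset _ _))
          obtain ⟨c, F', hF', hxF⟩ := key x (Finset.mem_filter.1 hx).2
          by_cases hx1 : x = 1
          · subst hx1; rw [BF.beta_one]; simp
          by_cases hb : BF.beta x = 0
          · rw [hb]; exact Nat.zero_le _
          have h2 := h.sq_of_beta_ne_zero hF' hxF hx1 hb
          obtain ⟨d, hd⟩ := h.toPre.exists_ne c
          have h3 := h.beta_add_one_le hd.symm hF' hxF h2 hx1
          rw [h.toPre.card_st2_eq hd.symm hab] at h3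
          rw [if_neg hx1, if_pos ⟨by simp [hI, h2, hx1], h.odd_card_of_invol_mem hF' hxF h2 hx1⟩]
          omega
      _ = _ := by
          rw [Finset.sum_add_distrib]
          congr 1
          · simp
          · by_cases ho : Odd (Nat.card Ω)
            · simp only [ho, and_true, if_true]
              rw [← Finset.sum_filter, Finset.sum_const, smul_eq_mul, ← hIc]
              congr 2
              ext x; simp
            · simp [ho]
  have e5 := h.toPre.card_eq' hab
  have hd : 0 < Nat.card (st2 G a b) := Nat.card_pos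
  generalize Nat.card {C : ConjClasses G // p C} = N at e3 ⊢
  have e6 : BF.numInv G ^ 2 ≤ N * Nat.card G + (BF.numInv G +
      if Odd (Nat.card Ω) then BF.numInv G * (Nat.card (st2 G a b) - 1) else 0) := by omega
  rw [numInv_eq_ncard, e5] at e6
  obtain ⟨n, hn⟩ : ∃ n, Nat.card Ω = n + 1 := ⟨Nat.card Ω - 1, by omega⟩
  obtain ⟨d, hd⟩ : ∃ d, Nat.card (st2 G a b) = d + 1 := ⟨Nat.card (st2 G a b) - 1, by omega⟩
  by_contra hc
  have hN : N ≤ d := by omega
  rcases Nat.even_or_odd (Nat.card Ω) with he | ho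
  · rw [if_neg (Nat.not_odd_iff_even.2 he), h.ncard_invol_of_even he hab, hn, hd] at e6
    rw [hn, hd] at hlt
    simp only [Nat.add_sub_cancel] at e6
    have e7 : N * ((n + 1) * n * (d + 1)) ≤ d * ((n + 1) * n * (d + 1)) :=
      Nat.mul_le_mul_right _ hN
    have e8 : ((d + 1) * n) * ((d + 1) * n) ≤ ((d + 1) * n) * (d * (n + 1) + 1) := by nlinarith
    have e9 := Nat.le_of_mul_le_mul_left e8 (Nat.mul_pos (by omega) (by omega))
    nlinarith
  · rw [if_pos ho, h.ncard_invol_of_odd ho hab, hn, hd] at e6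
    rw [hn, hd] at hlt
    simp only [Nat.add_sub_cancel] at e6
    have e7 : N * ((n + 1) * n * (d + 1)) ≤ d * ((n + 1) * n * (d + 1)) :=
      Nat.mul_le_mul_right _ hN
    have e8 : ((d + 1) * (n + 1)) * ((d + 1) * (n + 1)) ≤
        ((d + 1) * (n + 1)) * (d * n + 1 + d) := by nlinarith
    have e9 := Nat.le_of_mul_le_mul_left e8 (Nat.mul_pos (by omega) (by omega))
    nlinarith

end OI

end CL.Zass
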