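import Cfsg.Agent.Base

/-!
# Doubly transitive groups in which only the identity fixes three points: basics
-/

set_option autoImplicit false

namespace CL.Zass

open MulAction

/-- A doubly transitive action on a set with at least three points in which only the identity fixes
three points. -/
structure Pre (G Ω : Type*) [Group G] [MulAction G Ω] : Prop where
  two : ∀ {a b c d : Ω}, a ≠ b → c ≠ d → ∃ g : G, g • a = c ∧ g • b = d
  three : ∀ (g : G) {a b c : Ω}, a ≠ b → b ≠ c → a ≠ c → g • a = a → g • b = b → g • c = c → g = 1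
  third : ∀ a b : Ω, ∃ c, c ≠ a ∧ c ≠ b
  nonempty : Nonempty Ω

/-- The stabiliser of two points. -/
abbrev st2 (G : Type*) {Ω : Type*} [Group G] [MulAction G Ω] (a b : Ω) : Subgroup G :=
  stabilizer G a ⊓ stabilizer G b

variable {G Ω : Type*} [Group G] [MulAction G Ω]

theorem mem_st2 {a b : Ω} {g : G} : g ∈ st2 G a b ↔ g • a = a ∧ g • b = b := Iff.rfl

theorem st2_comm (a b : Ω) : st2 G a b = st2 G b a := inf_comm _ _

theorem conj_smul_smul (k g : G) (x : Ω) : (k * g * k⁻¹) • (k • x) = k • g • x := by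
  simp [mul_smul]

theorem conj_fix_iff (k g : G) (x : Ω) : (k * g * k⁻¹) • (k • x) = k • x ↔ g • x = x := by
  rw [conj_smul_smul, smul_left_cancel_iff]

theorem conj_mem_st2 {a b : Ω} {g : G} (k : G) (hg : g ∈ st2 G a b) :
    k * g * k⁻¹ ∈ st2 G (k • a) (k • b) :=
  ⟨(conj_fix_iff k g a).2 hg.1, (conj_fix_iff k g b).2 hg.2⟩

theorem pre_of_zass (hZ : Cfsg.IsZassenhausGroup G Ω) : Pre G Ω := by
  obtain ⟨hf, h2, h3, ⟨g, hg1, a, b, hab, hga, hgb⟩, -⟩ := hZ
  have h2' : ∀ {a b c d : Ω}, a ≠ b → c ≠ d → ∃ g : G, g • a = c ∧ g • b = d :=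
    is_two_pretransitive_iff.1 h2
  have hc : ∃ c, c ≠ a ∧ c ≠ b := by
    by_contra hcon
    push Not at hcon
    apply hg1
    apply hf.eq_of_smul_eq_smul
    intro x
    by_cases hx : x = a
    · simp [hx, hga]
    · simp [hcon x hx, hgb]
  obtain ⟨c, hca, hcb⟩ := hc
  refine ⟨fun h1 h2 => h2' h1 h2, fun g a b c => h3 g a b c, ?_, ⟨a⟩⟩
  intro x y
  by_cases hxy : x = y
  · subst hxy
    by_cases hx : x = a
    · exact ⟨b, by rw [hx]; exact hab.symm, by rw [hx]; exact hab.symm⟩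
    · exact ⟨a, Ne.symm hx, Ne.symm hx⟩
  · obtain ⟨k, hk1, hk2⟩ := h2' hab hxy
    refine ⟨k • c, ?_, ?_⟩
    · rw [← hk1]; simpa using hca
    · rw [← hk2]; simpa using hcb

namespace Pre

theorem multTrans (h : Pre G Ω) : IsMultiplyPretransitive G Ω 2 :=
  is_two_pretransitive_iff.2 h.two

theorem pretransitive (h : Pre G Ω) : IsPretransitive G Ω :=
  have := h.multTrans
  isPretransitive_of_is_two_pretransitive

theorem exists_smul (h : Pre G Ω) (a b : Ω) : ∃ g : G, g • a = b :=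
  h.pretransitive.exists_smul_eq a b

theorem exists_ne (h : Pre G Ω) (a : Ω) : ∃ b, b ≠ a := by
  obtain ⟨c, hc, -⟩ := h.third a a
  exact ⟨c, hc⟩

theorem eq_of_three (h : Pre G Ω) {g g' : G} {a b c : Ω} (hab : a ≠ b) (hbc : b ≠ c) (hac : a ≠ c)
    (ha : g • a = g' • a) (hb : g • b = g' • b) (hc : g • c = g' • c) : g = g' := by
  have : g'⁻¹ * g = 1 := by
    apply h.three _ hab hbc hac <;> rw [mul_smul, inv_smul_eq_iff] <;> assumption
  rw [inv_mul_eq_one] at this
  exact this.symm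

theorem eq_one_of_forall (h : Pre G Ω) {g : G} (hg : ∀ x : Ω, g • x = x) : g = 1 := by
  obtain ⟨a⟩ := h.nonempty
  obtain ⟨b, hb⟩ := h.exists_ne a
  obtain ⟨c, hca, hcb⟩ := h.third a b
  exact h.three g hb.symm hcb.symm hca.symm (hg a) (hg b) (hg c)

theorem faithful (h : Pre G Ω) : FaithfulSMul G Ω :=
  ⟨fun {g g'} hg => by
    have : g'⁻¹ * g = 1 := h.eq_one_of_forall fun x => by rw [mul_smul, inv_smul_eq_iff, hg]
    rw [inv_mul_eq_one] at this
    exact this.symm⟩

theorem finite (h : Pre G Ω) [Finite Ω] : Finite G :=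
  have := h.faithful
  Finite.of_injective (MulAction.toPermHom G Ω) MulAction.toPerm_injective

theorem three_le_card (h : Pre G Ω) [Finite Ω] : 3 ≤ Nat.card Ω := by
  classical
  have := Fintype.ofFinite Ω
  obtain ⟨a⟩ := h.nonempty
  obtain ⟨b, hb⟩ := h.exists_ne a
  obtain ⟨c, hca, hcb⟩ := h.third a b
  rw [Nat.card_eq_fintype_card]
  have : ({a, b, c} : Finset Ω).card = 3 := by
    rw [Finset.card_eq_three]; exact ⟨a, b, c, hb.symm, hca.symm, hcb.symm, rfl⟩
  rw [← this]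
  exact Finset.card_le_univ _

/-- a non-identity element fixing `a ≠ b` fixes no other point -/
theorem fix_of_mem_st2 (h : Pre G Ω) {a b c : Ω} (hab : a ≠ b) {x : G} (hx : x ∈ st2 G a b)
    (hx1 : x ≠ 1) (hc : x • c = c) : c = a ∨ c = b := by
  by_contra hcon
  push Not at hcon
  exact hx1 (h.three x hab hcon.2.symm hcon.1.symm hx.1 hx.2 hc)

/-- TI property of two-point stabilisers -/
theorem preserves_of_conj_mem (h : Pre G Ω) {a b : Ω} (hab : a ≠ b) {x g : G} (hx : x ∈ st2 G a b)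
    (hx1 : x ≠ 1) (hg : g * x * g⁻¹ ∈ st2 G a b) :
    (g • a = a ∧ g • b = b) ∨ (g • a = b ∧ g • b = a) := by
  have h1 : g * x * g⁻¹ ≠ 1 := by simpa using hx1
  have h2 := conj_mem_st2 g hx
  have ha := h.fix_of_mem_st2 hab hg h1 h2.1
  have hb := h.fix_of_mem_st2 hab hg h1 h2.2
  have hne : g • a ≠ g • b := by simpa using hab
  rcases ha with ha | ha <;> rcases hb with hb | hb
  · exact absurd (ha.trans hb.symm) hne
  · exact Or.inl ⟨ha, hb⟩
  · exact Or.inr ⟨ha, hb⟩
  · exact absurd (ha.trans hb.symm) hne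

theorem preserves_of_commute (h : Pre G Ω) {a b : Ω} (hab : a ≠ b) {x g : G} (hx : x ∈ st2 G a b)
    (hx1 : x ≠ 1) (hg : g * x = x * g) :
    (g • a = a ∧ g • b = b) ∨ (g • a = b ∧ g • b = a) :=
  h.preserves_of_conj_mem hab hx hx1 (by rw [hg, mul_inv_cancel_right]; exact hx)

end Pre

theorem conj_mem_st2_of_swap {a b : Ω} {s x : G} (hsa : s • a = b) (hsb : s • b = a)
    (hx : x ∈ st2 G a b) : s * x * s⁻¹ ∈ st2 G a b := by
  have := conj_mem_st2 s hx
  rw [hsa, hsb, st2_comm] at this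
  exact this

theorem inv_mul_mem_st2_of_swap {a b : Ω} {s s' : G} (hsa : s • a = b) (hsb : s • b = a)
    (hsa' : s' • a = b) (hsb' : s' • b = a) : s⁻¹ * s' ∈ st2 G a b := by
  refine ⟨?_, ?_⟩
  · change (s⁻¹ * s') • a = a
    rw [mul_smul, hsa', inv_smul_eq_iff, hsa]
  · change (s⁻¹ * s') • b = b
    rw [mul_smul, hsb', inv_smul_eq_iff, hsb]

theorem mul_mem_st2_of_swap {a b : Ω} {s s' : G} (hsa : s • a = b) (hsb : s • b = a)
    (hsa' : s' • a = b) (hsb' : s' • b = a) : s * s' ∈ st2 G a b := by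
  refine ⟨?_, ?_⟩
  · change (s * s') • a = a
    rw [mul_smul, hsa', hsb]
  · change (s * s') • b = b
    rw [mul_smul, hsb', hsa]

theorem swap_mul {a b : Ω} {s x : G} (hsa : s • a = b) (hsb : s • b = a) (hx : x ∈ st2 G a b) :
    (s * x) • a = b ∧ (s * x) • b = a := by
  rw [mul_smul, mul_smul, hx.1, hx.2]; exact ⟨hsa, hsb⟩

theorem mul_swap {a b : Ω} {s x : G} (hsa : s • a = b) (hsb : s • b = a) (hx : x ∈ st2 G a b) :
    (x * s) • a = b ∧ (x * s) • b = a := by
  rw [mul_smul, mul_smul, hsa, hsb]; exact ⟨hx.2, hx.1⟩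

theorem swap_inv {a b : Ω} {s : G} (hsa : s • a = b) (hsb : s • b = a) :
    s⁻¹ • a = b ∧ s⁻¹ • b = a := by
  rw [inv_smul_eq_iff, inv_smul_eq_iff]; exact ⟨hsb.symm, hsa.symm⟩

/-! ### Double counting -/

/-- Double counting over a transitive orbit. -/
theorem sum_ncard_eq_of_orbit {X : Type*} [MulAction G X] [Finite G] [Finite X] (T : Set X) (x₀ : X)
    (hT : ∀ x, x ∈ T ↔ ∃ k : G, k • x₀ = x) (I : Finset G) (R : G → X → Prop)
    (hI : ∀ k g, g ∈ I → k * g * k⁻¹ ∈ I)
    (hR : ∀ k g x, g ∈ I → R g x → R (k * g * k⁻¹) (k • x)) :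
    ∑ g ∈ I, {x | x ∈ T ∧ R g x}.ncard = T.ncard * {g | g ∈ I ∧ R g x₀}.ncard := by
  classical
  have := Fintype.ofFinite X
  have key := Finset.sum_card_bipartiteAbove_eq_sum_card_bipartiteBelow R (s := I) (t := T.toFinset)
  have h1 : ∀ g ∈ I, {x | x ∈ T ∧ R g x}.ncard = (Finset.bipartiteAbove R T.toFinset g).card := by
    intro g _
    rw [← Set.ncard_coe_finset]
    congr 1
    ext x
    simp [Finset.bipartiteAbove]
  have h2 : ∀ x ∈ T.toFinset, (Finset.bipartiteBelow R I x).card = {g | g ∈ I ∧ R g x₀}.ncard := by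
    intro x hx
    obtain ⟨k, rfl⟩ := (hT x).1 (by simpa using hx)
    rw [← Set.ncard_coe_finset]
    symm
    apply Set.ncard_congr (fun g _ => k * g * k⁻¹)
    · rintro g ⟨hg, hr⟩
      simp only [Finset.bipartiteBelow, Finset.coe_filter, Set.mem_ofPred_eq]
      exact ⟨hI k g hg, hR k g _ hg hr⟩
    · intro g g' _ _ hgg
      simpa using hgg
    · intro g hg
      simp only [Finset.bipartiteBelow, Finset.coe_filter, Set.mem_ofPred_eq] at hg
      refine ⟨k⁻¹ * g * k⁻¹⁻¹, ⟨hI _ _ hg.1, ?_⟩, by group⟩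
      have := hR k⁻¹ g _ hg.1 hg.2
      rwa [inv_smul_smul] at this
  rw [Finset.sum_congr rfl h1, key, Finset.sum_congr rfl h2, Finset.sum_const, smul_eq_mul,
    Set.ncard_eq_toFinset_card' T]

theorem ncard_mul_eq_of_orbit {X : Type*} [MulAction G X] [Finite G] [Finite X] (T : Set X) (x₀ : X)
    (hT : ∀ x, x ∈ T ↔ ∃ k : G, k • x₀ = x) (I : Set G) (R : G → X → Prop)
    (hI : ∀ k g, g ∈ I → k * g * k⁻¹ ∈ I)
    (hR : ∀ k g x, g ∈ I → R g x → R (k * g * k⁻¹) (k • x)) (m : ℕ)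
    (hm : ∀ g ∈ I, {x | x ∈ T ∧ R g x}.ncard = m) :
    I.ncard * m = T.ncard * {g | g ∈ I ∧ R g x₀}.ncard := by
  classical
  have := Fintype.ofFinite G
  have := sum_ncard_eq_of_orbit T x₀ hT I.toFinset R (by simpa using hI) (by simpa using hR)
  rw [Finset.sum_congr rfl (fun g hg => hm g (by simpa using hg)), Finset.sum_const, smul_eq_mul,
    ← Set.ncard_eq_toFinset_card'] at this
  simpa using this

theorem ncard_offDiag [Finite Ω] :
    {p : Ω × Ω | p.1 ≠ p.2}.ncard = Nat.card Ω * (Nat.card Ω - 1) := by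
  classical
  have := Fintype.ofFinite Ω
  have : {p : Ω × Ω | p.1 ≠ p.2} = ((Finset.univ : Finset Ω).offDiag : Set (Ω × Ω)) := by
    ext p; simp
  rw [this, Set.ncard_coe_finset, Finset.offDiag_card, Nat.card_eq_fintype_card, Finset.card_univ,
    Nat.mul_sub_one]

namespace Pre

theorem count_points (h : Pre G Ω) [Finite G] [Finite Ω] (I : Set G) (R : G → Ω → Prop)
    (hI : ∀ k g, g ∈ I → k * g * k⁻¹ ∈ I)
    (hR : ∀ k g x, g ∈ I → R g x → R (k * g * k⁻¹) (k • x)) (m : ℕ)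
    (hm : ∀ g ∈ I, {x | R g x}.ncard = m) (a : Ω) :
    I.ncard * m = Nat.card Ω * {g | g ∈ I ∧ R g a}.ncard := by
  have := ncard_mul_eq_of_orbit (G := G) Set.univ a
    (fun x => ⟨fun _ => h.exists_smul a x, fun _ => trivial⟩) I R hI hR m (by simpa using hm)
  rwa [Set.ncard_univ] at this

theorem count_pairs (h : Pre G Ω) [Finite G] [Finite Ω] (I : Set G) (R : G → Ω → Ω → Prop)
    (hI : ∀ k g, g ∈ I → k * g * k⁻¹ ∈ I)
    (hR : ∀ k g x y, g ∈ I → R g x y → R (k * g * k⁻¹) (k • x) (k • y)) (m : ℕ)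
    (hm : ∀ g ∈ I, {p : Ω × Ω | p.1 ≠ p.2 ∧ R g p.1 p.2}.ncard = m) {a b : Ω} (hab : a ≠ b) :
    I.ncard * m = Nat.card Ω * (Nat.card Ω - 1) * {g | g ∈ I ∧ R g a b}.ncard := by
  have := ncard_mul_eq_of_orbit (G := G) {p : Ω × Ω | p.1 ≠ p.2} (a, b) ?_ I
    (fun g p => R g p.1 p.2) hI (fun k g x hg hr => hR k g x.1 x.2 hg hr) m hm
  · rwa [ncard_offDiag] at this
  · rintro ⟨c, d⟩
    constructor
    · intro hcd
      obtain ⟨k, h1, h2⟩ := h.two hab hcd
      exact ⟨k, Prod.ext h1 h2⟩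
    · rintro ⟨k, hk⟩
      rw [← hk]
      simpa using hab

/-! ### Orders -/

theorem card_eq (h : Pre G Ω) [Finite Ω] (a : Ω) :
    Nat.card G = Nat.card Ω * Nat.card (stabilizer G a) := by
  have := h.pretransitive
  rw [← index_stabilizer_of_transitive G a, mul_comm, Subgroup.card_mul_index]

theorem card_stabilizer (h : Pre G Ω) [Finite Ω] {a b : Ω} (hab : a ≠ b) :
    Nat.card (stabilizer G a) = (Nat.card Ω - 1) * Nat.card (st2 G a b) := by
  have := h.finite
  have h1 := Subgroup.card_mul_index (stabilizer (stabilizer G a) b)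
  rw [index_stabilizer] at h1
  have h2 : orbit (stabilizer G a) b = {a}ᶜ := by
    ext c
    simp only [Set.mem_compl_iff, Set.mem_singleton_iff, mem_orbit_iff]
    constructor
    · rintro ⟨⟨g, hg⟩, rfl⟩ hc
      apply hab
      have : g • b = g • a := by rw [mem_stabilizer_iff.1 hg]; exact hc
      exact (smul_left_cancel g this).symm
    · intro hc
      obtain ⟨g, h1, h2⟩ := h.two hab (Ne.symm hc)
      exact ⟨⟨g, h1⟩, h2⟩
  have h3 : Nat.card (stabilizer (stabilizer G a) b) = Nat.card (st2 G a b) := by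
    refine Nat.card_congr ⟨fun x => ⟨x.1.1, x.1.2, x.2⟩, fun x => ⟨⟨x.1, x.2.1⟩, x.2.2⟩, ?_, ?_⟩
    · intro x; rfl
    · intro x; rfl
  rw [h2, h3, Set.ncard_compl, Set.ncard_singleton] at h1
  rw [← h1, mul_comm]

theorem card_eq' (h : Pre G Ω) [Finite Ω] {a b : Ω} (hab : a ≠ b) :
    Nat.card G = Nat.card Ω * (Nat.card Ω - 1) * Nat.card (st2 G a b) := by
  rw [h.card_eq a, h.card_stabilizer hab, mul_assoc]

theorem card_st2_eq (h : Pre G Ω) [Finite Ω] {a b c d : Ω} (hab : a ≠ b) (hcd : c ≠ d) :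
    Nat.card (st2 G a b) = Nat.card (st2 G c d) := by
  have h1 := h.card_eq' hab
  rw [h.card_eq' hcd] at h1
  have h3 := h.three_le_card
  have : 0 < Nat.card Ω * (Nat.card Ω - 1) := Nat.mul_pos (by omega) (by omega)
  exact (Nat.eq_of_mul_eq_mul_left this h1).symm

/-- the number of elements interchanging two points -/
theorem ncard_swap (h : Pre G Ω) {a b : Ω} (hab : a ≠ b) :
    {g : G | g • a = b ∧ g • b = a}.ncard = Nat.card (st2 G a b) := by
  obtain ⟨s, hsa, hsb⟩ := h.two hab hab.symm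
  rw [← Nat.card_coe_set_eq]
  symm
  refine Nat.card_congr ⟨fun x => ⟨s * x.1, swap_mul hsa hsb x.2⟩,
    fun x => ⟨s⁻¹ * x.1, inv_mul_mem_st2_of_swap hsa hsb x.2.1 x.2.2⟩, ?_, ?_⟩
  · intro x; simp
  · intro x; simp

/-- the two-point stabiliser acts semiregularly on the remaining points -/
theorem card_st2_dvd (h : Pre G Ω) [Finite Ω] {a b : Ω} (hab : a ≠ b) :
    Nat.card (st2 G a b) ∣ Nat.card Ω - 2 := by
  classical
  have := h.finite
  let S : SubMulAction (st2 G a b) Ω :=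
    { carrier := {c | c ≠ a ∧ c ≠ b}
      smul_mem' := by
        rintro ⟨g, hg⟩ c ⟨hca, hcb⟩
        refine ⟨fun hh => hca ?_, fun hh => hcb ?_⟩
        · have : g • c = g • a := by rw [hg.1]; exact hh
          exact smul_left_cancel g this
        · have : g • c = g • b := by rw [hg.2]; exact hh
          exact smul_left_cancel g this }
  have hS : Nat.card S = Nat.card Ω - 2 := by
    have : (S : Set Ω) = {a, b}ᶜ := by
      ext c
      change (c ≠ a ∧ c ≠ b) ↔ _
      simp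
    change Nat.card (S : Set Ω) = _
    rw [this, Nat.card_coe_set_eq, Set.ncard_compl, Set.ncard_pair hab]
  rw [← hS]
  have hfree : ∀ c : S, stabilizer (st2 G a b) c = ⊥ := by
    rintro ⟨c, hca, hcb⟩
    rw [eq_bot_iff]
    rintro ⟨g, hg⟩ hgc
    have hgc' : g • c = c := congrArg Subtype.val hgc
    rw [Subgroup.mem_bot]
    exact Subtype.ext (h.three g hab hcb.symm hca.symm hg.1 hg.2 hgc')
  have e := selfEquivOrbitsQuotientProd (G := st2 G a b) (X := S) hfree
  rw [Nat.card_congr e, Nat.card_prod]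
  exact dvd_mul_left _ _

end Pre

end CL.Zass
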