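import Cfsg.Agent.Zass.IndStab
import Cfsg.Agent.Char.Inflate
import Cfsg.Agent.Char.Ito
import Cfsg.Agent.S0852

/-!
Feit's argument: if the characters of the point stabiliser that are non-trivial on the kernel are
coherent, then `|Ω| - 2` divides twice the order of the two-point stabiliser.
-/

set_option autoImplicit false

namespace CL.Zass

open MulAction Subgroup Cfsg CL.Char CL.TIFN
open scoped ComplexConjugate

variable {G Ω : Type*} [Group G] [MulAction G Ω] [Fintype G]

/-- the irreducible characters of `N(F)` whose kernel does not contain `F` -/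
abbrev relSet (F : Subgroup G) : Set (↥(normalizer (F : Set G)) → ℂ) :=
  {χ | IsIrrCharacter ↥(normalizer (F : Set G)) χ ∧
    ∃ k : ↥(normalizer (F : Set G)), (k : G) ∈ F ∧ χ k ≠ χ 1}

omit [Fintype G] in
theorem IsKer.mem_normalizer_iff {a : Ω} {F : Subgroup G} (hF : IsKer a F) (h : Pre G Ω) [Finite Ω]
    (g : G) : g ∈ normalizer (F : Set G) ↔ g • a = a := by
  rw [hF.normalizer_eq h]; rfl

omit [Fintype G] in
theorem IsKer.ti {a : Ω} {F : Subgroup G} (hF : IsKer a F) (h : Pre G Ω) [Finite Ω] :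
    ∀ g : G, g ∉ normalizer (F : Set G) → ∀ k ∈ F, g * k * g⁻¹ ∈ F → k = 1 := by
  intro g hg k hk hgk
  by_contra hk1
  exact hg ((hF.mem_normalizer_iff h g).2 (hF.smul_eq_of_conj_mem hk hk1 hgk))

omit [Fintype G] in
theorem IsKer.centralizer_le {a : Ω} {F : Subgroup G} (hF : IsKer a F) (h : Pre G Ω) :
    ∀ k ∈ F, k ≠ 1 → centralizer ({k} : Set G) ≤ F := fun _ hk hk1 _ hg =>
  hF.mem_of_commute h hk hk1 (BF.mem_cent_iff.1 hg)

omit [Fintype G] in
theorem IsKer.lt_normalizer {a b : Ω} {F : Subgroup G} (hF : IsKer a F) (hab : a ≠ b)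
    (hd : st2 G a b ≠ ⊥) : F < normalizer (F : Set G) := by
  refine lt_of_le_of_ne le_normalizer fun he => hd ?_
  rw [eq_bot_iff]
  intro x hx
  exact hF.eq_one_of_mem_st2 hab (he ▸ hF.st2_le_normalizer hx) hx

omit [Fintype G] in
theorem IsKer.index_normalizer {a b : Ω} {F : Subgroup G} (hF : IsKer a F) (h : Pre G Ω) [Finite Ω]
    (hab : a ≠ b) : (F.subgroupOf (normalizer (F : Set G))).index = Nat.card (st2 G a b) := by
  have := h.finite
  have e1 := (F.subgroupOf (normalizer (F : Set G))).card_mul_index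
  rw [Nat.card_congr (subgroupOfEquivOfLe le_normalizer).toEquiv] at e1
  have e2 := h.card_stabilizer hab
  rw [← hF.normalizer_eq h, ← hF.card_eq h, ← e1] at e2
  exact Nat.eq_of_mul_eq_mul_left Nat.card_pos e2

/-- the Steinberg character -/
noncomputable def stChar (Ω : Type*) {G : Type*} [Group G] [MulAction G Ω] : G → ℂ :=
  fun g => (Nat.card (fixedBy Ω g) : ℂ) - 1

theorem Pre.irr_stChar (h : Pre G Ω) [Finite Ω] : IsIrrCharacter G (stChar Ω) := by
  have := h.pretransitive
  have : Nontrivial Ω := by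
    obtain ⟨a⟩ := h.nonempty
    obtain ⟨b, hb⟩ := h.exists_ne a
    exact ⟨b, a, hb⟩
  exact (irr_fixedBy_sub_one_iff Ω).2 h.multTrans

omit [Fintype G] in
theorem stChar_one : stChar Ω (1 : G) = (Nat.card Ω : ℂ) - 1 := by
  rw [stChar, card_fixedBy_eq, nfix_one]

omit [Fintype G] in
theorem stChar_fpf {g : G} (hg : nfix Ω g = 0) : stChar Ω g = -1 := by
  rw [stChar, card_fixedBy_eq, hg]; simp

theorem Pre.indFun_one_eq (h : Pre G Ω) {a : Ω} {L : Subgroup G} (hL : ∀ g, g ∈ L ↔ g • a = a) :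
    indFun L (fun _ => 1) = (fun _ => 1) + stChar Ω := by
  have := h.pretransitive
  obtain rfl : L = stabilizer G a := Subgroup.ext hL
  funext g
  rw [← card_fixedBy_eq_indFun Ω a g]
  simp [stChar]

namespace OI

variable [Finite Ω] (h : OI G Ω)
include h

/-- an irreducible character constant on `F^#` is in the principal series or has degree divisible
by `|Ω| - 2` -/
theorem irr_cases_of_const {a : Ω} {F : Subgroup G} (hF : IsKer a F) {ψ : G → ℂ}
    (hψ : IsIrrCharacter G ψ) (hc : ∀ u ∈ F, ∀ v ∈ F, u ≠ 1 → v ≠ 1 → ψ u = ψ v) :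
    ψ = (fun _ => 1) ∨ ψ = stChar Ω ∨ (∀ z : G, nfix Ω z = 0 → ψ z = 0) ∨
      Nat.card Ω - 2 ∣ deg ψ := by
  classical
  set L := stabilizer G a with hLdef
  have hL : ∀ g, g ∈ L ↔ g • a = a := fun _ => Iff.rfl
  have : Fintype L := Fintype.ofFinite L
  have hN : (F.subgroupOf L).Normal := hF.normal
  by_cases hex : ∃ μ : L → ℂ, IsIrrCharacter L μ ∧ (∀ k ∈ F.subgroupOf L, μ k = μ 1) ∧
      classInner (fun x : L => ψ x) μ ≠ 0
  · obtain ⟨μ, hμ, hμF, hne⟩ := hex
    have h1 : μ 1 = 1 := (irr_apply_one_eq_one_iff hμ).2 fun k hk =>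
      (char_mem_charKer_iff (irr_isCharacter hμ)).2 (hμF k (h.commutator_le_ker hL hF hk))
    obtain ⟨lam, rfl⟩ := exists_linear_of_isIrrCharacter hμ h1
    by_cases hlam : lam = 1
    · subst hlam
      rw [← classInner_indFun_right L _ (irr_isClassFunction hψ)] at hne
      have e := h.toPre.indFun_one_eq hL
      simp only [MonoidHom.one_apply, Units.val_one] at hne
      rw [e, classInner_add_right] at hne
      by_cases h2 : ψ = fun _ => 1
      · exact Or.inl h2
      · rw [irr_inner_one hψ h2, zero_add] at hne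
        exact Or.inr (Or.inl (irr_eq_of_inner_ne_zero hψ h.toPre.irr_stChar hne))
    · have hi := h.irr_indFun_linear hL hF (lam := lam)
        (fun u hu => Units.ext (by simpa using hμF u hu)) hlam
      refine Or.inr (Or.inr (Or.inl fun z hz => ?_))
      rw [eq_indFun_of_inner_ne_zero L hψ hi hne]
      exact indFun_stab_fpf hL _ (nfix_eq_zero_iff.1 hz)
  · push Not at hex
    refine Or.inr (Or.inr (Or.inr ?_))
    have : Fintype (F.subgroupOf L) := Fintype.ofFinite _
    have hcf : IsClassFunction L (fun x : L => ψ x) := classFun_restrict (irr_isClassFunction hψ) L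
    have e1 : ∑ k : F.subgroupOf L, ψ ((k : L) : G) = 0 := by
      have : ∀ k : F.subgroupOf L, ψ ((k : L) : G) =
          ∑ χ : IrrCharacter L, classInner (fun x : L => ψ x) χ * (χ : L → ℂ) k :=
        fun k => classFun_apply_eq_sum hcf k
      simp only [this]
      rw [Finset.sum_comm]
      refine Finset.sum_eq_zero fun χ _ => ?_
      rw [← Finset.mul_sum]
      by_cases h1 : ∀ k ∈ F.subgroupOf L, (χ : L → ℂ) k = (χ : L → ℂ) 1
      · rw [hex χ χ.2 h1, zero_mul]
      · push Not at h1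
        rw [sum_res_eq_zero _ χ.2 h1, mul_zero]
    obtain ⟨u, hu, hu1⟩ := hF.exists_ne_one h.toPre
    obtain ⟨m, hm⟩ := exists_int_of_const F (gen_of_irr hψ) hu hu1
      (fun k hk hk1 => hc k hk u hu hk1 hu1)
    have e2 : ∑ k : F.subgroupOf L, ψ ((k : L) : G) =
        ∑ k : F.subgroupOf L, (m + if k = 1 then ψ 1 - m else 0) := by
      refine Finset.sum_congr rfl fun k _ => ?_
      split_ifs with hk
      · subst hk; simp
      · rw [hc ((k : L) : G) k.2 u hu (fun h1 => hk (Subtype.ext (Subtype.ext h1))) hu1, hm,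
          add_zero]
    rw [e2, Finset.sum_add_distrib, Finset.sum_const, Finset.card_univ, ← Nat.card_eq_fintype_card,
      card_ker_subgroupOf hL hF, hF.card_eq h.toPre] at e1
    simp only [nsmul_eq_mul, Finset.sum_ite_eq', Finset.mem_univ, if_true] at e1
    have h3 := h.toPre.three_le_card
    obtain ⟨n, hn⟩ : ∃ n, Nat.card Ω = n + 2 := ⟨Nat.card Ω - 2, by omega⟩
    rw [hn, ← irr_cast_deg hψ] at e1
    rw [hn, Nat.add_sub_cancel, ← Int.natCast_dvd_natCast]
    refine ⟨-m, ?_⟩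
    have e3 : ((deg ψ : ℤ) : ℂ) = ((n * -m : ℤ) : ℂ) := by
      simp only [show n + 2 - 1 = n + 1 from rfl] at e1
      push_cast at e1 ⊢
      linear_combination e1
    exact_mod_cast e3

/-- Feit's argument -/
theorem dvd_of_coherent {a b : Ω} (hab : a ≠ b) (hd : 1 < Nat.card (st2 G a b)) {F : Subgroup G}
    (hF : IsKer a F) [Fintype ↥(normalizer (F : Set G))]
    (hcoh : IsCoherent (relSet F) {1}ᶜ (fun α => indFun (normalizer (F : Set G)) α)) :
    Nat.card Ω - 2 ∣ 2 * Nat.card (st2 G a b) := by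
  classical
  obtain ⟨⟨α₀, hα₀, hα₀ne⟩, star, hstar, hext⟩ := hcoh
  have hL := hF.mem_normalizer_iff h.toPre
  have hne : st2 G a b ≠ ⊥ := fun h0 => by rw [h0] at hd; simp at hd
  have htwo : ∃ χ ∈ relSet F, ∃ ξ ∈ relSet F, χ ≠ ξ := by
    by_contra hcon
    push Not at hcon
    rcases (relSet F).eq_empty_or_nonempty with h0 | ⟨χ, hχ⟩
    · have := hα₀.1
      rw [h0, zspan, Submodule.span_empty] at this
      exact hα₀ne this
    · have h1 : relSet F = {χ} := Set.eq_singleton_iff_unique_mem.2 ⟨hχ, fun ξ hξ => hcon _ hξ _ hχ⟩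
      have h2 := hα₀.1
      rw [h1, zspan, SetLike.mem_coe, Submodule.mem_span_singleton] at h2
      obtain ⟨m, rfl⟩ := h2
      have h3 := hα₀.2 1 (by simp)
      simp only [Pi.smul_apply, zsmul_eq_mul, mul_eq_zero, Int.cast_eq_zero] at h3
      rcases h3 with h3 | h3
      · rw [h3] at hα₀ne; exact hα₀ne (zero_smul _ _)
      · exact irr_apply_one_ne_zero hχ.1 h3
  by_cases hex : ∃ ψ : IrrCharacter G, Nat.card Ω - 2 ∣ deg (ψ : G → ℂ)
  · obtain ⟨ψ, hψ⟩ := hex
    have h1 := hψ.trans (irr_deg_dvd_card ψ.2)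
    have h3 := h.toPre.three_le_card
    obtain ⟨n, hn⟩ : ∃ n, Nat.card Ω = n + 2 := ⟨Nat.card Ω - 2, by omega⟩
    rw [h.toPre.card_eq' hab, hn] at h1
    rw [hn]
    simp only [Nat.add_sub_cancel, show n + 2 - 1 = n + 1 from rfl] at h1 ⊢
    have e : (n + 2) * (n + 1) * Nat.card (st2 G a b) =
        n * ((n + 3) * Nat.card (st2 G a b)) + 2 * Nat.card (st2 G a b) := by ring
    rw [e] at h1
    exact (Nat.dvd_add_right (Dvd.intro _ rfl)).1 h1
  exfalso
  push Not at hex
  obtain ⟨ξ, hξ, -⟩ := id htwo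
  obtain ⟨x, y, hx, hy, hxy⟩ := h.exists_two_fpf hab hd
  let α : IrrCharacter G → ℂ := fun ψ =>
    if (ψ : G → ℂ) = fun _ => 1 then 1 else if (ψ : G → ℂ) = stChar Ω then -1 else 0
  have key : ∀ ψ : IrrCharacter G, ∃ β : ℂ, ∀ z : G, nfix Ω z = 0 →
      (ψ : G → ℂ) z = α ψ + β * star ξ z := by
    intro ψ
    by_cases h1 : (ψ : G → ℂ) = fun _ => 1
    · exact ⟨0, fun z _ => by simp [α, h1]⟩
    by_cases h2 : (ψ : G → ℂ) = stChar Ω
    · refine ⟨0, fun z hz => ?_⟩
      simp only [α, if_neg h1, if_pos h2]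
      rw [h2, stChar_fpf hz]; simp
    simp only [α, if_neg h1, if_neg h2, zero_add]
    by_cases h3 : ∃ χ ∈ relSet F, (ψ : G → ℂ) = star χ ∨ (ψ : G → ℂ) = -star χ
    · obtain ⟨χ, hχ, h4⟩ := h3
      have e : ∀ z : G, nfix Ω z = 0 → star χ z = χ 1 / ξ 1 * star ξ z := by
        intro z hz
        have e1 := map_cross hstar hχ hξ (irr_isCharacter hχ.1) (irr_isCharacter hξ.1)
        rw [hext _ (cross_mem_zspanOn hχ hξ (irr_isCharacter hχ.1) (irr_isCharacter hξ.1))] at e1
        have e2 := congrFun e1 z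
        simp only [indFun_stab_fpf hL _ (nfix_eq_zero_iff.1 hz), Pi.sub_apply, Pi.smul_apply,
          smul_eq_mul] at e2
        have e3 := irr_apply_one_ne_zero hξ.1
        field_simp
        linear_combination -e2
      rcases h4 with h4 | h4
      · exact ⟨χ 1 / ξ 1, fun z hz => by rw [h4, e z hz]⟩
      · exact ⟨-(χ 1 / ξ 1), fun z hz => by rw [h4, Pi.neg_apply, e z hz]; ring⟩
    · rw [Cfsg.Agent.S0852.result F (hF.ti h.toPre) (hF.lt_normalizer hab hne)
        (hF.centralizer_le h.toPre) (relSet F) rfl htwo star hstar hext _ ψ.2] at h3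
      push Not at h3
      rcases h.irr_cases_of_const hF ψ.2 h3 with h4 | h4 | h4 | h4
      · exact absurd h4 h1
      · exact absurd h4 h2
      · exact ⟨0, fun z hz => by rw [h4 z hz, zero_mul]⟩
      · exact absurd h4 (hex ψ)
  choose β hβ using key
  have h3 := h.toPre.three_le_card
  have h4 : Nat.card Ω ≠ 2 := by omega
  have hA : ∑ ψ : IrrCharacter G, (ψ : G → ℂ) 1 * α ψ = 2 - Nat.card Ω := by
    have hne1 : (stChar Ω : G → ℂ) ≠ fun _ => 1 := by
      intro h0
      have := congrFun h0 1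
      rw [stChar_one, sub_eq_iff_eq_add] at this
      exact h4 (by exact_mod_cast this)
    rw [Finset.sum_eq_add (irrOne G) ⟨stChar Ω, h.toPre.irr_stChar⟩]
    · simp only [α, irrOne, if_true, if_neg hne1, stChar_one]; ring
    · intro h0; exact hne1 (congrArg Subtype.val h0).symm
    · intro ψ _ hψ
      simp only [α]
      have h5 : (ψ : G → ℂ) ≠ fun _ => 1 := fun h0 => hψ.1 (Subtype.ext h0)
      have h6 : (ψ : G → ℂ) ≠ stChar Ω := fun h0 => hψ.2 (Subtype.ext h0)
      rw [if_neg h5, if_neg h6, mul_zero]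
    · intro h0; exact absurd (Finset.mem_univ _) h0
    · intro h0; exact absurd (Finset.mem_univ _) h0
  have hsum : ∀ z : G, nfix Ω z = 0 →
      (2 - Nat.card Ω : ℂ) + (∑ ψ : IrrCharacter G, (ψ : G → ℂ) 1 * β ψ) * star ξ z = 0 := by
    intro z hz
    rw [← sum_irr_apply_one_mul (h.toPre.ne_one_of_nfix_le (g := z) (by omega)), ← hA,
      Finset.sum_mul, ← Finset.sum_add_distrib]
    refine Finset.sum_congr rfl fun ψ _ => ?_
    rw [hβ ψ z hz]; ring
  have hA0 : (2 - Nat.card Ω : ℂ) ≠ 0 := by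
    rw [sub_ne_zero]; exact fun h0 => h4 (by exact_mod_cast h0.symm)
  have hB : (∑ ψ : IrrCharacter G, (ψ : G → ℂ) 1 * β ψ) ≠ 0 := by
    intro h0
    have := hsum x hx
    rw [h0, zero_mul, add_zero] at this
    exact hA0 this
  have hw : star ξ x = star ξ y :=
    mul_left_cancel₀ hB (add_left_cancel ((hsum x hx).trans (hsum y hy).symm))
  exact hxy ((isConj_iff_irr x y).2 fun ψ => by rw [hβ ψ x hx, hβ ψ y hy, hw])

end OI

end CL.Zass
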