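import Cfsg.Agent.Zass.Basic

/-!
# Fixed points and involutions
-/

set_option autoImplicit false

namespace CL.Zass

open MulAction

variable {G Ω : Type*} [Group G] [MulAction G Ω]

/-- the number of fixed points -/
noncomputable def nfix (Ω : Type*) {G : Type*} [Group G] [MulAction G Ω] (g : G) : ℕ :=
  {x : Ω | g • x = x}.ncard

theorem nfix_def (g : G) : nfix Ω g = {x : Ω | g • x = x}.ncard := rfl

theorem card_fixedBy_eq (g : G) : Nat.card (fixedBy Ω g) = nfix Ω g := rfl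

theorem nfix_one : nfix Ω (1 : G) = Nat.card Ω := by
  simp [nfix, Set.ncard_univ]

theorem nfix_conj (k g : G) : nfix Ω (k * g * k⁻¹) = nfix Ω g := by
  symm
  apply Set.ncard_congr (fun x _ => k • x)
  · intro x hx
    exact (conj_fix_iff k g x).2 hx
  · intro x y _ _ hxy
    exact smul_left_cancel k hxy
  · intro y hy
    refine ⟨k⁻¹ • y, ?_, by simp⟩
    have : (k * g * k⁻¹) • (k • k⁻¹ • y) = k • k⁻¹ • y := by simpa using hy
    exact (conj_fix_iff k g _).1 this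

theorem nfix_inv (g : G) : nfix Ω g⁻¹ = nfix Ω g := by
  unfold nfix
  congr 1
  ext x
  simp only [Set.mem_ofPred_eq, inv_smul_eq_iff]
  exact eq_comm

theorem nfix_eq_zero_iff [Finite Ω] {g : G} : nfix Ω g = 0 ↔ ∀ x : Ω, g • x ≠ x := by
  rw [nfix, Set.ncard_eq_zero (Set.toFinite _), Set.eq_empty_iff_forall_notMem]
  rfl

theorem nfix_eq_one_iff {g : G} : nfix Ω g = 1 ↔ ∃ a : Ω, g • a = a ∧ ∀ c : Ω, g • c = c → c = a := by
  rw [nfix, Set.ncard_eq_one]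
  constructor
  · rintro ⟨a, ha⟩
    refine ⟨a, ?_, fun c hc => ?_⟩
    · have : a ∈ {x : Ω | g • x = x} := by rw [ha]; rfl
      exact this
    · have : c ∈ {x : Ω | g • x = x} := hc
      rwa [ha] at this
  · rintro ⟨a, ha, hc⟩
    refine ⟨a, ?_⟩
    ext x
    exact ⟨fun hx => hc x hx, fun hx => by rw [Set.mem_singleton_iff.1 hx]; exact ha⟩

theorem nfix_modEq [Finite Ω] {p : ℕ} (hp : p.Prime) {g : G} (hg : g ^ p = 1) :
    Nat.card Ω ≡ nfix Ω g [MOD p] := by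
  classical
  have := Fintype.ofFinite Ω
  have := Fact.mk hp
  have key := Equiv.Perm.card_fixedPoints_modEq (f := (MulAction.toEndHom g : Function.End Ω))
    (p := p) (n := 1) (by rw [pow_one, ← map_pow, hg, map_one])
  rw [← Nat.card_eq_fintype_card, ← Nat.card_eq_fintype_card] at key
  exact key

theorem nfix_mod_two [Finite Ω] {g : G} (hg : g * g = 1) : nfix Ω g % 2 = Nat.card Ω % 2 :=
  (nfix_modEq Nat.prime_two (by rw [pow_two, hg])).symm

theorem nfix_le_card [Finite Ω] (g : G) : nfix Ω g ≤ Nat.card Ω := by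
  rw [nfix, ← Set.ncard_univ]
  exact Set.ncard_le_ncard (Set.subset_univ _)

/-- ordered pairs `(x, g x)` with `g x ≠ x` -/
theorem ncard_moved_pairs [Finite Ω] (g : G) :
    {p : Ω × Ω | p.1 ≠ p.2 ∧ g • p.1 = p.2}.ncard = Nat.card Ω - nfix Ω g := by
  rw [nfix, ← Set.ncard_compl]
  symm
  apply Set.ncard_congr (fun x _ => (x, g • x))
  · intro x hx
    exact ⟨fun h => hx h.symm, rfl⟩
  · intro x y _ _ hxy
    exact congrArg Prod.fst hxy
  · rintro ⟨x, y⟩ ⟨h1, h2⟩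
    refine ⟨x, fun h => h1 ?_, Prod.ext rfl h2⟩
    exact (show g • x = x from h).symm.trans h2

theorem ncard_swapped_pairs [Finite Ω] {g : G} (hg : g * g = 1) :
    {p : Ω × Ω | p.1 ≠ p.2 ∧ (g • p.1 = p.2 ∧ g • p.2 = p.1)}.ncard = Nat.card Ω - nfix Ω g := by
  rw [← ncard_moved_pairs]
  congr 1
  ext p
  simp only [Set.mem_ofPred_eq]
  refine ⟨fun h => ⟨h.1, h.2.1⟩, fun h => ⟨h.1, h.2, ?_⟩⟩
  rw [← h.2, ← mul_smul, hg, one_smul]

theorem orderOf_eq_two_iff {g : G} : orderOf g = 2 ↔ g * g = 1 ∧ g ≠ 1 := by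
  rw [orderOf_eq_prime_iff, pow_two]

/-- the number of solutions of `x * x = 1` has the parity of the group order -/
theorem ncard_sq_eq_one_mod_two (H : Subgroup G) [Finite H] :
    {x : G | x ∈ H ∧ x * x = 1}.ncard % 2 = Nat.card H % 2 := by
  classical
  have := Fintype.ofFinite H
  have key := Equiv.Perm.card_fixedPoints_modEq (f := (fun x : H => x⁻¹ : Function.End H))
    (p := 2) (n := 1) (by funext x; exact inv_inv x)
  rw [← Nat.card_eq_fintype_card, ← Nat.card_eq_fintype_card, Nat.card_coe_set_eq] at key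
  rw [key]
  congr 1
  symm
  apply Set.ncard_congr (fun (x : H) _ => (x : G))
  · intro x hx
    have : x⁻¹ = x := hx
    refine ⟨x.2, ?_⟩
    have h2 : x * x = 1 := by nth_rewrite 1 [← this]; simp
    exact congrArg Subtype.val h2
  · intro x y _ _ hxy
    exact Subtype.ext hxy
  · rintro x ⟨hx, hx2⟩
    refine ⟨⟨x, hx⟩, ?_, rfl⟩
    change (⟨x, hx⟩ : H)⁻¹ = ⟨x, hx⟩
    apply Subtype.ext
    exact inv_eq_of_mul_eq_one_right hx2

theorem exists_invol_of_even (H : Subgroup G) [Finite H] (he : Even (Nat.card H)) :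
    ∃ t ∈ H, t * t = 1 ∧ t ≠ 1 := by
  have := Fact.mk Nat.prime_two
  obtain ⟨t, ht⟩ := exists_prime_orderOf_dvd_card' (G := H) 2 he.two_dvd
  rw [← Subgroup.orderOf_coe, orderOf_eq_two_iff] at ht
  exact ⟨t, t.2, ht⟩

theorem eq_one_of_sq_of_odd {H : Subgroup G} [Finite H] (ho : Odd (Nat.card H)) {x : G} (hx : x ∈ H)
    (hx2 : x * x = 1) : x = 1 := by
  by_contra h1
  have h2 : orderOf x = 2 := orderOf_eq_two_iff.2 ⟨hx2, h1⟩
  have h3 := Subgroup.orderOf_dvd_natCard H hx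
  rw [h2] at h3
  exact (Nat.not_even_iff_odd.2 ho) (even_iff_two_dvd.2 h3)

namespace Pre

theorem fixed_eq_pair (h : Pre G Ω) {a b : Ω} (hab : a ≠ b) {x : G} (hx : x ∈ st2 G a b)
    (hx1 : x ≠ 1) : {c : Ω | x • c = c} = {a, b} := by
  ext c
  refine ⟨fun hc => h.fix_of_mem_st2 hab hx hx1 hc, ?_⟩
  rintro (rfl | rfl)
  · exact hx.1
  · exact hx.2

theorem nfix_of_mem_st2 (h : Pre G Ω) {a b : Ω} (hab : a ≠ b) {x : G} (hx : x ∈ st2 G a b)
    (hx1 : x ≠ 1) : nfix Ω x = 2 := by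
  rw [nfix, h.fixed_eq_pair hab hx hx1, Set.ncard_pair hab]

theorem nfix_le_two (h : Pre G Ω) [Finite Ω] {g : G} (hg : g ≠ 1) : nfix Ω g ≤ 2 := by
  by_contra hcon
  push Not at hcon
  obtain ⟨a, ha, b, hb, hab⟩ := (Set.one_lt_ncard (Set.toFinite {x : Ω | g • x = x})).1
    (lt_trans (by norm_num) hcon)
  have := h.nfix_of_mem_st2 hab (x := g) ⟨ha, hb⟩ hg
  omega

theorem exists_of_nfix_two [Finite Ω] {g : G} (hg : nfix Ω g = 2) :
    ∃ a b : Ω, a ≠ b ∧ g ∈ st2 G a b := by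
  obtain ⟨a, ha, b, hb, hab⟩ := (Set.one_lt_ncard (Set.toFinite {x : Ω | g • x = x})).1
    (by change 1 < nfix Ω g; omega)
  exact ⟨a, b, hab, ha, hb⟩

theorem ne_one_of_nfix_le (h : Pre G Ω) [Finite Ω] {g : G} (hg : nfix Ω g ≤ 2) : g ≠ 1 := by
  rintro rfl
  rw [nfix_one] at hg
  have := h.three_le_card
  omega

theorem ncard_fixed_pairs (h : Pre G Ω) [Finite Ω] {g : G} (hg : nfix Ω g = 2) :
    {p : Ω × Ω | p.1 ≠ p.2 ∧ g ∈ st2 G p.1 p.2}.ncard = 2 := by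
  obtain ⟨a, b, hab, hg'⟩ := exists_of_nfix_two hg
  have hg1 : g ≠ 1 := h.ne_one_of_nfix_le hg.le
  have : {p : Ω × Ω | p.1 ≠ p.2 ∧ g ∈ st2 G p.1 p.2} = {(a, b), (b, a)} := by
    ext ⟨c, d⟩
    simp only [Set.mem_ofPred_eq, Set.mem_insert_iff, Set.mem_singleton_iff, Prod.mk.injEq]
    constructor
    · rintro ⟨hcd, hc, hd⟩
      rcases h.fix_of_mem_st2 hab hg' hg1 hc with hc | hc <;>
        rcases h.fix_of_mem_st2 hab hg' hg1 hd with hd | hd
      · exact absurd (hc.trans hd.symm) hcd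
      · exact Or.inl ⟨hc, hd⟩
      · exact Or.inr ⟨hc, hd⟩
      · exact absurd (hc.trans hd.symm) hcd
    · rintro (⟨rfl, rfl⟩ | ⟨rfl, rfl⟩)
      · exact ⟨hab, hg'⟩
      · exact ⟨hab.symm, hg'.2, hg'.1⟩
  rw [this, Set.ncard_pair]
  intro hh
  exact hab (congrArg Prod.fst hh)

/-- conjugating an involution so that it interchanges two given points -/
theorem exists_conj_swap (h : Pre G Ω) {s : G} (hs : s * s = 1) (hs1 : s ≠ 1) {a b : Ω}
    (hab : a ≠ b) : ∃ k : G, (k * s * k⁻¹) • a = b ∧ (k * s * k⁻¹) • b = a := by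
  obtain ⟨c, hc⟩ : ∃ c : Ω, s • c ≠ c := by
    by_contra hcon
    push Not at hcon
    exact hs1 (h.eq_one_of_forall hcon)
  obtain ⟨k, hk1, hk2⟩ := h.two hc.symm hab
  refine ⟨k, ?_, ?_⟩
  · rw [← hk1, conj_smul_smul, hk2]
  · rw [← hk2, conj_smul_smul, ← mul_smul s s, hs, one_smul, hk1]

theorem even_card (h : Pre G Ω) [Finite Ω] : Even (Nat.card G) := by
  obtain ⟨a⟩ := h.nonempty
  obtain ⟨b, hb⟩ := h.exists_ne a
  rw [h.card_eq' hb]
  exact (Nat.even_mul_pred_self _).mul_right _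

theorem exists_swap (h : Pre G Ω) [Finite Ω] {a b : Ω} (hab : a ≠ b) :
    ∃ s : G, s * s = 1 ∧ s • a = b ∧ s • b = a := by
  have := h.finite
  obtain ⟨t, -, ht, ht1⟩ := exists_invol_of_even (⊤ : Subgroup G) (by simpa using h.even_card)
  obtain ⟨k, hk⟩ := h.exists_conj_swap ht ht1 hab
  refine ⟨k * t * k⁻¹, ?_, hk⟩
  calc k * t * k⁻¹ * (k * t * k⁻¹) = k * (t * t) * k⁻¹ := by group
    _ = 1 := by rw [ht]; group

theorem exists_swap_two (h : Pre G Ω) [Finite Ω] {a b : Ω} (hab : a ≠ b)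
    (he : Even (Nat.card (st2 G a b))) :
    ∃ s : G, s * s = 1 ∧ s • a = b ∧ s • b = a ∧ nfix Ω s = 2 := by
  have := h.finite
  obtain ⟨t, htm, ht, ht1⟩ := exists_invol_of_even _ he
  obtain ⟨k, hk⟩ := h.exists_conj_swap ht ht1 hab
  refine ⟨k * t * k⁻¹, ?_, hk.1, hk.2, ?_⟩
  · calc k * t * k⁻¹ * (k * t * k⁻¹) = k * (t * t) * k⁻¹ := by group
      _ = 1 := by rw [ht]; group
  · rw [nfix_conj, h.nfix_of_mem_st2 hab htm ht1]

theorem even_card_of_even_st2 (h : Pre G Ω) [Finite Ω] {a b : Ω} (hab : a ≠ b)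
    (he : Even (Nat.card (st2 G a b))) : Even (Nat.card Ω) := by
  have h1 := h.card_st2_dvd hab
  have h2 := h.three_le_card
  have h3 : 2 ∣ Nat.card Ω - 2 := he.two_dvd.trans h1
  rw [even_iff_two_dvd]
  omega

theorem odd_st2_of_odd (h : Pre G Ω) [Finite Ω] {a b : Ω} (hab : a ≠ b)
    (ho : Odd (Nat.card Ω)) : Odd (Nat.card (st2 G a b)) := by
  rw [← Nat.not_even_iff_odd] at ho ⊢
  exact fun he => ho (h.even_card_of_even_st2 hab he)

/-- double count of the involutions with two fixed points -/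
theorem two_mul_ncard_swap (h : Pre G Ω) [Finite Ω] {a b : Ω} (hab : a ≠ b) :
    2 * {s : G | (s * s = 1 ∧ nfix Ω s = 2) ∧ (s • a = b ∧ s • b = a)}.ncard =
      (Nat.card Ω - 2) * {s : G | s ∈ st2 G a b ∧ s * s = 1 ∧ s ≠ 1}.ncard := by
  have := h.finite
  have hI : ∀ k g : G, g ∈ {s : G | s * s = 1 ∧ nfix Ω s = 2} →
      k * g * k⁻¹ ∈ {s : G | s * s = 1 ∧ nfix Ω s = 2} := by
    rintro k g ⟨h1, h2⟩
    refine ⟨?_, by rw [nfix_conj, h2]⟩
    calc k * g * k⁻¹ * (k * g * k⁻¹) = k * (g * g) * k⁻¹ := by group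
      _ = 1 := by rw [h1]; group
  have e1 := h.count_pairs _ (fun g x y => g • x = y ∧ g • y = x) hI
    (fun k g x y _ hr => by rw [conj_smul_smul, conj_smul_smul, hr.1, hr.2]; exact ⟨rfl, rfl⟩)
    (Nat.card Ω - 2) (fun g hg => by rw [ncard_swapped_pairs hg.1, hg.2]) hab
  have e2 := h.count_pairs _ (fun g x y => g ∈ st2 G x y) hI
    (fun k g x y _ hr => conj_mem_st2 k hr) 2 (fun g hg => h.ncard_fixed_pairs hg.2) hab
  have e3 : {g : G | g ∈ {s : G | s * s = 1 ∧ nfix Ω s = 2} ∧ g ∈ st2 G a b} =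
      {s : G | s ∈ st2 G a b ∧ s * s = 1 ∧ s ≠ 1} := by
    ext g
    simp only [Set.mem_ofPred_eq]
    exact ⟨fun hg => ⟨hg.2, hg.1.1, h.ne_one_of_nfix_le hg.1.2.le⟩,
      fun hg => ⟨⟨hg.2.1, h.nfix_of_mem_st2 hab hg.1 hg.2.2⟩, hg.1⟩⟩
  rw [e3] at e2
  have h3 := h.three_le_card
  have hpos : 0 < Nat.card Ω * (Nat.card Ω - 1) := Nat.mul_pos (by omega) (by omega)
  apply Nat.eq_of_mul_eq_mul_left hpos
  simp only [Set.mem_ofPred_eq] at e1
  rw [mul_left_comm, ← e1, mul_left_comm _ (Nat.card Ω - 2), ← e2]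
  ring

theorem ncard_invol_st2_odd (h : Pre G Ω) [Finite Ω] {a b : Ω}
    (he : Even (Nat.card (st2 G a b))) :
    Odd {s : G | s ∈ st2 G a b ∧ s * s = 1 ∧ s ≠ 1}.ncard := by
  have := h.finite
  have h1 := ncard_sq_eq_one_mod_two (st2 G a b)
  have h2 : {x : G | x ∈ st2 G a b ∧ x * x = 1} =
      insert 1 {s : G | s ∈ st2 G a b ∧ s * s = 1 ∧ s ≠ 1} := by
    ext x
    simp only [Set.mem_ofPred_eq, Set.mem_insert_iff]
    by_cases hx : x = 1
    · simp [hx]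
    · simp [hx]
  rw [h2, Set.ncard_insert_of_notMem (by simp)] at h1
  rw [Nat.even_iff] at he
  rw [Nat.odd_iff]
  omega

theorem ncard_swap_two_le (h : Pre G Ω) [Finite Ω] {a b : Ω} (hab : a ≠ b) :
    {s : G | (s * s = 1 ∧ nfix Ω s = 2) ∧ (s • a = b ∧ s • b = a)}.ncard ≤
      Nat.card (st2 G a b) := by
  have := h.finite
  rw [← h.ncard_swap hab]
  exact Set.ncard_le_ncard (fun s hs => hs.2)

/-- a two-point stabiliser of even order has exactly one involution -/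
theorem ncard_invol_st2 (h : Pre G Ω) [Finite Ω] {a b : Ω} (hab : a ≠ b)
    (he : Even (Nat.card (st2 G a b))) :
    {s : G | s ∈ st2 G a b ∧ s * s = 1 ∧ s ≠ 1}.ncard = 1 := by
  have := h.finite
  have h1 := h.two_mul_ncard_swap hab
  have h2 := h.ncard_swap_two_le hab
  have h3 := h.three_le_card
  have h4 := Nat.le_of_dvd (by omega) (h.card_st2_dvd hab)
  obtain ⟨k, hk⟩ := h.ncard_invol_st2_odd he
  rw [hk] at h1 ⊢
  by_contra hcon
  have : (Nat.card Ω - 2) * 3 ≤ (Nat.card Ω - 2) * (2 * k + 1) :=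
    Nat.mul_le_mul_left _ (by omega)
  omega

theorem invol_unique (h : Pre G Ω) [Finite Ω] {a b : Ω} (hab : a ≠ b) {t t' : G}
    (ht : t ∈ st2 G a b) (ht2 : t * t = 1) (ht1 : t ≠ 1)
    (ht' : t' ∈ st2 G a b) (ht2' : t' * t' = 1) (ht1' : t' ≠ 1) : t = t' := by
  have := h.finite
  have he : Even (Nat.card (st2 G a b)) := by
    by_contra ho
    exact ht1 (eq_one_of_sq_of_odd (Nat.not_even_iff_odd.1 ho) ht ht2)
  obtain ⟨x, hx⟩ := Set.ncard_eq_one.1 (h.ncard_invol_st2 hab he)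
  have e1 : t ∈ ({x} : Set G) := by rw [← hx]; exact ⟨ht, ht2, ht1⟩
  have e2 : t' ∈ ({x} : Set G) := by rw [← hx]; exact ⟨ht', ht2', ht1'⟩
  exact e1.trans e2.symm

theorem two_mul_ncard_swap_of_even (h : Pre G Ω) [Finite Ω] {a b : Ω} (hab : a ≠ b)
    (he : Even (Nat.card (st2 G a b))) :
    2 * {s : G | (s * s = 1 ∧ nfix Ω s = 2) ∧ (s • a = b ∧ s • b = a)}.ncard = Nat.card Ω - 2 := by
  rw [h.two_mul_ncard_swap hab, h.ncard_invol_st2 hab he, mul_one]

theorem le_two_mul_of_even (h : Pre G Ω) [Finite Ω] {a b : Ω} (hab : a ≠ b)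
    (he : Even (Nat.card (st2 G a b))) : Nat.card Ω - 2 ≤ 2 * Nat.card (st2 G a b) := by
  rw [← h.two_mul_ncard_swap_of_even hab he]
  exact Nat.mul_le_mul_left _ (h.ncard_swap_two_le hab)

end Pre

end CL.Zass
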