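import Cfsg.Agent.Zass.Invol

/-!
# The kernel of a point stabiliser
-/

set_option autoImplicit false

namespace CL.Zass

open MulAction

variable {G Ω : Type*} [Group G] [MulAction G Ω]

/-- `F` consists of the identity and the elements whose only fixed point is `a`. -/
def IsKer (a : Ω) (F : Subgroup G) : Prop :=
  ∀ g : G, g ∈ F ↔ g = 1 ∨ (g • a = a ∧ ∀ c : Ω, g • c = c → c = a)

namespace Pre

theorem ncard_stab_two (h : Pre G Ω) [Finite Ω] {a b : Ω} (hab : a ≠ b) :
    {g : G | nfix Ω g = 2 ∧ g • a = a}.ncard = (Nat.card Ω - 1) * (Nat.card (st2 G a b) - 1) := by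
  have := h.finite
  have hI : ∀ k g : G, g ∈ {s : G | nfix Ω s = 2} → k * g * k⁻¹ ∈ {s : G | nfix Ω s = 2} := by
    intro k g h2
    change nfix Ω _ = 2
    rw [nfix_conj]; exact h2
  have e1 := h.count_points _ (fun g x => g • x = x) hI
    (fun k g x _ hr => (conj_fix_iff k g x).2 hr) 2 (fun g hg => hg) a
  have e2 := h.count_pairs _ (fun g x y => g ∈ st2 G x y) hI
    (fun k g x y _ hr => conj_mem_st2 k hr) 2 (fun g hg => h.ncard_fixed_pairs hg) hab
  have e3 : {g : G | g ∈ {s : G | nfix Ω s = 2} ∧ g ∈ st2 G a b} = (st2 G a b : Set G) \ {1} := by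
    ext g
    simp only [Set.mem_ofPred_eq, Set.mem_sdiff, SetLike.mem_coe, Set.mem_singleton_iff]
    exact ⟨fun hg => ⟨hg.2, h.ne_one_of_nfix_le hg.1.le⟩,
      fun hg => ⟨h.nfix_of_mem_st2 hab hg.1 hg.2, hg.1⟩⟩
  rw [e3, Set.ncard_sdiff_singleton_of_mem (by simp), e1, mul_assoc] at e2
  have h3 := h.three_le_card
  exact Nat.eq_of_mul_eq_mul_left (by omega) e2

/-- the number of elements with exactly two fixed points -/
theorem ncard_nfix_two (h : Pre G Ω) [Finite Ω] {a b : Ω} (hab : a ≠ b) :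
    {g : G | nfix Ω g = 2}.ncard * 2 =
      Nat.card Ω * (Nat.card Ω - 1) * (Nat.card (st2 G a b) - 1) := by
  have := h.finite
  have hI : ∀ k g : G, g ∈ {s : G | nfix Ω s = 2} → k * g * k⁻¹ ∈ {s : G | nfix Ω s = 2} := by
    intro k g h2
    change nfix Ω _ = 2
    rw [nfix_conj]; exact h2
  have e1 := h.count_points _ (fun g x => g • x = x) hI
    (fun k g x _ hr => (conj_fix_iff k g x).2 hr) 2 (fun g hg => hg) a
  rw [e1, mul_assoc, ← h.ncard_stab_two hab]
  rfl

theorem ncard_kerSet (h : Pre G Ω) [Finite Ω] (a : Ω) :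
    {g : G | g = 1 ∨ (g • a = a ∧ ∀ c : Ω, g • c = c → c = a)}.ncard = Nat.card Ω - 1 := by
  have := h.finite
  obtain ⟨b, hb⟩ := h.exists_ne a
  have e1 := h.ncard_stab_two hb.symm
  have e2 := h.card_stabilizer hb.symm
  have e3 : (stabilizer G a : Set G) = {g : G | g = 1 ∨ (g • a = a ∧ ∀ c : Ω, g • c = c → c = a)} ∪
      {g : G | nfix Ω g = 2 ∧ g • a = a} := by
    ext g
    simp only [SetLike.mem_coe, mem_stabilizer_iff, Set.mem_union, Set.mem_ofPred_eq]
    constructor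
    · intro hg
      by_cases h1 : g = 1
      · exact Or.inl (Or.inl h1)
      by_cases h2 : ∀ c : Ω, g • c = c → c = a
      · exact Or.inl (Or.inr ⟨hg, h2⟩)
      · push Not at h2
        obtain ⟨c, hc, hca⟩ := h2
        exact Or.inr ⟨h.nfix_of_mem_st2 hca.symm (x := g) ⟨hg, hc⟩ h1, hg⟩
    · rintro ((rfl | hg) | hg)
      · simp
      · exact hg.1
      · exact hg.2
  have e4 : Disjoint {g : G | g = 1 ∨ (g • a = a ∧ ∀ c : Ω, g • c = c → c = a)}
      {g : G | nfix Ω g = 2 ∧ g • a = a} := by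
    rw [Set.disjoint_left]
    rintro g (rfl | hg) hg'
    · exact h.ne_one_of_nfix_le hg'.1.le rfl
    · have : nfix Ω g = 1 := nfix_eq_one_iff.2 ⟨a, hg⟩
      have := hg'.1
      omega
  have e5 := Set.ncard_union_eq e4
  rw [← e3, ← Nat.card_coe_set_eq, e1] at e5
  have e6 : Nat.card (stabilizer G a) = _ := e5
  rw [e2] at e6
  have hd : 0 < Nat.card (st2 G a b) := Nat.card_pos
  obtain ⟨d, hd'⟩ : ∃ d, Nat.card (st2 G a b) = d + 1 := ⟨_, (Nat.succ_pred_eq_of_pos hd).symm⟩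
  rw [hd', Nat.add_sub_cancel, mul_add, mul_one] at e6
  omega

theorem isKer_of_card (h : Pre G Ω) [Finite Ω] {a : Ω} {F : Subgroup G}
    (hFa : F ≤ stabilizer G a) (hcard : Nat.card F + 1 = Nat.card Ω)
    (hfix : ∀ u ∈ F, u ≠ 1 → ∀ c : Ω, u • c = c → c = a) : IsKer a F := by
  have := h.finite
  have hsub : (F : Set G) ⊆ {g : G | g = 1 ∨ (g • a = a ∧ ∀ c : Ω, g • c = c → c = a)} := by
    intro u hu
    by_cases h1 : u = 1
    · exact Or.inl h1
    · exact Or.inr ⟨hFa hu, hfix u hu h1⟩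
  have heq := Set.eq_of_subset_of_ncard_le hsub (by
    rw [h.ncard_kerSet a, ← Nat.card_coe_set_eq]
    change _ ≤ Nat.card F
    omega)
  intro g
  exact Set.ext_iff.1 heq g

theorem isKer_of_regular (h : Pre G Ω) [Finite Ω] {a : Ω} {F : Subgroup G}
    (hFa : F ≤ stabilizer G a)
    (hreg : ∀ y z : Ω, y ≠ a → z ≠ a → ∃! u : F, (u : G) • y = z) : IsKer a F := by
  have := h.finite
  obtain ⟨b, hb⟩ := h.exists_ne a
  apply h.isKer_of_card hFa
  · have e : F ≃ ({a}ᶜ : Set Ω) := by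
      refine Equiv.ofBijective (fun u => ⟨(u : G) • b, fun hh => hb ?_⟩) ⟨?_, ?_⟩
      · have : (u : G) • b = (u : G) • a := by rw [hFa u.2]; exact hh
        exact smul_left_cancel _ this
      · intro u v huv
        have huv' : (u : G) • b = (v : G) • b := congrArg Subtype.val huv
        have hne : (v : G) • b ≠ a := fun hh => hb (by
          have : (v : G) • b = (v : G) • a := by rw [hFa v.2]; exact hh
          exact smul_left_cancel _ this)
        exact (hreg b _ hb hne).unique huv' rfl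
      · rintro ⟨z, hz⟩
        obtain ⟨u, hu, -⟩ := hreg b z hb hz
        exact ⟨u, Subtype.ext hu⟩
    rw [Nat.card_congr e, Nat.card_coe_set_eq, Set.ncard_compl, Set.ncard_singleton]
    have := h.three_le_card
    omega
  · intro u hu h1 c hc
    by_contra hca
    apply h1
    have := (hreg c c hca hca).unique (y₁ := ⟨u, hu⟩) (y₂ := 1) hc (by simp)
    exact congrArg Subtype.val this

end Pre

namespace IsKer

variable {a : Ω} {F : Subgroup G}

theorem smul_eq (hF : IsKer a F) {u : G} (hu : u ∈ F) : u • a = a := by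
  rcases (hF u).1 hu with rfl | hu
  · simp
  · exact hu.1

theorem le (hF : IsKer a F) : F ≤ stabilizer G a := fun _ hu => hF.smul_eq hu

theorem fix (hF : IsKer a F) {u : G} (hu : u ∈ F) (hu1 : u ≠ 1) {c : Ω} (hc : u • c = c) :
    c = a := by
  rcases (hF u).1 hu with rfl | hu
  · exact absurd rfl hu1
  · exact hu.2 c hc

theorem eq_one (hF : IsKer a F) {u : G} (hu : u ∈ F) {c : Ω} (hca : c ≠ a) (hc : u • c = c) :
    u = 1 := by
  by_contra h1
  exact hca (hF.fix hu h1 hc)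

theorem eq_of_smul_eq (hF : IsKer a F) {u v : G} (hu : u ∈ F) (hv : v ∈ F) {c : Ω} (hca : c ≠ a)
    (hc : u • c = v • c) : u = v := by
  have : v⁻¹ * u = 1 := hF.eq_one (F.mul_mem (F.inv_mem hv) hu) hca
    (by rw [mul_smul, hc, inv_smul_smul])
  rw [inv_mul_eq_one] at this
  exact this.symm

theorem smul_ne (hF : IsKer a F) {u : G} (hu : u ∈ F) {c : Ω} (hca : c ≠ a) : u • c ≠ a := by
  intro hh
  apply hca
  have : u • c = u • a := by rw [hF.smul_eq hu]; exact hh
  exact smul_left_cancel _ this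

theorem nfix_eq (hF : IsKer a F) {u : G} (hu : u ∈ F) (hu1 : u ≠ 1) : nfix Ω u = 1 :=
  nfix_eq_one_iff.2 ⟨a, hF.smul_eq hu, fun _ hc => hF.fix hu hu1 hc⟩

theorem mem_of_nfix (hF : IsKer a F) {u : G} (hu : u • a = a) (h1 : nfix Ω u = 1) : u ∈ F := by
  obtain ⟨c, -, hc⟩ := nfix_eq_one_iff.1 h1
  refine (hF u).2 (Or.inr ⟨hu, fun d hd => ?_⟩)
  rw [hc d hd, hc a hu]

theorem mem_or_exists (hF : IsKer a F) {g : G} (hg : g • a = a) :
    g ∈ F ∨ ∃ c, c ≠ a ∧ g • c = c := by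
  by_cases h2 : ∀ c : Ω, g • c = c → c = a
  · exact Or.inl ((hF g).2 (Or.inr ⟨hg, h2⟩))
  · push Not at h2
    obtain ⟨c, hc, hca⟩ := h2
    exact Or.inr ⟨c, hca, hc⟩

theorem unique {F' : Subgroup G} (hF : IsKer a F) (hF' : IsKer a F') : F = F' := by
  ext g
  rw [hF g, hF' g]

theorem conj_mem_of_smul {c : Ω} {F' : Subgroup G} (hF : IsKer a F) (hF' : IsKer c F') {k : G}
    (hk : k • a = c) {u : G} (hu : u ∈ F) : k * u * k⁻¹ ∈ F' := by
  by_cases h1 : u = 1
  · simp [h1]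
  refine (hF' _).2 (Or.inr ⟨?_, fun d hd => ?_⟩)
  · rw [← hk, conj_fix_iff]; exact hF.smul_eq hu
  · have : (k * u * k⁻¹) • (k • k⁻¹ • d) = k • k⁻¹ • d := by simpa using hd
    rw [conj_fix_iff] at this
    rw [← hk, ← hF.fix hu h1 this, smul_inv_smul]

theorem conj_mem (hF : IsKer a F) {k : G} (hk : k • a = a) {u : G} (hu : u ∈ F) :
    k * u * k⁻¹ ∈ F := hF.conj_mem_of_smul hF hk hu

theorem conj_mem' (hF : IsKer a F) {k : G} (hk : k • a = a) {u : G} (hu : u ∈ F) :
    k⁻¹ * u * k ∈ F := by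
  simpa using hF.conj_mem (k := k⁻¹) (by rw [inv_smul_eq_iff, hk]) hu

theorem map_conj (hF : IsKer a F) (k : G) :
    IsKer (k • a) (F.map (MulAut.conj k).toMonoidHom) := by
  intro g
  constructor
  · rintro ⟨u, hu, rfl⟩
    by_cases h1 : u = 1
    · left; simp [h1]
    · right
      refine ⟨(conj_fix_iff k u a).2 (hF.smul_eq hu), fun d hd => ?_⟩
      have : (k * u * k⁻¹) • (k • k⁻¹ • d) = k • k⁻¹ • d := by simpa using hd
      rw [conj_fix_iff] at this
      rw [← hF.fix hu h1 this, smul_inv_smul]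
  · rintro (rfl | ⟨h1, h2⟩)
    · exact Subgroup.one_mem _
    · refine ⟨k⁻¹ * g * k, (hF _).2 (Or.inr ⟨?_, fun c hc => ?_⟩), by simp [mul_assoc]⟩
      · rw [mul_smul, mul_smul, h1, inv_smul_smul]
      · rw [mul_smul, mul_smul, inv_smul_eq_iff] at hc
        exact smul_left_cancel k (h2 _ hc)

theorem normal (hF : IsKer a F) : (F.subgroupOf (stabilizer G a)).Normal :=
  ⟨fun u hu k => hF.conj_mem (u := u) k.2 hu⟩

/-- TI property -/
theorem smul_eq_of_conj_mem (hF : IsKer a F) {u g : G} (hu : u ∈ F) (hu1 : u ≠ 1)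
    (hg : g * u * g⁻¹ ∈ F) : g • a = a :=
  hF.fix hg (by simpa using hu1) ((conj_fix_iff g u a).2 (hF.smul_eq hu))

theorem smul_eq_of_conj_smul (hF : IsKer a F) {u g : G} (hu : u ∈ F) (hu1 : u ≠ 1)
    (hg : (g * u * g⁻¹) • a = a) : g • a = a := by
  have : u • (g⁻¹ • a) = g⁻¹ • a := by
    rw [mul_smul, mul_smul, ← eq_inv_smul_iff] at hg
    exact hg
  have := hF.fix hu hu1 this
  rw [inv_smul_eq_iff] at this
  exact this.symm

theorem card_eq (hF : IsKer a F) (h : Pre G Ω) [Finite Ω] : Nat.card F = Nat.card Ω - 1 := by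
  rw [← h.ncard_kerSet a, ← Nat.card_coe_set_eq]
  exact Nat.card_congr (Equiv.subtypeEquivRight hF)

theorem card_add_one (hF : IsKer a F) (h : Pre G Ω) [Finite Ω] : Nat.card F + 1 = Nat.card Ω := by
  have := h.three_le_card
  rw [hF.card_eq h]
  omega

theorem ne_bot (hF : IsKer a F) (h : Pre G Ω) [Finite Ω] : F ≠ ⊥ := by
  rintro rfl
  have h1 := hF.card_add_one h
  have := h.three_le_card
  simp at h1
  omega

theorem exists_ne_one (hF : IsKer a F) (h : Pre G Ω) [Finite Ω] : ∃ u ∈ F, u ≠ 1 := by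
  by_contra hcon
  push Not at hcon
  exact hF.ne_bot h ((Subgroup.eq_bot_iff_forall F).2 hcon)

theorem exists_smul (hF : IsKer a F) (h : Pre G Ω) [Finite Ω] {y z : Ω} (hy : y ≠ a)
    (hz : z ≠ a) : ∃ u ∈ F, u • y = z := by
  have := h.finite
  let f : F → ({a}ᶜ : Set Ω) := fun u => ⟨(u : G) • y, hF.smul_ne u.2 hy⟩
  have hinj : Function.Injective f := fun u v huv =>
    Subtype.ext (hF.eq_of_smul_eq u.2 v.2 hy (congrArg Subtype.val huv))
  have hbij : Function.Bijective f := by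
    apply hinj.bijective_of_nat_card_le
    rw [hF.card_eq h, Nat.card_coe_set_eq, Set.ncard_compl, Set.ncard_singleton]
  obtain ⟨u, hu⟩ := hbij.2 ⟨z, hz⟩
  exact ⟨u, u.2, congrArg Subtype.val hu⟩

theorem regular (hF : IsKer a F) (h : Pre G Ω) [Finite Ω] (y z : Ω) (hy : y ≠ a)
    (hz : z ≠ a) : ∃! u : F, (u : G) • y = z := by
  obtain ⟨u, hu, huy⟩ := hF.exists_smul h hy hz
  exact ⟨⟨u, hu⟩, huy, fun v hv => Subtype.ext (hF.eq_of_smul_eq v.2 hu hy (hv.trans huy.symm))⟩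

theorem decomp (hF : IsKer a F) (h : Pre G Ω) [Finite Ω] {b : Ω} (hab : a ≠ b) {g : G}
    (hg : g • a = a) : ∃ u ∈ F, ∃ x ∈ st2 G a b, g = u * x := by
  have hgb : g • b ≠ a := fun hh => hab (smul_left_cancel g (hg.trans hh.symm))
  obtain ⟨u, hu, hub⟩ := hF.exists_smul h hab.symm hgb
  refine ⟨u, hu, u⁻¹ * g, ⟨?_, ?_⟩, by simp⟩
  · change (u⁻¹ * g) • a = a
    rw [mul_smul, hg, inv_smul_eq_iff, hF.smul_eq hu]
  · change (u⁻¹ * g) • b = b
    rw [mul_smul, inv_smul_eq_iff, hub]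

/-- an element fixing `a` and outside the kernel is conjugate under the kernel into `st2 a b` -/
theorem exists_conj_mem_st2 (hF : IsKer a F) (h : Pre G Ω) [Finite Ω] {b : Ω} (hab : a ≠ b) {g : G}
    (hg : g • a = a) (hgF : g ∉ F) : ∃ u ∈ F, u * g * u⁻¹ ∈ st2 G a b := by
  obtain ⟨c, hca, hc⟩ := (hF.mem_or_exists hg).resolve_left hgF
  obtain ⟨u, hu, huc⟩ := hF.exists_smul h hca hab.symm
  refine ⟨u, hu, ?_⟩
  have := conj_mem_st2 u (show g ∈ st2 G a c from ⟨hg, hc⟩)
  rwa [hF.smul_eq hu, huc] at this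

theorem eq_one_of_mem_st2 (hF : IsKer a F) {b : Ω} (hab : a ≠ b) {u : G} (hu : u ∈ F)
    (hu' : u ∈ st2 G a b) : u = 1 := hF.eq_one hu hab.symm hu'.2

/-- the centraliser of a non-identity element of the kernel lies in the kernel -/
theorem mem_of_commute (hF : IsKer a F) (h : Pre G Ω) {u g : G} (hu : u ∈ F) (hu1 : u ≠ 1)
    (hg : g * u = u * g) : g ∈ F := by
  have hga : g • a = a := hF.smul_eq_of_conj_mem hu hu1 (by rw [hg, mul_inv_cancel_right]; exact hu)
  rcases hF.mem_or_exists hga with hgF | ⟨c, hca, hc⟩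
  · exact hgF
  have h1 : g • u • c = u • c := by rw [← mul_smul, hg, mul_smul, hc]
  have h2 : u • c ≠ c := fun hh => hca (hF.fix hu hu1 hh)
  rw [h.three g hca.symm h2.symm (hF.smul_ne hu hca).symm hga hc h1]
  exact F.one_mem

/-- the two-point stabiliser acts fixed-point-freely on the kernel -/
theorem eq_one_of_commute (hF : IsKer a F) (h : Pre G Ω) {b : Ω} (hab : a ≠ b) {u x : G}
    (hu : u ∈ F) (hx : x ∈ st2 G a b) (hx1 : x ≠ 1) (hc : x * u = u * x) : u = 1 := by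
  by_contra hu1
  exact hx1 (hF.eq_one_of_mem_st2 hab (hF.mem_of_commute h hu hu1 hc) hx)

theorem eq_one_of_commute' (hF : IsKer a F) (h : Pre G Ω) {u x : G}
    (hu : u ∈ F) (hx : x ∉ F) (hc : x * u = u * x) : u = 1 := by
  by_contra hu1
  exact hx (hF.mem_of_commute h hu hu1 hc)

theorem normalizer_eq (hF : IsKer a F) (h : Pre G Ω) [Finite Ω] :
    Subgroup.normalizer (F : Set G) = stabilizer G a := by
  ext g
  rw [Subgroup.mem_normalizer_iff]
  constructor
  · intro hg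
    obtain ⟨u, hu, hu1⟩ := hF.exists_ne_one h
    exact hF.smul_eq_of_conj_mem hu hu1 ((hg u).1 hu)
  · intro hg u
    refine ⟨fun hu => hF.conj_mem hg hu, fun hu => ?_⟩
    have := hF.conj_mem' hg hu
    simpa [mul_assoc] using this

/-- a subgroup normalised by the kernel and containing an element of `G_a` outside the kernel
contains the kernel -/
theorem le_of_mem_of_notMem (hF : IsKer a F) (h : Pre G Ω) [Finite Ω] {N : Subgroup G}
    (hN : ∀ u ∈ F, ∀ x ∈ N, u * x * u⁻¹ ∈ N) {x : G} (hxN : x ∈ N) (hxa : x • a = a)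
    (hxF : x ∉ F) : F ≤ N := by
  have := h.finite
  let f : F → F := fun u => ⟨u * (x * (u : G)⁻¹ * x⁻¹), F.mul_mem u.2 (hF.conj_mem hxa (F.inv_mem u.2))⟩
  have hinj : Function.Injective f := by
    intro u v huv
    have h1 : (u : G) * (x * (u : G)⁻¹ * x⁻¹) = v * (x * (v : G)⁻¹ * x⁻¹) := congrArg Subtype.val huv
    have h2 : x * ((v : G)⁻¹ * u) = ((v : G)⁻¹ * u) * x := by
      have : (u : G) * x * (u : G)⁻¹ = v * x * (v : G)⁻¹ := by
        calc (u : G) * x * (u : G)⁻¹ = (u : G) * (x * (u : G)⁻¹ * x⁻¹) * x := by group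
          _ = v * x * (v : G)⁻¹ := by rw [h1]; group
      calc x * ((v : G)⁻¹ * u) = (v : G)⁻¹ * (v * x * (v : G)⁻¹) * u := by group
        _ = ((v : G)⁻¹ * u) * x := by rw [← this]; group
    have h3 := hF.eq_one_of_commute' h (F.mul_mem (F.inv_mem v.2) u.2) hxF h2
    rw [inv_mul_eq_one] at h3
    exact Subtype.ext h3.symm
  have hsurj : Function.Surjective f := Finite.surjective_of_injective hinj
  intro w hw
  obtain ⟨u, hu⟩ := hsurj ⟨w, hw⟩
  have h1 : (u : G) * (x * (u : G)⁻¹ * x⁻¹) = w := congrArg Subtype.val hu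
  rw [← h1]
  have := N.mul_mem (hN u u.2 x hxN) (N.inv_mem hxN)
  simpa [mul_assoc] using this

/-- the orbits of the two-point stabiliser on an invariant subset of the kernel -/
theorem card_st2_dvd_ncard (hF : IsKer a F) (h : Pre G Ω) [Finite Ω] {b : Ω} (hab : a ≠ b)
    {D : Subgroup G} (hD : D ≤ st2 G a b) {S : Set G} (hS : S ⊆ F) (hS1 : (1 : G) ∉ S)
    (hinv : ∀ x ∈ D, ∀ u ∈ S, x * u * x⁻¹ ∈ S) : Nat.card D ∣ S.ncard := by
  classical
  have := h.finite
  let T : SubMulAction D Ω :=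
    { carrier := (fun u : G => u • b) '' S
      smul_mem' := by
        rintro ⟨x, hx⟩ c ⟨u, hu, rfl⟩
        refine ⟨x * u * x⁻¹, hinv x hx u hu, ?_⟩
        change (x * u * x⁻¹) • b = x • u • b
        rw [← conj_smul_smul, (hD hx).2] }
  have hT : Nat.card T = S.ncard := by
    change Nat.card ((fun u : G => u • b) '' S) = _
    rw [Nat.card_coe_set_eq]
    exact Set.InjOn.ncard_image (fun u hu v hv huv => hF.eq_of_smul_eq (hS hu) (hS hv) hab.symm huv)
  rw [← hT]
  have hfree : ∀ c : T, stabilizer D c = ⊥ := by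
    rintro ⟨c, u, hu, rfl⟩
    rw [eq_bot_iff]
    rintro ⟨g, hg⟩ hgc
    have hgc' : g • u • b = u • b := congrArg Subtype.val hgc
    rw [Subgroup.mem_bot]
    have h1 : u • b ≠ b := fun hh => hS1 (by rwa [← hF.eq_one (hS hu) hab.symm hh])
    exact Subtype.ext (h.three g hab h1.symm (hF.smul_ne (hS hu) hab.symm).symm (hD hg).1 (hD hg).2 hgc')
  have e := selfEquivOrbitsQuotientProd (G := D) (X := T) hfree
  rw [Nat.card_congr e, Nat.card_prod]
  exact dvd_mul_left _ _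

end IsKer

end CL.Zass
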